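import Cfsg.Agent.Lib.Fus.Fi23Two.Chart
import Cfsg.Agent.Lib.Fus.Fi22Two.NatPair

/-!
Centralisers of shape `(2² × 2¹⁺⁸)(3 × U₄(2))2`: the centraliser of an involution of the centre of `J` modulo
that involution has the shape `(2 × 2¹⁺⁸) Aut(U₄(2))` at the image of `z`.
-/

set_option autoImplicit false
set_option linter.unusedSectionVars false

namespace Cfsg.Agent.Fus.Fi23Two

open Cfsg.Agent.Fus.U62Rec (Q4 CC)
open Cfsg.Agent.Fus.U62Red (Kind el)
open Cfsg.Agent.Invol.ExtraEight (app)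

variable {G : Type*} [Group G]

namespace Top

variable (T : Top G)

/-- An element moving `J` only within its centre. -/
def Small (g : G) : Prop := g ∈ CC T.z ∧ ∀ y ∈ T.J, T.InZ (g * y * g⁻¹ * y⁻¹)

variable {T}

theorem Small.mul {a b : G} (ha : T.Small a) (hb : T.Small b) : T.Small (a * b) :=
  ⟨mul_mem ha.1 hb.1, fun y hy => by
    rw [show a * b * y * (a * b)⁻¹ * y⁻¹ = a * (b * y * b⁻¹ * y⁻¹) * a⁻¹ * (a * y * a⁻¹ * y⁻¹) by group]
    exact T.inZ_mul (T.inZ_conj ha.1 (hb.2 y hy)) (ha.2 y hy)⟩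

theorem Small.inv {a : G} (ha : T.Small a) : T.Small a⁻¹ :=
  ⟨inv_mem ha.1, fun y hy => by
    have h1 := T.inZ_conj (inv_mem ha.1) (ha.2 y hy)
    rw [← T.inZ_inv h1] at h1
    convert h1 using 1
    group⟩

theorem Small.conj {a g : G} (ha : T.Small a) (hg : g ∈ CC T.z) : T.Small (g * a * g⁻¹) :=
  ⟨mul_mem (mul_mem hg ha.1) (inv_mem hg), fun y hy => by
    have h := T.inZ_conj hg (ha.2 _ (T.norm _ (inv_mem hg) y hy))
    convert h using 1
    group⟩

/-- An element of the centraliser fixing an involution of the four-group and moving `J` only within its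
centre lies in `J`. -/
theorem Small.mem_J [Finite G] {h w : G} (hs : T.Small h) (hw : w ∈ T.W) (hw1 : w ≠ 1) (e : h * w = w * h) :
    h ∈ T.J := by
  refine T.mem_J_of_outer hs.1 hw hw1 e fun u hu => ?_
  have hk : T.Small (h * u * h⁻¹ * u⁻¹) := by
    have := hs.mul (hs.inv.conj (T.NC hu))
    convert this using 1
    group
  exact T.trivial_mem_J (mul_mem (T.N_norm hs.1 hu) (inv_mem hu)) hk.2

end Top

/-- An involution of the centre of `J` outside `⟨z⟩`, with its component `w` in the four-group and another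
involution `d` there. -/
structure Pt {G : Type*} [Group G] (T : Top G) where
  v : G
  w : G
  d : G
  hw : w ∈ T.W
  w1 : w ≠ 1
  hd : d ∈ T.W
  d1 : d ≠ 1
  dw : d ≠ w
  hv : v = w ∨ v = w * T.z

namespace Pt

variable {T : Top G} (p : Pt T)

theorem v_inZ : T.InZ p.v := by
  rcases p.hv with e | e <;> rw [e]
  exacts [T.inZ_of_W p.hw, T.inZ_Wz p.hw]

theorem vv : p.v * p.v = 1 := T.inZ_sq p.v_inZ

theorem v_inv : p.v⁻¹ = p.v := T.inZ_inv p.v_inZ

theorem v_J : p.v ∈ T.J := T.inZ_mem p.v_inZ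

theorem v_ne : p.v ≠ 1 := by
  rcases p.hv with e | e <;> rw [e]
  · exact p.w1
  · exact fun e => T.zW (by rw [← T.z_inv, ← eq_inv_of_mul_eq_one_left e]; exact p.hw)

theorem v_z : p.v ≠ T.z := by
  rcases p.hv with e | e <;> rw [e]
  · exact fun e => T.zW (e ▸ p.hw)
  · exact fun e => p.w1 (mul_eq_right.1 e)

theorem vz_ne : p.v * T.z ≠ 1 := fun e => p.v_z (by rw [← T.z_inv]; exact eq_inv_of_mul_eq_one_left e)

/-- Commuting with `v` in the centraliser of `z` is fixing `w`. -/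
theorem comm_iff {h : G} (hh : h ∈ CC T.z) : h * p.v = p.v * h ↔ h * p.w = p.w * h := by
  rcases p.hv with e | e <;> rw [e]
  constructor <;> intro k
  · refine mul_right_cancel (b := T.z) ?_
    rw [mul_assoc, k, mul_assoc, ← T.comm_z hh, ← mul_assoc]
  · rw [← mul_assoc, k, mul_assoc, T.comm_z hh, mul_assoc]

theorem N_v {u : G} (hu : u ∈ T.N) : u ∈ CC p.v :=
  Subgroup.mem_centralizer_singleton_iff.2 (T.inZ_comm hu p.v_inZ)

theorem J_v {x : G} (hx : x ∈ T.J) : x ∈ CC p.v := p.N_v (T.JN hx)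

theorem comm_v {u : G} (hu : u ∈ CC p.v) : u * p.v = p.v * u := Subgroup.mem_centralizer_singleton_iff.1 hu

theorem fix_w {h : G} (hh : h ∈ CC T.z) (hv : h ∈ CC p.v) : h * p.w = p.w * h :=
  (p.comm_iff hh).1 (p.comm_v hv)

/-- The kernel. -/
def K : Subgroup ↥(CC p.v) := Subgroup.zpowers ⟨p.v, p.J_v p.v_J⟩

theorem mem_K {x : ↥(CC p.v)} : x ∈ p.K ↔ (x : G) = 1 ∨ (x : G) = p.v := by
  constructor
  · rintro ⟨i, rfl⟩
    have h2 : (⟨p.v, p.J_v p.v_J⟩ : ↥(CC p.v)) ^ (2 : ℤ) = 1 := by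
      rw [zpow_two]; exact Subtype.ext p.vv
    rcases Int.even_or_odd' i with ⟨k, rfl | rfl⟩
    · left; simp [zpow_mul, h2]
    · right; simp [zpow_add, zpow_mul, h2]
  · rintro (e | e)
    · rw [show x = 1 from Subtype.ext e]; exact one_mem _
    · rw [show x = ⟨p.v, p.J_v p.v_J⟩ from Subtype.ext e]; exact Subgroup.mem_zpowers _

instance K_normal : p.K.Normal := ⟨fun x hx g => by
  rw [p.mem_K] at hx ⊢
  push_cast
  rcases hx with e | e <;> rw [e]
  · left; group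
  · right; rw [p.comm_v g.2, mul_inv_cancel_right]⟩

/-- The quotient. -/
abbrev X : Type _ := ↥(CC p.v) ⧸ p.K

/-- The quotient map on the centraliser. -/
def bar (x : G) (h : x ∈ CC p.v) : p.X := QuotientGroup.mk ⟨x, h⟩

theorem exists_mk (q : p.X) : ∃ x h, q = p.bar x h := by
  obtain ⟨u, rfl⟩ := QuotientGroup.mk_surjective q
  exact ⟨u, u.2, rfl⟩

theorem mk_mul {x y : G} (hx : x ∈ CC p.v) (hy : y ∈ CC p.v) :
    p.bar x hx * p.bar y hy = p.bar (x * y) (mul_mem hx hy) := rfl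

theorem mk_inv {x : G} (hx : x ∈ CC p.v) : (p.bar x hx)⁻¹ = p.bar x⁻¹ (inv_mem hx) := rfl

theorem mk_eq {x y : G} (hx : x ∈ CC p.v) (hy : y ∈ CC p.v) :
    p.bar x hx = p.bar y hy ↔ y = x ∨ y = x * p.v := by
  rw [bar, bar, QuotientGroup.eq, p.mem_K]
  push_cast
  rw [inv_mul_eq_one, inv_mul_eq_iff_eq_mul]
  exact or_congr eq_comm Iff.rfl

theorem mk_eq_one {x : G} (hx : x ∈ CC p.v) : p.bar x hx = 1 ↔ x = 1 ∨ x = p.v := by
  rw [bar, QuotientGroup.eq_one_iff, p.mem_K]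

/-- The image of a subgroup of `N`. -/
def img (S : Subgroup G) : Subgroup p.X := (S.subgroupOf (CC p.v)).map (QuotientGroup.mk' p.K)

theorem mem_img {S : Subgroup G} (hS : p.v ∈ S) {x : G} (hx : x ∈ CC p.v) : p.bar x hx ∈ p.img S ↔ x ∈ S := by
  refine ⟨fun ⟨u, hu, e⟩ => ?_, fun h => ⟨⟨x, hx⟩, h, rfl⟩⟩
  rcases (p.mk_eq u.2 hx).1 e with f | f <;> rw [f]
  exacts [hu, mul_mem hu hS]

/-- The image of `z`. -/
def zb : p.X := p.bar T.z (p.J_v T.zJ)

theorem comm_iff_mk {x y : G} (hx : x ∈ CC p.v) (hy : y ∈ CC p.v) :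
    p.bar x hx * p.bar y hy = p.bar y hy * p.bar x hx ↔ x * y * x⁻¹ = y ∨ x * y * x⁻¹ = y * p.v := by
  rw [← mul_inv_eq_iff_eq_mul, p.mk_inv, p.mk_mul, p.mk_mul, p.mk_eq]
  refine or_congr eq_comm ⟨fun e => ?_, fun e => ?_⟩
  · conv_rhs => rw [e]
    rw [mul_assoc _ p.v p.v, p.vv, mul_one]
  · rw [e, mul_assoc, p.vv, mul_one]

theorem core_conj [Finite G] (C : T.Chart) {u : G} (hu : u ∈ CC p.v)
    (e : u * T.z * u⁻¹ = T.z * p.v) : False := by
  have hN : ∀ {h : G}, h ∈ CC T.z → h ∈ CC p.v → u * h * u⁻¹ ∈ CC T.z := fun {h} h1 h2 => by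
    refine T.mem_CC ?_
    have a : Commute (u * h * u⁻¹) (T.z * p.v) := by
      rw [← e]; exact (show Commute h T.z from T.comm_z h1).map (MulAut.conj u).toMonoidHom
    have b : Commute (u * h * u⁻¹) p.v := p.comm_v (mul_mem (mul_mem hu h2) (inv_mem hu))
    have := (a.mul_right b).eq
    rwa [mul_assoc T.z, p.vv, mul_one] at this
  have hback : ∀ {h : G}, h ∈ CC T.z → h ∈ CC p.v → u⁻¹ * h * u ∈ CC T.z := fun {h} h1 h2 => by
    refine T.mem_CC ?_
    have a : Commute h (T.z * p.v) := (show Commute h T.z from T.comm_z h1).mul_right (p.comm_v h2)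
    have := (a.map (MulAut.conj u⁻¹).toMonoidHom).eq
    simp only [MulEquiv.coe_toMonoidHom, MulAut.conj_apply, inv_inv] at this
    rwa [show u⁻¹ * (T.z * p.v) * u = T.z by rw [← e]; group] at this
  have hle : T.J.map (MulAut.conj u).toMonoidHom ≤ T.J := by
    refine T.core p.hw p.w1 ?_ ?_ ((IsPGroup.of_card (n := 11) (by rw [T.card_J]; norm_num)).map _)
    · rintro _ ⟨x, hx, rfl⟩
      have h1 := hN (T.JC hx) (p.J_v hx)
      exact ⟨h1, p.fix_w h1 (mul_mem (mul_mem hu (p.J_v hx)) (inv_mem hu))⟩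
    · rintro h hh _ ⟨x, hx, rfl⟩
      refine ⟨_, T.norm _ (hback (T.NC hh) (p.N_v hh)) x hx, ?_⟩
      show u * (u⁻¹ * h * u * x * (u⁻¹ * h * u)⁻¹) * u⁻¹ = h * (u * x * u⁻¹) * h⁻¹
      group
  obtain ⟨x, hx, hx1⟩ := C.surj 1 (by norm_num)
  obtain ⟨y, hy, hxy⟩ : ∃ y ∈ T.J, x * y * x⁻¹ = y * T.z := by
    by_contra hcon
    have := (C.zero_iff x hx).2 (T.cen x (T.JC hx) fun y hy => mul_inv_eq_iff_eq_mul.1
      ((T.comm_eq hx hy).resolve_right fun k => hcon ⟨y, hy, k⟩))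
    rw [hx1] at this
    exact absurd this one_ne_zero
  have h' := congrArg (MulAut.conj u) hxy
  simp only [map_mul, map_inv, MulAut.conj_apply] at h'
  rw [e] at h'
  rcases T.comm_eq (hle ⟨x, hx, rfl⟩) (hle ⟨y, hy, rfl⟩) with f | f <;>
    simp only [MulEquiv.coe_toMonoidHom, MulAut.conj_apply] at f <;> rw [f] at h'
  · exact p.vz_ne (by
      have k := mul_eq_left.1 h'.symm
      rwa [← T.inZ_comm T.zN p.v_inZ] at *)
  · exact p.v_ne (mul_eq_left.1 (mul_left_cancel h').symm)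

theorem mem_CC_zb [Finite G] (C : T.Chart) {x : G} (hx : x ∈ CC p.v) : p.bar x hx ∈ CC p.zb ↔ x ∈ CC T.z := by
  rw [Subgroup.mem_centralizer_singleton_iff, zb, p.comm_iff_mk]
  refine ⟨fun h => T.mem_CC (mul_inv_eq_iff_eq_mul.1 (h.resolve_right fun e => p.core_conj C hx e)),
    fun h => Or.inl (T.z_conj h)⟩

theorem exists_rep [Finite G] (C : T.Chart) {q : p.X} (hq : q ∈ CC p.zb) :
    ∃ x h, q = p.bar x h ∧ x ∈ CC T.z ∧ x * p.w = p.w * x := by
  obtain ⟨x, h, rfl⟩ := p.exists_mk q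
  have hx := (p.mem_CC_zb C h).1 hq
  exact ⟨x, h, rfl, hx, p.fix_w hx h⟩

theorem exists_rep_img {S : Subgroup G} {q : p.X} (hq : q ∈ p.img S) : ∃ x h, q = p.bar x h ∧ x ∈ S := by
  obtain ⟨u, hu, rfl⟩ := hq
  exact ⟨u, u.2, rfl, hu⟩

theorem mk_cen {x : G} (hx : x ∈ CC p.v) (h : T.InZ x) :
    p.bar x hx = 1 ∨ p.bar x hx = p.zb ∨ p.bar x hx = p.bar p.d (p.J_v (T.WJ p.hd)) ∨
      p.bar x hx = p.bar p.d (p.J_v (T.WJ p.hd)) * p.zb := by
  have hZ : p.zb * p.zb = 1 := by rw [zb, p.mk_mul, p.mk_eq_one]; exact Or.inl T.zz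
  have hDZ : p.zb * p.bar p.d (p.J_v (T.WJ p.hd)) = p.bar p.d (p.J_v (T.WJ p.hd)) * p.zb := by
    rw [zb, p.mk_mul, p.mk_mul, p.mk_eq]; exact Or.inl (T.N_comm T.zN p.hd).symm
  have hA : p.bar p.w (p.J_v (T.WJ p.hw)) = 1 ∨ p.bar p.w (p.J_v (T.WJ p.hw)) = p.zb := by
    rcases p.hv with k | k
    · left; rw [p.mk_eq_one, k]; exact Or.inr rfl
    · right
      rw [zb, p.mk_eq]
      right
      rw [k, ← mul_assoc, T.W_sq _ p.hw, one_mul]
  obtain ⟨a, ha, e⟩ := T.inZ_cases h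
  have hav := p.J_v (T.WJ ha)
  have e' : p.bar x hx = p.bar a hav ∨ p.bar x hx = p.bar a hav * p.zb := by
    rcases e with e | e
    · left; rw [p.mk_eq]; exact Or.inl e.symm
    · right; rw [zb, p.mk_mul, p.mk_eq]; exact Or.inl e.symm
  have ea : p.bar a hav = 1 ∨ p.bar a hav = p.zb ∨ p.bar a hav = p.bar p.d (p.J_v (T.WJ p.hd)) ∨
      p.bar a hav = p.bar p.d (p.J_v (T.WJ p.hd)) * p.zb := by
    rcases T.W_third p.hw p.w1 p.hd p.d1 p.dw ha with f | f | f | f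
    · left; rw [p.mk_eq_one]; exact Or.inl f
    · subst f
      exact hA.imp id Or.inl
    · subst f
      exact Or.inr (Or.inr (Or.inl rfl))
    · have k : p.bar a hav = p.bar p.w (p.J_v (T.WJ p.hw)) * p.bar p.d (p.J_v (T.WJ p.hd)) := by
        rw [p.mk_mul, p.mk_eq]; exact Or.inl f.symm
      rw [k]
      rcases hA with g | g <;> rw [g]
      · exact Or.inr (Or.inr (Or.inl (one_mul _)))
      · exact Or.inr (Or.inr (Or.inr hDZ))
  rcases e' with e' | e' <;> rcases ea with g | g | g | g <;> rw [e', g] <;> simp [mul_assoc, hZ]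

/-- A representative. -/
noncomputable def rep (q : p.X) : G := (q.out : ↥(CC p.v)).1

theorem rep_mem (q : p.X) : p.rep q ∈ CC p.v := (q.out : ↥(CC p.v)).2

theorem bar_rep (q : p.X) : p.bar (p.rep q) (p.rep_mem q) = q := QuotientGroup.out_eq' _

theorem rep_N {S : Subgroup G} (hS : p.v ∈ S) {q : p.X} (hq : q ∈ p.img S) : p.rep q ∈ S :=
  (p.mem_img hS _).1 (by rw [p.bar_rep]; exact hq)

theorem rep_bar {x : G} (hx : x ∈ CC p.v) :
    p.rep (p.bar x hx) = x ∨ p.rep (p.bar x hx) = x * p.v :=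
  (p.mk_eq hx (p.rep_mem _)).1 (p.bar_rep _).symm

/-- The shape of the quotient. -/
noncomputable def base [Finite G] (C : T.Chart) : Fi22Two.Base p.X where
  z := p.zb
  d := p.bar p.d (p.J_v (T.WJ p.hd))
  J := p.img T.J
  N := p.img T.N
  zz := by rw [zb, p.mk_mul, p.mk_eq_one]; exact Or.inl T.zz
  dd := by rw [p.mk_mul, p.mk_eq_one]; exact Or.inl (T.W_sq _ p.hd)
  z_ne := fun e => ((p.mk_eq_one _).1 e).elim T.z_ne fun k => p.v_z k.symm
  d_ne := fun e => ((p.mk_eq_one _).1 e).elim p.d1 fun k => by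
    rcases p.hv with f | f <;> rw [f] at k
    · exact p.dw k
    · exact T.zW (by
        have : T.z = p.w⁻¹ * p.d := by rw [k]; group
        rw [this]; exact mul_mem (inv_mem p.hw) p.hd)
  dz := fun e => by
    rcases (p.mk_eq _ _).1 e with k | k
    · exact T.zW (k ▸ p.hd)
    rcases p.hv with f | f <;> rw [f] at k
    · exact T.zW (k ▸ mul_mem p.hd p.hw)
    · rw [← mul_assoc, eq_comm, mul_eq_right] at k
      exact p.dw ((eq_inv_of_mul_eq_one_left k).trans (T.W_inv p.hw))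
  zJ := (p.mem_img p.v_J _).2 T.zJ
  dJ := (p.mem_img p.v_J _).2 (T.WJ p.hd)
  JN := Subgroup.map_mono fun _ hx => T.JN hx
  NC := fun q hq => by
    obtain ⟨x, h, rfl, hx⟩ := p.exists_rep_img hq
    exact (p.mem_CC_zb C h).2 (T.NC hx)
  norm q hq r hr := by
    obtain ⟨x, h, rfl, hxz, -⟩ := p.exists_rep C hq
    obtain ⟨y, k, rfl, hy⟩ := p.exists_rep_img hr
    rw [p.mk_inv, p.mk_mul, p.mk_mul, p.mem_img p.v_J]
    exact T.norm x hxz y hy
  Nnorm q hq r hr := by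
    obtain ⟨x, h, rfl, hxz, -⟩ := p.exists_rep C hq
    obtain ⟨y, k, rfl, hy⟩ := p.exists_rep_img hr
    rw [p.mk_inv, p.mk_mul, p.mk_mul, p.mem_img (T.JN p.v_J)]
    exact T.N_norm hxz hy
  Nindex a ha b hb hna hnb := by
    obtain ⟨x, h, rfl, hxz, hxw⟩ := p.exists_rep C ha
    obtain ⟨y, k, rfl, hyz, hyw⟩ := p.exists_rep C hb
    rw [p.mem_img (T.JN p.v_J)] at hna hnb
    rw [p.mk_mul, p.mem_img (T.JN p.v_J)]
    exact T.N_index hxz hyz p.hw p.w1 hxw hyw hna hnb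
  dN u hu := by
    obtain ⟨x, h, rfl, hx⟩ := p.exists_rep_img hu
    rw [p.comm_iff_mk]
    exact Or.inl (mul_inv_eq_iff_eq_mul.2 (T.N_comm hx p.hd))
  sq q hq := by
    obtain ⟨x, h, rfl, hx⟩ := p.exists_rep_img hq
    rw [p.mk_mul, p.mk_eq_one]
    rcases T.sq x hx with e | e
    · exact Or.inl (Or.inl e)
    · right; rw [zb, p.mk_eq]; exact Or.inl e.symm
  comm q hq r hr := by
    obtain ⟨x, h, rfl, hx⟩ := p.exists_rep_img hq
    obtain ⟨y, k, rfl, hy⟩ := p.exists_rep_img hr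
    rw [zb, p.mk_mul, p.mk_mul, p.mk_mul, p.mk_eq, p.mk_eq]
    rcases T.comm x hx y hy with e | e
    · exact Or.inl (Or.inl e.symm)
    · exact Or.inr (Or.inl e.symm)
  cen q hq hc := by
    obtain ⟨x, h, rfl, hxz, hxw⟩ := p.exists_rep C hq
    have hs : ∀ y ∈ T.J, x * y * x⁻¹ = y ∨ x * y * x⁻¹ = y * p.v := fun y hy =>
      (p.comm_iff_mk h (p.J_v hy)).1 (hc _ ((p.mem_img p.v_J _).2 hy))
    have hsm : T.Small x := ⟨hxz, fun y hy => by
      rcases hs y hy with e | e <;> rw [e]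
      · rw [mul_inv_cancel]; exact T.inZ_one
      · rw [T.inZ_comm (T.JN hy) p.v_inZ, mul_inv_cancel_right]; exact p.v_inZ⟩
    have hxJ := hsm.mem_J p.hw p.w1 hxw
    refine p.mk_cen h (T.cen x hxz fun y hy => mul_inv_eq_iff_eq_mul.1 ?_)
    refine (hs y hy).resolve_right fun e => ?_
    rcases T.comm_eq hxJ hy with k | k <;> rw [k] at e
    · exact p.v_ne (mul_eq_left.1 e.symm)
    · exact p.v_z (mul_left_cancel e).symm
  card_J := by
    have h := Subgroup.card_eq_card_quotient_mul_card_subgroup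
      ((QuotientGroup.mk' p.K).comp (T.J.subgroupOf (CC p.v)).subtype).ker
    rw [Nat.card_congr (QuotientGroup.quotientKerEquivRange _).toEquiv, MonoidHom.range_comp,
      Subgroup.range_subtype, Nat.card_congr (Subgroup.subgroupOfEquivOfLe fun _ hx => p.J_v hx).toEquiv,
      T.card_J] at h
    have hk : Nat.card ↥((QuotientGroup.mk' p.K).comp (T.J.subgroupOf (CC p.v)).subtype).ker = 2 := by
      have e : Nat.card ↥p.K = 2 := by
        rw [K, Nat.card_zpowers, ← Subgroup.orderOf_coe]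
        exact orderOf_eq_prime (by rw [pow_two]; exact p.vv) p.v_ne
      rw [← e]
      refine Nat.card_congr
        { toFun := fun a => ⟨a.1.1, (QuotientGroup.eq_one_iff (N := p.K) _).1 (MonoidHom.mem_ker.1 a.2)⟩
          invFun := fun k => ⟨⟨k, ?_⟩, (QuotientGroup.eq_one_iff (N := p.K) _).2 k.2⟩
          left_inv := fun _ => rfl
          right_inv := fun _ => rfl }
      rw [Subgroup.mem_subgroupOf]
      rcases p.mem_K.1 k.2 with f | f <;> rw [f]
      exacts [one_mem _, p.v_J]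
    rw [hk] at h
    show Nat.card ↥((T.J.subgroupOf (CC p.v)).map (QuotientGroup.mk' p.K)) = 1024
    omega
  π := MonoidHom.mk' (fun q => T.π ⟨p.rep q.1, p.rep_N (T.JN p.v_J) q.2⟩) fun a b => by
    rw [← map_mul, ← inv_mul_eq_one, ← map_inv, ← map_mul, T.ker]
    push_cast
    have e : p.bar (p.rep ((a : p.X) * b)) (p.rep_mem _) =
        p.bar _ (mul_mem (p.rep_mem (a : p.X)) (p.rep_mem (b : p.X))) := by
      rw [← p.mk_mul (p.rep_mem (a : p.X)) (p.rep_mem (b : p.X)), p.bar_rep, p.bar_rep, p.bar_rep]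
    rcases (p.mk_eq _ _).1 e with f | f <;> rw [f]
    · simp
    · simp [p.v_J]
  surj g := by
    obtain ⟨u, rfl⟩ := T.surj g
    refine ⟨⟨p.bar u (p.N_v u.2), (p.mem_img (T.JN p.v_J) _).2 u.2⟩, ?_⟩
    show T.π _ = _
    rw [← inv_mul_eq_one, ← map_inv, ← map_mul, T.ker]
    rcases p.rep_bar (p.N_v u.2) with f | f <;> push_cast <;> rw [f]
    · simp
    · simp [p.v_J]
  ker q := by
    show T.π _ = 1 ↔ _
    rw [T.ker]
    conv_rhs => rw [← p.bar_rep q.1, p.mem_img p.v_J]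
  outer q hq hc := by
    obtain ⟨x, h, rfl, hxz, hxw⟩ := p.exists_rep C hq
    rw [p.mem_img p.v_J]
    refine T.mem_J_of_outer hxz p.hw p.w1 hxw fun u hu => ?_
    have := hc _ ((p.mem_img (T.JN p.v_J) (p.N_v hu)).2 hu)
    rwa [p.mk_inv, p.mk_inv, p.mk_mul, p.mk_mul, p.mk_mul, p.mem_img p.v_J] at this
  core P hP hn h2 := by
    have h2' : IsPGroup 2 ↥(P.comap (QuotientGroup.mk' p.K)) :=
      h2.comap_of_ker_isPGroup _ (by
        rw [QuotientGroup.ker_mk']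
        exact IsPGroup.of_card (n := 1) (by
          rw [K, Nat.card_zpowers, ← Subgroup.orderOf_coe, pow_one]
          exact orderOf_eq_prime (by rw [pow_two]; exact p.vv) p.v_ne))
    have hle : (P.comap (QuotientGroup.mk' p.K)).map (CC p.v).subtype ≤ T.J := by
      refine T.core p.hw p.w1 ?_ ?_ (h2'.map _)
      · rintro _ ⟨u, hu, rfl⟩
        have := (p.mem_CC_zb C u.2).1 (hP hu)
        exact ⟨this, p.fix_w this u.2⟩
      · rintro g hg _ ⟨u, hu, rfl⟩
        refine ⟨⟨g, p.N_v hg⟩ * u * ⟨g, p.N_v hg⟩⁻¹, ?_, rfl⟩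
        exact hn _ ((p.mem_CC_zb C (p.N_v hg)).2 (T.NC hg)) _ hu
    intro q hq
    obtain ⟨x, h, rfl⟩ := p.exists_mk q
    exact (p.mem_img p.v_J h).2 (hle ⟨⟨x, h⟩, hq, rfl⟩)

theorem cv_out (C : T.Chart) {x : G} (hx : x ∈ T.J) : C.cv (p.rep (p.bar x (p.J_v hx))) = C.cv x := by
  rcases p.rep_bar (p.J_v hx) with f | f <;> rw [f]
  rw [C.cv_mul x hx _ p.v_J, (C.zero_iff _ p.v_J).2 p.v_inZ, Nat.xor_zero]

/-- The coordinates on the quotient. -/
noncomputable def chart [Finite G] (C : T.Chart) : (p.base C).Chart .nat where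
  cv q := C.cv (p.rep q)
  lt _ := C.lt _
  cv_mul q hq r hr := by
    obtain ⟨x, h, rfl, hx⟩ := p.exists_rep_img hq
    obtain ⟨y, k, rfl, hy⟩ := p.exists_rep_img hr
    rw [p.mk_mul, p.cv_out C hx, p.cv_out C hy, p.cv_out C (mul_mem hx hy), C.cv_mul x hx y hy]
  zero_iff q hq := by
    obtain ⟨x, h, rfl, hx⟩ := p.exists_rep_img hq
    rw [p.cv_out C hx, C.zero_iff x hx]
    refine ⟨p.mk_cen h, fun e => ?_⟩
    have hd := T.inZ_of_W p.hd
    rcases e with e | e | e | e <;>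
      simp only [base, zb, p.mk_mul, p.mk_eq_one, p.mk_eq] at e <;>
      rcases e with f | f
    · rw [f]; exact T.inZ_one
    · rw [f]; exact p.v_inZ
    · rw [← f]; exact T.inZ_z
    · rw [show x = T.z * p.v by rw [f, mul_assoc, p.vv, mul_one]]; exact T.inZ_mul T.inZ_z p.v_inZ
    · rw [← f]; exact hd
    · rw [show x = p.d * p.v by rw [f, mul_assoc, p.vv, mul_one]]; exact T.inZ_mul hd p.v_inZ
    · rw [← f]; exact T.inZ_mul hd T.inZ_z
    · rw [show x = p.d * T.z * p.v by rw [f, mul_assoc, p.vv, mul_one]]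
      exact T.inZ_mul (T.inZ_mul hd T.inZ_z) p.v_inZ
  surj n hn := by
    obtain ⟨x, hx, e⟩ := C.surj n hn
    exact ⟨p.bar x (p.J_v hx), (p.mem_img p.v_J _).2 hx, by rw [p.cv_out C hx, e]⟩
  q q hq := by
    obtain ⟨x, h, rfl, hx⟩ := p.exists_rep_img hq
    rw [p.cv_out C hx, C.q x hx, p.mk_mul]
    show _ ↔ _ = p.zb
    rw [zb, p.mk_eq]
    refine ⟨fun e => Or.inl e.symm, fun e => (T.sq x hx).resolve_left fun k => ?_⟩
    rw [k, one_mul] at e
    exact e.elim T.z_ne fun f => p.v_z f.symm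
  conj w u hu q hq := by
    obtain ⟨x, h, rfl, hx⟩ := p.exists_rep_img hq
    have hr : p.rep u.1 ∈ T.N := p.rep_N (T.JN p.v_J) u.2
    have e : (u : p.X) = p.bar _ (p.N_v hr) := (p.bar_rep _).symm
    rw [e, p.mk_inv, p.mk_mul, p.mk_mul, p.cv_out C (T.norm _ (T.NC hr) x hx), p.cv_out C hx]
    exact C.conj w ⟨_, hr⟩ hu x hx
  faith u h := by
    obtain ⟨x, k, e, hx⟩ := p.exists_rep_img u.2
    show (u : p.X) ∈ p.img T.J
    rw [e, p.mem_img p.v_J]
    refine T.trivial_mem_J hx fun y hy => ?_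
    have := h (p.bar y (p.J_v hy)) ((p.mem_img p.v_J _).2 hy)
    rw [e, p.mk_inv, p.mk_mul, p.mk_mul, p.cv_out C (T.norm _ (T.NC hx) y hy), p.cv_out C hy] at this
    have hy' := T.norm _ (T.NC hx) y hy
    refine (C.zero_iff _ (mul_mem hy' (inv_mem hy))).1 ?_
    rw [C.cv_mul _ hy' _ (inv_mem hy), this, ← C.cv_mul y hy _ (inv_mem hy), mul_inv_cancel]
    exact (C.zero_iff 1 (one_mem _)).2 T.inZ_one

end Pt

end Cfsg.Agent.Fus.Fi23Two
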