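import Cfsg.Agent.Lib.Fus.U62Rec.Quot
import Cfsg.Prelude.Def_TwoFusion
import Cfsg.Prelude.Def_Transfer

/-!
Centralisers of shape `(2² × 2¹⁺⁸)(3 × U₄(2))2`: the hypotheses and the action on the four-group.
-/

set_option autoImplicit false
set_option linter.unusedSectionVars false

namespace Cfsg.Agent.Fus.Fi23Two

open Cfsg.Agent.Fus.U62Rec (Q4 CC)

/-- The centraliser of `z`: the normal 2-subgroup `J` with centre `⟨z⟩ × W`, the centraliser `N` of `W`, and an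
element `c` of order three fixed point free on `W`. -/
structure Top (G : Type*) [Group G] where
  z : G
  c : G
  J : Subgroup G
  N : Subgroup G
  W : Subgroup G
  E : Subgroup G
  zz : z * z = 1
  z_ne : z ≠ 1
  zJ : z ∈ J
  JN : J ≤ N
  norm : ∀ h ∈ CC z, ∀ x ∈ J, h * x * h⁻¹ ∈ J
  cH : c ∈ CC z
  c_three : c * c * c = 1
  WJ : W ≤ J
  card_W : Nat.card ↥W = 4
  W_sq : ∀ w ∈ W, w * w = 1
  zW : z ∉ W
  W_norm : ∀ h ∈ CC z, ∀ w ∈ W, h * w * h⁻¹ ∈ W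
  c_fpf : ∀ w ∈ W, c * w = w * c → w = 1
  N_iff : ∀ h, h ∈ N ↔ h ∈ CC z ∧ ∀ w ∈ W, h * w = w * h
  sq : ∀ x ∈ J, x * x = 1 ∨ x * x = z
  comm : ∀ x ∈ J, ∀ y ∈ J, x * y = y * x ∨ x * y = y * x * z
  cen : ∀ a ∈ CC z, (∀ y ∈ J, a * y = y * a) → a ∈ W ∨ a * z ∈ W
  card_J : Nat.card ↥J = 2048
  c_fix : ∀ x ∈ J, c * x = x * c → x = 1 ∨ x = z
  EJ : E ≤ J
  E_extra : IsExtraspecial 2 ↥E
  card_E : Nat.card ↥E = 512
  E_centre : ∀ x ∈ E, x ∈ W ∨ x * z ∈ W → x = 1 ∨ x = z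
  E_split : ∀ x ∈ J, ∃ e ∈ E, e⁻¹ * x ∈ W ∨ e⁻¹ * x * z ∈ W
  π : ↥N →* Q4
  surj : Function.Surjective π
  ker : ∀ u : ↥N, π u = 1 ↔ (u : G) ∈ J
  c_N : ∀ u ∈ N, c * u * c⁻¹ * u⁻¹ ∈ J
  c_norm : ∀ h ∈ CC z, h * c * h⁻¹ * c⁻¹ ∈ J ∨ h * c * h⁻¹ * c ∈ J
  outer : ∀ h ∈ CC z, (∀ u ∈ N, h * u * h⁻¹ * u⁻¹ ∈ J) → h ∈ J ∨ h * c ∈ J ∨ h * (c * c) ∈ J
  out : ∃ h ∈ CC z, h ∉ N ∧ h * c ∉ N ∧ h * (c * c) ∉ N

variable {G : Type*} [Group G]

namespace Top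

variable (T : Top G)

/-- The elements of the centre of `J`. -/
def InZ (x : G) : Prop := x ∈ T.W ∨ x * T.z ∈ T.W

theorem comm_z {h : G} (hh : h ∈ CC T.z) : h * T.z = T.z * h := Subgroup.mem_centralizer_singleton_iff.1 hh

theorem mem_CC {h : G} (hh : h * T.z = T.z * h) : h ∈ CC T.z := Subgroup.mem_centralizer_singleton_iff.2 hh

theorem NC {h : G} (hh : h ∈ T.N) : h ∈ CC T.z := ((T.N_iff h).1 hh).1

theorem N_comm {h w : G} (hh : h ∈ T.N) (hw : w ∈ T.W) : h * w = w * h := ((T.N_iff h).1 hh).2 w hw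

theorem JC {x : G} (hx : x ∈ T.J) : x ∈ CC T.z := T.NC (T.JN hx)

theorem zN : T.z ∈ T.N := T.JN T.zJ

theorem WN {w : G} (hw : w ∈ T.W) : w ∈ T.N := T.JN (T.WJ hw)

theorem z_inv : T.z⁻¹ = T.z := inv_eq_of_mul_eq_one_right T.zz

theorem mul_z_z (x : G) : x * T.z * T.z = x := by rw [mul_assoc, T.zz, mul_one]

theorem W_inv {w : G} (hw : w ∈ T.W) : w⁻¹ = w := inv_eq_of_mul_eq_one_right (T.W_sq w hw)

theorem W_comm {u w : G} (hu : u ∈ T.W) (hw : w ∈ T.W) : u * w = w * u := T.N_comm (T.WN hu) hw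

theorem c_inv : T.c⁻¹ = T.c * T.c := inv_eq_of_mul_eq_one_right (by rw [← mul_assoc, T.c_three])

theorem inZ_one : T.InZ 1 := Or.inl (one_mem _)

theorem inZ_z : T.InZ T.z := Or.inr (by rw [T.zz]; exact one_mem _)

theorem inZ_of_W {w : G} (hw : w ∈ T.W) : T.InZ w := Or.inl hw

theorem inZ_Wz {w : G} (hw : w ∈ T.W) : T.InZ (w * T.z) := Or.inr (by rwa [T.mul_z_z])

theorem inZ_cases {x : G} (hx : T.InZ x) : ∃ w ∈ T.W, x = w ∨ x = w * T.z := by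
  rcases hx with h | h
  · exact ⟨x, h, Or.inl rfl⟩
  · exact ⟨x * T.z, h, Or.inr (T.mul_z_z x).symm⟩

theorem inZ_mem {x : G} (hx : T.InZ x) : x ∈ T.J := by
  obtain ⟨w, hw, e⟩ := T.inZ_cases hx
  rcases e with e | e <;> rw [e]
  · exact T.WJ hw
  · exact mul_mem (T.WJ hw) T.zJ

theorem inZ_comm {u x : G} (hu : u ∈ T.N) (hx : T.InZ x) : u * x = x * u := by
  obtain ⟨w, hw, e⟩ := T.inZ_cases hx
  rcases e with e | e <;> rw [e]
  · exact T.N_comm hu hw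
  · rw [← mul_assoc, T.N_comm hu hw, mul_assoc, T.comm_z (T.NC hu), mul_assoc]

theorem inZ_mul {x y : G} (hx : T.InZ x) (hy : T.InZ y) : T.InZ (x * y) := by
  refine T.cen _ (T.JC (mul_mem (T.inZ_mem hx) (T.inZ_mem hy))) fun j hj => ?_
  rw [mul_assoc, ← T.inZ_comm (T.JN hj) hy, ← mul_assoc, ← T.inZ_comm (T.JN hj) hx, mul_assoc]

theorem inZ_sq {x : G} (hx : T.InZ x) : x * x = 1 := by
  obtain ⟨w, hw, e⟩ := T.inZ_cases hx
  rcases e with e | e <;> rw [e]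
  · exact T.W_sq w hw
  · rw [show w * T.z * (w * T.z) = w * (T.z * w) * T.z by group, ← T.comm_z (T.NC (T.WN hw)), ← mul_assoc,
      T.W_sq w hw, one_mul, T.zz]

theorem inZ_inv {x : G} (hx : T.InZ x) : x⁻¹ = x := inv_eq_of_mul_eq_one_right (T.inZ_sq hx)

theorem z_conj {h : G} (hh : h ∈ CC T.z) : h * T.z * h⁻¹ = T.z := mul_inv_eq_iff_eq_mul.2 (T.comm_z hh)

theorem inZ_conj {h x : G} (hh : h ∈ CC T.z) (hx : T.InZ x) : T.InZ (h * x * h⁻¹) := by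
  obtain ⟨w, hw, e⟩ := T.inZ_cases hx
  rcases e with e | e <;> rw [e]
  · exact Or.inl (T.W_norm h hh w hw)
  · rw [← conj_mul, T.z_conj hh]
    exact T.inZ_Wz (T.W_norm h hh w hw)

theorem comm_eq {x y : G} (hx : x ∈ T.J) (hy : y ∈ T.J) : x * y * x⁻¹ = y ∨ x * y * x⁻¹ = y * T.z := by
  rcases T.comm x hx y hy with e | e
  · exact Or.inl (mul_inv_eq_iff_eq_mul.2 e)
  · right
    rw [e, mul_assoc (y * x), ← T.comm_z (T.JC (inv_mem hx)), mul_assoc y, ← mul_assoc x, mul_inv_cancel, one_mul]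

/-! The action on the four-group. -/

/-- The images under `c` of a non-trivial element. -/
theorem c_moves {w : G} (hw : w ∈ T.W) (h1 : w ≠ 1) :
    T.c * w * T.c⁻¹ ≠ w ∧ T.c * T.c * w * (T.c * T.c)⁻¹ ≠ w ∧
      T.c * T.c * w * (T.c * T.c)⁻¹ ≠ T.c * w * T.c⁻¹ := by
  have a : T.c * w * T.c⁻¹ ≠ w := fun e => h1 (T.c_fpf w hw (mul_inv_eq_iff_eq_mul.1 e))
  refine ⟨a, fun e => a ?_, fun e => a ?_⟩
  · calc T.c * w * T.c⁻¹ = T.c * (T.c * T.c * w * (T.c * T.c)⁻¹) * T.c⁻¹ := by rw [e]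
      _ = T.c * T.c * T.c * w * (T.c * T.c * T.c)⁻¹ := by group
      _ = w := by rw [T.c_three, one_mul, inv_one, mul_one]
  · calc T.c * w * T.c⁻¹ = T.c⁻¹ * (T.c * T.c * w * (T.c * T.c)⁻¹) * T.c := by group
      _ = T.c⁻¹ * (T.c * w * T.c⁻¹) * T.c := by rw [e]
      _ = w := by group

theorem W_all {w u v : G} (hw : w ∈ T.W) (hu : u ∈ T.W) (hv : v ∈ T.W) (hw1 : w ≠ 1) (hu1 : u ≠ 1) (hv1 : v ≠ 1)
    (e1 : u ≠ w) (e2 : v ≠ w) (e3 : v ≠ u) {a : G} (ha : a ∈ T.W) : a = 1 ∨ a = w ∨ a = u ∨ a = v := by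
  classical
  haveI : Finite ↥T.W := Nat.finite_of_card_ne_zero (by rw [T.card_W]; norm_num)
  haveI := Fintype.ofFinite ↥T.W
  let S : Finset ↥T.W := {1, ⟨w, hw⟩, ⟨u, hu⟩, ⟨v, hv⟩}
  have hcard : S.card = 4 := by
    simp [S, Subtype.ext_iff, Ne.symm hw1, Ne.symm hu1, Ne.symm hv1, Ne.symm e1, Ne.symm e2, Ne.symm e3]
  have htop : S = Finset.univ := Finset.eq_univ_of_card S (by rw [hcard, ← Nat.card_eq_fintype_card, T.card_W])
  have := htop.symm ▸ Finset.mem_univ (⟨a, ha⟩ : ↥T.W)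
  simpa [S, Subtype.ext_iff] using this

theorem W_cases {w : G} (hw : w ∈ T.W) (h1 : w ≠ 1) {a : G} (ha : a ∈ T.W) :
    a = 1 ∨ a = w ∨ a = T.c * w * T.c⁻¹ ∨ a = T.c * T.c * w * (T.c * T.c)⁻¹ := by
  obtain ⟨e1, e2, e3⟩ := T.c_moves hw h1
  exact T.W_all hw (T.W_norm _ T.cH w hw) (T.W_norm _ (mul_mem T.cH T.cH) w hw) h1
    (fun e => h1 (conj_eq_one_iff.1 e)) (fun e => h1 (conj_eq_one_iff.1 e)) e1 e2 e3 ha

theorem W_third {w u : G} (hw : w ∈ T.W) (hw1 : w ≠ 1) (hu : u ∈ T.W) (hu1 : u ≠ 1) (hne : u ≠ w) {a : G}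
    (ha : a ∈ T.W) : a = 1 ∨ a = w ∨ a = u ∨ a = w * u :=
  T.W_all hw hu (mul_mem hw hu) hw1 hu1 (fun e => hne (by rw [← T.W_inv hw]; exact eq_inv_of_mul_eq_one_right e))
    hne (fun e => hu1 (mul_eq_left.1 e)) (fun e => hw1 (mul_eq_right.1 e)) ha

/-- An element of the centraliser fixing two non-trivial elements of the four-group lies in `N`. -/
theorem mem_N_of_two {h w u : G} (hh : h ∈ CC T.z) (hw : w ∈ T.W) (hw1 : w ≠ 1) (hu : u ∈ T.W) (hu1 : u ≠ 1)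
    (hne : u ≠ w) (e : h * w = w * h) (f : h * u = u * h) : h ∈ T.N := by
  refine (T.N_iff h).2 ⟨hh, fun a ha => ?_⟩
  rcases T.W_third hw hw1 hu hu1 hne ha with rfl | rfl | rfl | rfl
  · rw [mul_one, one_mul]
  · exact e
  · exact f
  · rw [← mul_assoc, e, mul_assoc, f, mul_assoc]

theorem N_norm {h u : G} (hh : h ∈ CC T.z) (hu : u ∈ T.N) : h * u * h⁻¹ ∈ T.N := by
  refine (T.N_iff _).2 ⟨mul_mem (mul_mem hh (T.NC hu)) (inv_mem hh), fun w hw => ?_⟩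
  have hw' : h⁻¹ * w * h ∈ T.W := by simpa using T.W_norm _ (inv_mem hh) w hw
  calc h * u * h⁻¹ * w = h * (u * (h⁻¹ * w * h)) * h⁻¹ := by group
    _ = h * ((h⁻¹ * w * h) * u) * h⁻¹ := by rw [T.N_comm hu hw']
    _ = _ := by group

/-- What fixes one element and not all exchanges the other two. -/
theorem swap_other {h w u : G} (hh : h ∈ CC T.z) (hn : h ∉ T.N) (hw : w ∈ T.W) (hw1 : w ≠ 1) (hu : u ∈ T.W)
    (hu1 : u ≠ 1) (hne : u ≠ w) (e : h * w = w * h) : h * u * h⁻¹ = w * u := by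
  rcases T.W_third hw hw1 hu hu1 hne (T.W_norm h hh u hu) with f | f | f | f
  · exact absurd (conj_eq_one_iff.1 f) hu1
  · exact absurd (mul_left_cancel (mul_right_cancel (f.trans (mul_inv_eq_iff_eq_mul.2 e).symm))) hne
  · exact absurd (T.mem_N_of_two hh hw hw1 hu hu1 hne e (mul_inv_eq_iff_eq_mul.1 f)) hn
  · exact f

theorem N_index {a b w : G} (ha : a ∈ CC T.z) (hb : b ∈ CC T.z) (hw : w ∈ T.W) (hw1 : w ≠ 1)
    (hea : a * w = w * a) (heb : b * w = w * b) (hna : a ∉ T.N) (hnb : b ∉ T.N) : a * b ∈ T.N := by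
  obtain ⟨hu1', -, -⟩ := T.c_moves hw hw1
  have hu := T.W_norm _ T.cH w hw
  have hu1 : T.c * w * T.c⁻¹ ≠ 1 := fun e => hw1 (conj_eq_one_iff.1 e)
  refine T.mem_N_of_two (mul_mem ha hb) hw hw1 hu hu1 hu1' ?_ ?_
  · rw [mul_assoc, heb, ← mul_assoc, hea, mul_assoc]
  refine mul_inv_eq_iff_eq_mul.1 ?_
  rw [show a * b * (T.c * w * T.c⁻¹) * (a * b)⁻¹ = a * (b * (T.c * w * T.c⁻¹) * b⁻¹) * a⁻¹ by group,
    T.swap_other hb hnb hw hw1 hu hu1 hu1' heb, ← conj_mul, mul_inv_eq_iff_eq_mul.2 hea,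
    T.swap_other ha hna hw hw1 hu hu1 hu1' hea, ← mul_assoc, T.W_sq w hw, one_mul]

/-- An element whose square centralises the four-group fixes one of its involutions. -/
theorem exists_fixed {s : G} (hs : s ∈ CC T.z) (h2 : s * s ∈ T.N) : ∃ w ∈ T.W, w ≠ 1 ∧ s * w = w * s := by
  obtain ⟨w, hw, hw1⟩ : ∃ w ∈ T.W, w ≠ 1 := by
    by_contra hcon
    simp only [not_exists, not_and, not_not] at hcon
    have := T.card_W
    rw [(Subgroup.eq_bot_iff_forall _).2 hcon, Subgroup.card_bot] at this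
    norm_num at this
  set u := s * w * s⁻¹ with hu
  by_cases e : u = w
  · exact ⟨w, hw, hw1, mul_inv_eq_iff_eq_mul.1 e⟩
  have huW := T.W_norm s hs w hw
  have hsu : s * u * s⁻¹ = w := by
    rw [hu, show s * (s * w * s⁻¹) * s⁻¹ = s * s * w * (s * s)⁻¹ by group]
    exact mul_inv_eq_iff_eq_mul.2 (T.N_comm h2 hw)
  refine ⟨w * u, mul_mem hw huW, fun h => e ?_, mul_inv_eq_iff_eq_mul.1 ?_⟩
  · rw [← T.W_inv hw]; exact eq_inv_of_mul_eq_one_right h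
  · rw [← conj_mul, hsu, ← hu]; exact (T.W_comm hw huW).symm

/-- Every involution of the four-group is fixed by an element exchanging the other two. -/
theorem exists_swap {w : G} (hw : w ∈ T.W) (hw1 : w ≠ 1) : ∃ t ∈ CC T.z, t * w = w * t ∧ t ∉ T.N := by
  obtain ⟨h, hh, n0, n1, n2⟩ := T.out
  have e : w = h * (h⁻¹ * w * h) * h⁻¹ := by group
  have hw' : h⁻¹ * w * h ∈ T.W := by simpa using T.W_norm _ (inv_mem hh) w hw
  rcases T.W_cases hw hw1 hw' with f | f | f | f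
  · rw [f, mul_one, mul_inv_cancel] at e; exact absurd e hw1
  · exact ⟨h, hh, mul_inv_eq_iff_eq_mul.1 (by rw [f] at e; exact e.symm), n0⟩
  · refine ⟨h * T.c, mul_mem hh T.cH, mul_inv_eq_iff_eq_mul.1 ?_, n1⟩
    calc h * T.c * w * (h * T.c)⁻¹ = h * (T.c * w * T.c⁻¹) * h⁻¹ := by group
      _ = w := by rw [← f]; exact e.symm
  · refine ⟨h * (T.c * T.c), mul_mem hh (mul_mem T.cH T.cH), mul_inv_eq_iff_eq_mul.1 ?_, n2⟩
    calc h * (T.c * T.c) * w * (h * (T.c * T.c))⁻¹ = h * (T.c * T.c * w * (T.c * T.c)⁻¹) * h⁻¹ := by group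
      _ = w := by rw [← f]; exact e.symm

/-- An element exchanging two involutions of the four-group inverts `c` modulo `J`. -/
theorem inverts {t w : G} (ht : t ∈ CC T.z) (hw : w ∈ T.W) (hw1 : w ≠ 1) (e : t * w = w * t) (hn : t ∉ T.N) :
    t * T.c * t⁻¹ * T.c ∈ T.J := by
  refine (T.c_norm t ht).resolve_left fun hJ => hn ?_
  have hu := T.W_norm _ T.cH w hw
  refine T.mem_N_of_two ht hw hw1 hu (fun f => hw1 (conj_eq_one_iff.1 f)) (T.c_moves hw hw1).1 e ?_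
  refine mul_inv_eq_iff_eq_mul.1 ?_
  calc t * (T.c * w * T.c⁻¹) * t⁻¹
      = (t * T.c * t⁻¹ * T.c⁻¹) * (T.c * (t * w * t⁻¹) * T.c⁻¹) * (t * T.c * t⁻¹ * T.c⁻¹)⁻¹ := by group
    _ = T.c * w * T.c⁻¹ := by
      rw [mul_inv_eq_iff_eq_mul.2 e, T.N_comm (T.JN hJ) hu, mul_inv_cancel_right]

/-- What induces an inner automorphism trivial on `N` modulo `J` and fixes an involution of the four-group. -/
theorem mem_J_of_outer {h w : G} (hh : h ∈ CC T.z) (hw : w ∈ T.W) (hw1 : w ≠ 1) (e : h * w = w * h)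
    (hc : ∀ u ∈ T.N, h * u * h⁻¹ * u⁻¹ ∈ T.J) : h ∈ T.J := by
  obtain ⟨m1, m2, -⟩ := T.c_moves hw hw1
  have key : ∀ k ∈ CC T.z, h * k ∈ T.J → k * w * k⁻¹ = w := fun k hk hj => by
    have hkW := T.W_norm k hk w hw
    have h1 := mul_inv_eq_iff_eq_mul.2 (T.N_comm (T.JN hj) hw)
    calc k * w * k⁻¹ = h⁻¹ * (h * k * w * (h * k)⁻¹) * h := by group
      _ = h⁻¹ * (w * h) := by rw [h1, mul_assoc]
      _ = w := by rw [← e, inv_mul_cancel_left]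
  rcases T.outer h hh hc with k | k | k
  · exact k
  · exact absurd (key _ T.cH k) m1
  · exact absurd (key _ (mul_mem T.cH T.cH) k) m2

/-- A normal 2-subgroup of the centraliser of an element of the four-group lies in `J`. -/
theorem core {w : G} (hw : w ∈ T.W) (hw1 : w ≠ 1) {P : Subgroup G}
    (hP : ∀ p ∈ P, p ∈ CC T.z ∧ p * w = w * p) (hn : ∀ h ∈ T.N, ∀ p ∈ P, h * p * h⁻¹ ∈ P)
    (h2 : IsPGroup 2 ↥P) : P ≤ T.J := by
  haveI := Fus.U62Rec.q_simple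
  let S : Subgroup ↥T.N := P.subgroupOf T.N
  haveI hS : S.Normal := ⟨fun x hx g => hn _ g.2 _ hx⟩
  haveI : (S.map T.π).Normal := hS.map _ T.surj
  have hPN : ∀ x ∈ P, x ∈ T.N → x ∈ T.J := by
    rcases (inferInstance : (S.map T.π).Normal).eq_bot_or_eq_top with h | h
    · intro x hx hxN
      have : T.π ⟨x, hxN⟩ ∈ S.map T.π := ⟨_, hx, rfl⟩
      rw [h, Subgroup.mem_bot] at this
      exact (T.ker _).1 this
    · exfalso
      have hp : IsPGroup 2 ↥(⊤ : Subgroup Q4) := h ▸ (h2.comap_of_injective _ (Subgroup.subtype_injective _)).map _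
      obtain ⟨n, hn⟩ := IsPGroup.iff_card.1 hp
      rw [Subgroup.card_top, Fus.U62Rec.card_Q4] at hn
      have h405 : 405 ∣ 2 ^ n := ⟨64, by omega⟩
      have : (405 : ℕ) = 1 := Nat.eq_one_of_dvd_coprimes
        (Nat.Coprime.pow_right n (by norm_num : Nat.Coprime 405 2)) dvd_rfl h405
      omega
  intro p hp
  obtain ⟨hpz, hpw⟩ := hP p hp
  refine T.mem_J_of_outer hpz hw hw1 hpw fun u hu => hPN _ ?_ (mul_mem (T.N_norm hpz hu) (inv_mem hu))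
  rw [show p * u * p⁻¹ * u⁻¹ = p * (u * p⁻¹ * u⁻¹) by group]
  exact mul_mem hp (hn u hu _ (inv_mem hp))

end Top

end Cfsg.Agent.Fus.Fi23Two
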