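import Cfsg.Agent.Lib.Fus.Fi23Two.Rule
import Cfsg.Agent.Lib.Spor.LargeExtra

/-!
Centralisers of shape `(2² × 2¹⁺⁸)(3 × U₄(2))2`: the four-group inside the centre of `J`, and the frame.
-/

set_option autoImplicit false
set_option linter.unusedSectionVars false
set_option linter.style.haveILetI false

namespace Cfsg.Agent.Fus.Fi23Two

open Cfsg
open Cfsg.Agent.Fus.U62Rec (Q4 CC)
open scoped commutatorElement

variable {G : Type*} [Group G] {A : Type*} [Group A]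

/-- The hypotheses, read in the group. -/
structure Pre (z c : G) (J E V : Subgroup G) (φ : ↥(CC z) →* A) (N₀ : Subgroup A) : Prop where
  zz : z * z = 1
  z_ne : z ≠ 1
  JC : J ≤ CC z
  zJ : z ∈ J
  norm : ∀ h ∈ CC z, ∀ x ∈ J, h * x * h⁻¹ ∈ J
  cH : c ∈ CC z
  c_three : c * c * c = 1
  EJ : E ≤ J
  VJ : V ≤ J
  card_V : Nat.card ↥V = 4
  V_sq : ∀ v ∈ V, v * v = 1
  VE : ∀ v ∈ V, ∀ e ∈ E, v * e = e * v
  VE_bot : ∀ v ∈ V, v ∈ E → v = 1
  split : ∀ x ∈ J, ∃ v ∈ V, ∃ e ∈ E, x = v * e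
  extra : IsExtraspecial 2 ↥E
  card_E : Nat.card ↥E = 512
  self : ∀ a ∈ CC z, (∀ y ∈ J, a * y = y * a) → a ∈ J
  c_fix : ∀ x ∈ J, c * x = x * c → x = 1 ∨ x = z
  c_mod : ∀ h ∈ CC z, h * c * h⁻¹ * c⁻¹ ∈ J ∨ h * c * h⁻¹ * c ∈ J
  surj : Function.Surjective φ
  ker : ∀ h : ↥(CC z), φ h = 1 ↔ (h : G) ∈ J ∨ (h : G) * c ∈ J ∨ (h : G) * (c * c) ∈ J
  index : N₀.index = 2
  faith : Subgroup.centralizer (N₀ : Set A) = ⊥
  lift : ∀ a ∈ N₀, ∃ l, ∃ hl : l ∈ CC z, l * c = c * l ∧ φ ⟨l, hl⟩ = a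
  down : ∀ l, ∀ hl : l ∈ CC z, l * c = c * l → φ ⟨l, hl⟩ ∈ N₀
  frat : ∀ h ∈ CC z, h * c * h⁻¹ * c⁻¹ ∈ J → ∃ j ∈ J, j⁻¹ * h * c = c * (j⁻¹ * h)

namespace Pre

variable {z c : G} {J E V : Subgroup G} {φ : ↥(CC z) →* A} {N₀ : Subgroup A} (P : Pre z c J E V φ N₀) [Finite G]

include P

theorem c_inv : c⁻¹ = c * c := inv_eq_of_mul_eq_one_right (by rw [← mul_assoc, P.c_three])

theorem centre_E {x : G} (hx : x ∈ E) (h : ∀ y ∈ E, y * x = x * y) : x = 1 ∨ x = z := by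
  obtain ⟨ζ, hζ, hζ1, hu, hζζ⟩ := Spor.LargeExtra.exists_gen P.extra
  suffices hz : ζ = z from hz ▸ hu x (Spor.LargeExtra.mem_zsub.2 ⟨hx, h⟩)
  obtain ⟨a, ha, b, hb, hab⟩ : ∃ a ∈ E, ∃ b ∈ E, a * b ≠ b * a := by
    by_contra hcon
    have : Subgroup.center ↥E = ⊤ := eq_top_iff.2 fun u _ => Subgroup.mem_center_iff.2 fun w => Subtype.ext (by
      by_contra hne; exact hcon ⟨w, w.2, u, u.2, hne⟩)
    have h2 := P.extra.2
    rw [this, Subgroup.card_top, P.card_E] at h2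
    norm_num at h2
  have hk : ⁅a, b⁆ = ζ := (hu _ (Spor.LargeExtra.commutator_mem_zsub P.extra ha hb)).resolve_left fun e =>
    hab (commutatorElement_eq_one_iff_mul_comm.1 e)
  have hall : ∀ {p q : G}, p ∈ J → q ∈ J → ⁅p, q⁆ = 1 ∨ ⁅p, q⁆ = ζ := by
    intro p q hp hq
    obtain ⟨v, hv, e, he, rfl⟩ := P.split p hp
    obtain ⟨v', hv', e', he', rfl⟩ := P.split q hq
    have hvv : v * v' = v' * v := by
      rw [← inv_eq_of_mul_eq_one_right (P.V_sq _ (mul_mem hv hv')), mul_inv_rev,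
        inv_eq_of_mul_eq_one_right (P.V_sq _ hv), inv_eq_of_mul_eq_one_right (P.V_sq _ hv')]
    have : ⁅v * e, v' * e'⁆ = ⁅e, e'⁆ := by
      simp only [commutatorElement_def]
      have c1 : Commute v e := P.VE v hv e he
      have c2 : Commute v' e := P.VE v' hv' e he
      have c3 : Commute v e' := P.VE v hv e' he'
      have c4 : Commute v' e' := P.VE v' hv' e' he'
      have c5 : Commute v v' := hvv
      calc v * e * (v' * e') * (v * e)⁻¹ * (v' * e')⁻¹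
          = v * (e * v') * e' * e⁻¹ * v⁻¹ * e'⁻¹ * v'⁻¹ := by group
        _ = v * v' * (e * e' * e⁻¹) * (v⁻¹ * e'⁻¹) * v'⁻¹ := by rw [← c2.eq]; group
        _ = v * v' * (e * e' * e⁻¹ * e'⁻¹) * (v⁻¹ * v'⁻¹) := by rw [c3.inv_inv.eq]; group
        _ = (e * e' * e⁻¹ * e'⁻¹) * (v * v') * (v⁻¹ * v'⁻¹) := by
          rw [((((c1.mul_right c3).mul_right c1.inv_right).mul_right c3.inv_right).mul_left
            (((c2.mul_right c4).mul_right c2.inv_right).mul_right c4.inv_right)).eq]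
        _ = _ := by rw [hvv]; group
    rw [this]
    exact hu _ (Spor.LargeExtra.commutator_mem_zsub P.extra he he')
  have hfix : c * ζ * c⁻¹ = ζ := by
    have e : c * ζ * c⁻¹ = ⁅c * a * c⁻¹, c * b * c⁻¹⁆ := by rw [← hk]; simp only [commutatorElement_def]; group
    rw [e]
    exact (hall (P.norm c P.cH a (P.EJ ha)) (P.norm c P.cH b (P.EJ hb))).resolve_left fun k =>
      hζ1 (conj_eq_one_iff.1 (e.trans k))
  exact (P.c_fix ζ (P.EJ (Spor.LargeExtra.mem_zsub.1 hζ).1) (mul_inv_eq_iff_eq_mul.1 hfix)).resolve_left hζ1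

/-- The centre of `J`. -/
theorem centre_cases {x : G} (hx : x ∈ J ⊓ Subgroup.centralizer (J : Set G)) :
    ∃ v ∈ V, x = v ∨ x = v * z := by
  obtain ⟨v, hv, e, he, rfl⟩ := P.split x hx.1
  refine ⟨v, hv, ?_⟩
  rcases P.centre_E he fun y hy => by
    have h1 : y * (v * e) = v * e * y := Subgroup.mem_centralizer_iff.1 hx.2 y (P.EJ hy)
    rw [← mul_assoc, ← P.VE v hv y hy, mul_assoc v, mul_assoc v e] at h1
    exact mul_left_cancel h1 with k | k <;> rw [k]
  · exact Or.inl (mul_one v)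
  · exact Or.inr rfl

theorem V_centre {v : G} (hv : v ∈ V) : v ∈ J ⊓ Subgroup.centralizer (J : Set G) := by
  refine ⟨P.VJ hv, Subgroup.mem_centralizer_iff.2 fun y hy => ?_⟩
  obtain ⟨v', hv', e, he, rfl⟩ := P.split y hy
  have hvv : v' * v = v * v' := by
    rw [← inv_eq_of_mul_eq_one_right (P.V_sq _ (mul_mem hv hv')), mul_inv_rev,
      inv_eq_of_mul_eq_one_right (P.V_sq _ hv), inv_eq_of_mul_eq_one_right (P.V_sq _ hv')]
  exact (((show Commute v v' from hvv.symm).mul_right (P.VE v hv e he))).eq.symm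

theorem z_centre : z ∈ J ⊓ Subgroup.centralizer (J : Set G) :=
  ⟨P.zJ, Subgroup.mem_centralizer_iff.2 fun _ hy => Subgroup.mem_centralizer_singleton_iff.1 (P.JC hy)⟩

theorem centre_comm {x y : G} (hx : x ∈ J ⊓ Subgroup.centralizer (J : Set G)) (hy : y ∈ J) : y * x = x * y :=
  Subgroup.mem_centralizer_iff.1 hx.2 y hy

theorem centre_sq {x : G} (hx : x ∈ J ⊓ Subgroup.centralizer (J : Set G)) : x * x = 1 := by
  obtain ⟨v, hv, e⟩ := P.centre_cases hx
  rcases e with e | e <;> rw [e]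
  · exact P.V_sq v hv
  · rw [mul_assoc, ← mul_assoc z, ← P.centre_comm P.z_centre (P.VJ hv), mul_assoc v z z, P.zz, mul_one, P.V_sq v hv]

theorem centre_conj {h x : G} (hh : h ∈ CC z) (hx : x ∈ J ⊓ Subgroup.centralizer (J : Set G)) :
    h * x * h⁻¹ ∈ J ⊓ Subgroup.centralizer (J : Set G) := by
  refine ⟨P.norm h hh x hx.1, Subgroup.mem_centralizer_iff.2 fun y hy => ?_⟩
  have h1 := P.centre_comm hx (P.norm h⁻¹ (inv_mem hh) y hy)
  rw [inv_inv] at h1
  calc y * (h * x * h⁻¹) = h * (h⁻¹ * y * h * x) * h⁻¹ := by group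
    _ = _ := by rw [h1]; group

theorem card_centre : Nat.card ↥(J ⊓ Subgroup.centralizer (J : Set G)) = 8 := by
  classical
  have hzV : ∀ v ∈ V, ∀ v' ∈ V, v * z ≠ v' := fun v hv v' hv' e => by
    obtain ⟨ζ, hζ, hζ1, -, -⟩ := Spor.LargeExtra.exists_gen P.extra
    obtain ⟨hζE, hζc⟩ := Spor.LargeExtra.mem_zsub.1 hζ
    have hzz : ζ = z := (P.centre_E hζE hζc).resolve_left hζ1
    have : z ∈ V := by
      rw [show z = v⁻¹ * v' by rw [← e]; group]; exact mul_mem (inv_mem hv) hv'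
    exact P.z_ne (P.VE_bot z this (hzz ▸ hζE))
  let f : ↥V × Bool → ↥(J ⊓ Subgroup.centralizer (J : Set G)) := fun p =>
    cond p.2 ⟨p.1 * z, mul_mem (P.V_centre p.1.2) P.z_centre⟩ ⟨p.1, P.V_centre p.1.2⟩
  have hf : Function.Bijective f := by
    refine ⟨fun ⟨a, i⟩ ⟨b, j⟩ e => ?_, fun ⟨x, hx⟩ => ?_⟩
    · cases i <;> cases j <;> have e' := congrArg Subtype.val e
      · exact Prod.ext (Subtype.ext e') rfl
      · exact absurd e'.symm (hzV _ b.2 _ a.2)
      · exact absurd e' (hzV _ a.2 _ b.2)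
      · exact Prod.ext (Subtype.ext (mul_right_cancel e')) rfl
    · obtain ⟨v, hv, e | e⟩ := P.centre_cases hx
      · exact ⟨(⟨v, hv⟩, false), Subtype.ext e.symm⟩
      · exact ⟨(⟨v, hv⟩, true), Subtype.ext e.symm⟩
  rw [← Nat.card_eq_of_bijective f hf, Nat.card_prod, P.card_V, Nat.card_eq_fintype_card, Fintype.card_bool]

/-- The map onto the four-group. -/
noncomputable def σ : ↥(J ⊓ Subgroup.centralizer (J : Set G)) →* G :=
  MonoidHom.mk' (fun a => (a : G) * (c * a * c⁻¹)) fun a b => by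
    push_cast
    rw [← conj_mul, mul_assoc (a : G) b, ← mul_assoc (b : G), P.centre_comm (P.centre_conj P.cH a.2) b.2.1]
    group

theorem mem_range {x : G} : x ∈ P.σ.range ↔ ∃ a ∈ J ⊓ Subgroup.centralizer (J : Set G), x = a * (c * a * c⁻¹) :=
  ⟨fun ⟨a, e⟩ => ⟨a, a.2, e.symm⟩, fun ⟨a, ha, e⟩ => ⟨⟨a, ha⟩, e.symm⟩⟩

theorem range_centre {x : G} (hx : x ∈ P.σ.range) : x ∈ J ⊓ Subgroup.centralizer (J : Set G) := by
  obtain ⟨a, ha, rfl⟩ := P.mem_range.1 hx
  exact mul_mem ha (P.centre_conj P.cH ha)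

theorem z_notMem : z ∉ P.σ.range := fun hz => by
  obtain ⟨a, ha, e⟩ := P.mem_range.1 hz
  have h1 : c * a * c⁻¹ = a * z := by rw [e, ← mul_assoc, P.centre_sq ha, one_mul]
  have hcz : c * z * c⁻¹ = z := mul_inv_eq_iff_eq_mul.2 (Subgroup.mem_centralizer_singleton_iff.1 P.cH)
  have h2 : c * c * a * (c * c)⁻¹ = a := by
    calc c * c * a * (c * c)⁻¹ = c * (c * a * c⁻¹) * c⁻¹ := by group
      _ = (c * a * c⁻¹) * (c * z * c⁻¹) := by rw [conj_mul, ← h1]
      _ = a := by rw [h1, hcz, mul_assoc, P.zz, mul_one]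
  have h3 : a = a * z := by
    calc a = c * c * c * a * (c * c * c)⁻¹ := by rw [P.c_three, one_mul, inv_one, mul_one]
      _ = c * (c * c * a * (c * c)⁻¹) * c⁻¹ := by group
      _ = a * z := by rw [h2, h1]
  exact P.z_ne (mul_eq_left.1 h3.symm)

theorem centre_split {x : G} (hx : x ∈ J ⊓ Subgroup.centralizer (J : Set G)) :
    x ∈ P.σ.range ∨ x * z ∈ P.σ.range := by
  set u := c * x * c⁻¹ with hu
  set r := c * u * c⁻¹ with hr
  have hU := P.centre_conj P.cH hx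
  have hR := P.centre_conj P.cH hU
  have hur : u * r ∈ P.σ.range := P.mem_range.2 ⟨u, hU, rfl⟩
  have hcr : c * r * c⁻¹ = x := by
    calc c * r * c⁻¹ = c * c * c * x * (c * c * c)⁻¹ := by rw [hr, hu]; group
      _ = x := by rw [P.c_three, one_mul, inv_one, mul_one]
  have hfix : c * (x * (u * r)) * c⁻¹ = x * (u * r) := by
    rw [← conj_mul, ← conj_mul, ← hu, ← hr, hcr, ← mul_assoc,
      P.centre_comm hx (mul_mem hU.1 hR.1)]
  have hxi := P.centre_sq (mul_mem hU hR)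
  rcases P.c_fix _ (mul_mem hx.1 (mul_mem hU.1 hR.1)) (mul_inv_eq_iff_eq_mul.1 hfix) with e | e
  · left
    rw [eq_inv_of_mul_eq_one_left e]
    exact inv_mem hur
  · right
    have : x * z = u * r := by
      rw [← e, ← mul_assoc, P.centre_sq hx, one_mul]
    rw [this]; exact hur

theorem card_range : Nat.card ↥P.σ.range = 4 := by
  have h := P.σ.ker.card_mul_index
  rw [Subgroup.index_ker, P.card_centre] at h
  have hk : Nat.card ↥P.σ.ker = 2 := by
    refine (Nat.card_eq_two_iff' (1 : ↥P.σ.ker)).2 ⟨⟨⟨z, P.z_centre⟩, ?_⟩, fun e => ?_, fun a ha => ?_⟩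
    · show z * (c * z * c⁻¹) = 1
      rw [mul_inv_eq_iff_eq_mul.2 (Subgroup.mem_centralizer_singleton_iff.1 P.cH), P.zz]
    · exact P.z_ne (congrArg (fun t : ↥P.σ.ker => (t.1 : G)) e)
    · have h1 : (a.1 : G) * (c * a.1 * c⁻¹) = 1 := a.2
      have h2 : c * (a.1 : G) * c⁻¹ = a.1 := by
        rw [eq_inv_of_mul_eq_one_right h1, inv_eq_of_mul_eq_one_right (P.centre_sq a.1.2)]
      rcases P.c_fix _ a.1.2.1 (mul_inv_eq_iff_eq_mul.1 h2) with k | k
      · exact absurd (Subtype.ext (Subtype.ext k)) ha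
      · exact Subtype.ext (Subtype.ext k)
  rw [hk] at h
  omega

theorem range_norm {h w : G} (hh : h ∈ CC z) (hw : w ∈ P.σ.range) : h * w * h⁻¹ ∈ P.σ.range := by
  obtain ⟨a, ha, rfl⟩ := P.mem_range.1 hw
  set a' := h * a * h⁻¹
  have ha' := P.centre_conj hh ha
  have e : h * (a * (c * a * c⁻¹)) * h⁻¹ = a' * (h * c * h⁻¹ * a' * (h * c * h⁻¹)⁻¹) := by
    simp only [a']; group
  rw [e]
  rcases P.c_mod h hh with k | k
  · refine P.mem_range.2 ⟨a', ha', ?_⟩
    congr 1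
    calc h * c * h⁻¹ * a' * (h * c * h⁻¹)⁻¹
        = h * c * h⁻¹ * c⁻¹ * (c * a' * c⁻¹) * (h * c * h⁻¹ * c⁻¹)⁻¹ := by group
      _ = _ := mul_inv_eq_iff_eq_mul.2 (P.centre_comm (P.centre_conj P.cH ha') k)
  · have hb := P.centre_conj (inv_mem P.cH) ha'
    refine P.mem_range.2 ⟨c⁻¹ * a' * c, by simpa using hb, ?_⟩
    have e2 : h * c * h⁻¹ * a' * (h * c * h⁻¹)⁻¹ = c⁻¹ * a' * c := by
      calc h * c * h⁻¹ * a' * (h * c * h⁻¹)⁻¹
          = h * c * h⁻¹ * c * (c⁻¹ * a' * c⁻¹⁻¹) * (h * c * h⁻¹ * c)⁻¹ := by group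
        _ = c⁻¹ * a' * c⁻¹⁻¹ := mul_inv_eq_iff_eq_mul.2 (P.centre_comm hb k)
        _ = _ := by rw [inv_inv]
    have hb' : c⁻¹ * a' * c ∈ J := by simpa using hb.1
    rw [e2, ← P.centre_comm ha' hb', show c * (c⁻¹ * a' * c) * c⁻¹ = a' by group]

theorem range_fpf {w : G} (hw : w ∈ P.σ.range) (e : c * w = w * c) : w = 1 :=
  (P.c_fix w (P.range_centre hw).1 e).resolve_right fun k => P.z_notMem (k ▸ hw)

theorem range_ne : ∃ w ∈ P.σ.range, w ≠ 1 := by
  by_contra hcon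
  simp only [not_exists, not_and, not_not] at hcon
  have := P.card_range
  rw [(Subgroup.eq_bot_iff_forall _).2 hcon, Subgroup.card_bot] at this
  norm_num at this

/-- The centraliser of the four-group in the centraliser of `z`. -/
def NN : Subgroup G := CC z ⊓ Subgroup.centralizer (P.σ.range : Set G)

theorem mem_NN {h : G} : h ∈ P.NN ↔ h ∈ CC z ∧ ∀ w ∈ P.σ.range, h * w = w * h :=
  and_congr_right fun _ => Subgroup.mem_centralizer_iff.trans (forall₂_congr fun _ _ => eq_comm)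

theorem NN_mod {u : G} (hu : u ∈ P.NN) : u * c * u⁻¹ * c⁻¹ ∈ J := by
  obtain ⟨huH, hfix⟩ := P.mem_NN.1 hu
  refine (P.c_mod u huH).resolve_right fun k => ?_
  obtain ⟨w, hw, hw1⟩ := P.range_ne
  have hcw := P.range_norm P.cH hw
  have e1 : u * c * u⁻¹ * w * (u * c * u⁻¹)⁻¹ = c * w * c⁻¹ := by
    calc u * c * u⁻¹ * w * (u * c * u⁻¹)⁻¹ = u * c * (u⁻¹ * (w * u)) * c⁻¹ * u⁻¹ := by group
      _ = u * (c * w * c⁻¹) * u⁻¹ := by rw [← hfix w hw, inv_mul_cancel_left]; group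
      _ = _ := mul_inv_eq_iff_eq_mul.2 (hfix _ hcw)
  have e2 : u * c * u⁻¹ * w * (u * c * u⁻¹)⁻¹ = c⁻¹ * w * c := by
    calc u * c * u⁻¹ * w * (u * c * u⁻¹)⁻¹
        = u * c * u⁻¹ * c * (c⁻¹ * w * c⁻¹⁻¹) * (u * c * u⁻¹ * c)⁻¹ := by group
      _ = c⁻¹ * w * c⁻¹⁻¹ :=
        mul_inv_eq_iff_eq_mul.2 (P.centre_comm (P.centre_conj (inv_mem P.cH) (P.range_centre hw)) k)
      _ = _ := by rw [inv_inv]
  have e3 : c * w * c⁻¹ = w := by
    calc c * w * c⁻¹ = c * c * c * (c * w * c⁻¹) * (c * c * c)⁻¹ := by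
          rw [P.c_three, one_mul, inv_one, mul_one]
      _ = c * c * (c * (c * w * c⁻¹) * c⁻¹) * (c * c)⁻¹ := by group
      _ = c * c * (c * (c⁻¹ * w * c) * c⁻¹) * (c * c)⁻¹ := by rw [← e1, e2]
      _ = c * (c * w * c⁻¹) * c⁻¹ := by group
      _ = c * (c⁻¹ * w * c) * c⁻¹ := by rw [← e1, e2]
      _ = w := by group
  exact hw1 (P.range_fpf hw (mul_inv_eq_iff_eq_mul.1 e3))

theorem phi_c : φ ⟨c, P.cH⟩ = 1 :=
  (P.ker _).2 (Or.inr (Or.inr (by rw [← mul_assoc, P.c_three]; exact one_mem _)))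

theorem phi_NN {u : G} (hu : u ∈ P.NN) : φ ⟨u, hu.1⟩ ∈ N₀ := by
  obtain ⟨j, hj, hl⟩ := P.frat u hu.1 (P.NN_mod hu)
  have := P.down _ (mul_mem (inv_mem (P.JC hj)) hu.1) hl
  rwa [show (⟨j⁻¹ * u, mul_mem (inv_mem (P.JC hj)) hu.1⟩ : ↥(CC z)) = ⟨j, P.JC hj⟩⁻¹ * ⟨u, hu.1⟩ from rfl,
    map_mul, map_inv, (P.ker ⟨j, P.JC hj⟩).2 (Or.inl hj), inv_one, one_mul] at this

theorem exists_NN {a : A} (ha : a ∈ N₀) : ∃ u, ∃ hu : u ∈ P.NN, φ ⟨u, hu.1⟩ = a := by
  classical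
  obtain ⟨l, hl, hlc, e⟩ := P.lift a ha
  obtain ⟨w, hw, hw1⟩ := P.range_ne
  have hw' := P.range_norm hl hw
  have hcw := P.range_norm P.cH hw
  have hccw := P.range_norm (mul_mem P.cH P.cH) hw
  have d1 : c * w * c⁻¹ ≠ w := fun k => hw1 (P.range_fpf hw (mul_inv_eq_iff_eq_mul.1 k))
  haveI := Fintype.ofFinite ↥P.σ.range
  let S : Finset ↥P.σ.range := {1, ⟨w, hw⟩, ⟨_, hcw⟩, ⟨_, hccw⟩}
  have d2 : c * c * w * (c * c)⁻¹ ≠ c * w * c⁻¹ := fun k => d1 (by
    have := congrArg (fun t => c⁻¹ * t * c) k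
    simpa [mul_assoc] using this)
  have d3 : c * c * w * (c * c)⁻¹ ≠ w := fun k => d1 (by
    calc c * w * c⁻¹ = c * (c * c * w * (c * c)⁻¹) * c⁻¹ := by rw [k]
      _ = c * c * c * w * (c * c * c)⁻¹ := by group
      _ = w := by rw [P.c_three, one_mul, inv_one, mul_one])
  have n1 : c * w * c⁻¹ ≠ 1 := fun k => hw1 (conj_eq_one_iff.1 k)
  have n2 : c * c * w * (c * c)⁻¹ ≠ 1 := fun k => hw1 (conj_eq_one_iff.1 k)
  have hS : S = Finset.univ := Finset.eq_univ_of_card S (by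
    rw [← Nat.card_eq_fintype_card, P.card_range, Finset.card_eq_four]
    exact ⟨_, _, _, _, fun k => hw1 (congrArg Subtype.val k).symm, fun k => n1 (congrArg Subtype.val k).symm,
      fun k => n2 (congrArg Subtype.val k).symm, fun k => d1 (congrArg Subtype.val k).symm,
      fun k => d3 (congrArg Subtype.val k).symm, fun k => d2 (congrArg Subtype.val k).symm, rfl⟩)
  have hmem := hS.symm ▸ Finset.mem_univ (⟨_, hw'⟩ : ↥P.σ.range)
  obtain ⟨k, hkH, hkc, hkw, hk1⟩ : ∃ k, ∃ hk : k ∈ CC z, k * c = c * k ∧ l * w * l⁻¹ = k * w * k⁻¹ ∧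
      φ ⟨k, hk⟩ = 1 := by
    simp [S, Subtype.ext_iff] at hmem
    rcases hmem with k | k | k | k
    · exact absurd k hw1
    · exact ⟨1, one_mem _, by simp, by simpa using k, map_one φ⟩
    · exact ⟨c, P.cH, rfl, by rw [k], P.phi_c⟩
    · exact ⟨c * c, mul_mem P.cH P.cH, mul_assoc c c c, by rw [k]; group, by
        rw [show (⟨c * c, mul_mem P.cH P.cH⟩ : ↥(CC z)) = ⟨c, P.cH⟩ * ⟨c, P.cH⟩ from rfl, map_mul, P.phi_c,
          one_mul]⟩
  have hfix : k⁻¹ * l * w = w * (k⁻¹ * l) := mul_inv_eq_iff_eq_mul.1 (by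
    calc k⁻¹ * l * w * (k⁻¹ * l)⁻¹ = k⁻¹ * (l * w * l⁻¹) * k := by group
      _ = w := by rw [hkw]; group)
  have hc' : Commute (k⁻¹ * l) c := (show Commute k c from hkc).inv_left.mul_left hlc
  have hfix2 : Commute (k⁻¹ * l) (c * w * c⁻¹) := (hc'.mul_right hfix).mul_right hc'.inv_right
  have hfix3 : Commute (k⁻¹ * l) (c * c * w * (c * c)⁻¹) :=
    (((hc'.mul_right hc').mul_right hfix)).mul_right (hc'.mul_right hc').inv_right
  refine ⟨k⁻¹ * l, P.mem_NN.2 ⟨mul_mem (inv_mem hkH) hl, fun v hv => ?_⟩, ?_⟩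
  · have hv' := hS.symm ▸ Finset.mem_univ (⟨v, hv⟩ : ↥P.σ.range)
    simp only [S, Finset.mem_insert, Finset.mem_singleton, Subtype.ext_iff, Subgroup.coe_one] at hv'
    rcases hv' with rfl | rfl | rfl | rfl
    · simp
    · exact hfix
    · exact hfix2.eq
    · exact hfix3.eq
  · rw [show (⟨k⁻¹ * l, mul_mem (inv_mem hkH) hl⟩ : ↥(CC z)) = ⟨k, hkH⟩⁻¹ * ⟨l, hl⟩ from rfl, map_mul, map_inv,
      hk1, inv_one, one_mul, e]

/-- The frame. -/
theorem exists_top (eN : ↥N₀ ≃* Q4) :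
    ∃ T : Top G, T.z = z ∧ Nonempty (Quo T A) := by
  classical
  have hJN : J ≤ P.NN := fun x hx => P.mem_NN.2 ⟨P.JC hx, fun w hw => P.centre_comm (P.range_centre hw) hx⟩
  have hcN : c ∉ P.NN := fun h => by
    obtain ⟨w, hw, hw1⟩ := P.range_ne
    exact hw1 (P.range_fpf hw ((P.mem_NN.1 h).2 w hw))
  let φN : ↥P.NN →* A := φ.comp (Subgroup.inclusion inf_le_left)
  let πN : ↥P.NN →* Q4 := eN.toMonoidHom.comp (φN.codRestrict N₀ fun u => P.phi_NN u.2)
  have hker : ∀ u : ↥P.NN, πN u = 1 ↔ (u : G) ∈ J := fun u => by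
    rw [MonoidHom.comp_apply, MulEquiv.coe_toMonoidHom, map_eq_one_iff _ eN.injective, Subtype.ext_iff]
    refine ⟨fun h => ?_, fun h => (P.ker _).2 (Or.inl h)⟩
    rcases (P.ker _).1 h with k | k | k
    · exact k
    · refine absurd ?_ hcN
      have h2 : (u : G)⁻¹ * ((u : G) * c) ∈ P.NN := mul_mem (inv_mem u.2) (hJN k)
      rwa [inv_mul_cancel_left] at h2
    · exfalso
      have h2 : (u : G)⁻¹ * ((u : G) * (c * c)) ∈ P.NN := mul_mem (inv_mem u.2) (hJN k)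
      rw [inv_mul_cancel_left] at h2
      rw [← P.c_inv, inv_mem_iff] at h2
      exact hcN h2
  have hsq : ∀ x ∈ J, x * x = 1 ∨ x * x = z := fun x hx => by
    obtain ⟨v, hv, e, he, rfl⟩ := P.split x hx
    have := (Fus.extraspecial_two_facts P.extra).1 ⟨e, he⟩
    rw [show v * e * (v * e) = v * (e * v) * e by group, ← P.VE v hv e he, ← mul_assoc v, P.V_sq v hv, one_mul]
    exact P.centre_E (mul_mem he he) fun y hy => by
      have h := congrArg Subtype.val (Subgroup.mem_center_iff.1 this ⟨y, hy⟩)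
      simpa [pow_two] using h
  have hcomm : ∀ x ∈ J, ∀ y ∈ J, x * y = y * x ∨ x * y = y * x * z := fun x hx y hy => by
    obtain ⟨v, hv, e, he, rfl⟩ := P.split x hx
    obtain ⟨v', hv', e', he', rfl⟩ := P.split y hy
    have hc1 : ∀ {a b}, a ∈ V → b ∈ J → Commute a b := fun ha hb => (P.centre_comm (P.V_centre ha) hb).symm
    have h0 : e * e' = e' * e ∨ e * e' = e' * e * z := by
      have hk := Spor.LargeExtra.commutator_mem_zsub P.extra (inv_mem he) (inv_mem he')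
      obtain ⟨hkE, hkc⟩ := Spor.LargeExtra.mem_zsub.1 hk
      rcases P.centre_E hkE hkc with k | k
      · have h : Commute e⁻¹ e'⁻¹ := commutatorElement_eq_one_iff_mul_comm.1 k
        exact Or.inl (by simpa using h.inv_inv.eq)
      · right
        rw [← k, commutatorElement_def]; group
    have ec : v * e * (v' * e') = v * v' * (e * e') := by
      rw [show v * e * (v' * e') = v * (e * v') * e' by group, ← (hc1 hv' (P.EJ he)).eq]; group
    have ec' : v' * e' * (v * e) = v * v' * (e' * e) := by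
      rw [show v' * e' * (v * e) = v' * (e' * v) * e by group, ← (hc1 hv (P.EJ he')).eq,
        (hc1 hv (P.VJ hv')).eq]
      group
    rw [ec, ec']
    rcases h0 with k | k <;> rw [k]
    · exact Or.inl rfl
    · right; group
  have hcardJ : Nat.card ↥J = 2048 := by
    let f : ↥V × ↥E → ↥J := fun p => ⟨p.1 * p.2, mul_mem (P.VJ p.1.2) (P.EJ p.2.2)⟩
    have hf : Function.Bijective f := by
      refine ⟨fun ⟨a, x⟩ ⟨b, y⟩ e => ?_, fun ⟨x, hx⟩ => ?_⟩
      · have e' : (a : G) * x = b * y := congrArg Subtype.val e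
        have h1 : (b : G)⁻¹ * a = y * (x : G)⁻¹ := by
          rw [eq_mul_inv_iff_mul_eq, mul_assoc, e', inv_mul_cancel_left]
        have h2 := P.VE_bot _ (mul_mem (inv_mem b.2) a.2) (h1 ▸ mul_mem y.2 (inv_mem x.2))
        have hab : (a : G) = b := (inv_mul_eq_one.1 h2).symm
        exact Prod.ext (Subtype.ext hab) (Subtype.ext (mul_left_cancel (hab ▸ e')))
      · obtain ⟨v, hv, e, he, rfl⟩ := P.split x hx
        exact ⟨(⟨v, hv⟩, ⟨e, he⟩), rfl⟩
    rw [← Nat.card_eq_of_bijective f hf, Nat.card_prod, P.card_V, P.card_E]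
  obtain ⟨a, hna⟩ : ∃ a : A, a ∉ N₀ := by
    by_contra hcon
    simp only [not_exists, not_not] at hcon
    have := P.index
    rw [(Subgroup.eq_top_iff' _).2 hcon, Subgroup.index_top] at this
    norm_num at this
  let T : Top G :=
    { z := z
      c := c
      J := J
      N := P.NN
      W := P.σ.range
      E := E
      zz := P.zz
      z_ne := P.z_ne
      zJ := P.zJ
      JN := hJN
      norm := P.norm
      cH := P.cH
      c_three := P.c_three
      WJ := fun w hw => (P.range_centre hw).1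
      card_W := P.card_range
      W_sq := fun w hw => P.centre_sq (P.range_centre hw)
      zW := P.z_notMem
      W_norm := fun h hh w hw => P.range_norm hh hw
      c_fpf := fun w hw e => P.range_fpf hw e
      N_iff := fun h => P.mem_NN
      sq := hsq
      comm := hcomm
      cen := fun a ha h => P.centre_split
        ⟨P.self a ha h, Subgroup.mem_centralizer_iff.2 fun y hy => (h y hy).symm⟩
      card_J := hcardJ
      c_fix := P.c_fix
      EJ := P.EJ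
      E_extra := P.extra
      card_E := P.card_E
      E_centre := fun x hx h => by
        have hZ : x ∈ J ⊓ Subgroup.centralizer (J : Set G) := by
          rcases h with h | h
          · exact P.range_centre h
          · simpa [mul_assoc, P.zz] using mul_mem (P.range_centre h) P.z_centre
        exact P.centre_E hx fun y hy => P.centre_comm hZ (P.EJ hy)
      E_split := fun x hx => by
        obtain ⟨v, hv, e, he, rfl⟩ := P.split x hx
        refine ⟨e, he, ?_⟩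
        rw [show e⁻¹ * (v * e) = v by rw [P.VE v hv e he, inv_mul_cancel_left]]
        exact P.centre_split (P.V_centre hv)
      π := πN
      surj := eN.surjective.comp fun b => by
        obtain ⟨u, hu, e⟩ := P.exists_NN b.2
        exact ⟨⟨u, hu⟩, Subtype.ext e⟩
      ker := hker
      c_N := fun u hu => by
        have := inv_mem (P.NN_mod hu)
        simpa [mul_assoc] using this
      c_norm := P.c_mod
      outer := fun h hh hc => (P.ker ⟨h, hh⟩).1 (by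
        rw [← Subgroup.mem_bot, ← P.faith]
        refine Subgroup.mem_centralizer_iff.2 fun b hb => ?_
        obtain ⟨u, hu, rfl⟩ := P.exists_NN hb
        have h1 : φ (⟨h, hh⟩ * ⟨u, hu.1⟩ * ⟨h, hh⟩⁻¹ * ⟨u, hu.1⟩⁻¹) = 1 := (P.ker _).2 (Or.inl (hc u hu))
        rw [map_mul, map_mul, map_mul, map_inv, map_inv, mul_inv_eq_one] at h1
        exact (mul_inv_eq_iff_eq_mul.1 h1).symm)
      out := by
        obtain ⟨⟨h, hh⟩, rfl⟩ := P.surj a
        refine ⟨h, hh, fun k => hna (P.phi_NN k), fun k => hna ?_, fun k => hna ?_⟩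
        · have := P.phi_NN k
          rwa [show (⟨h * c, k.1⟩ : ↥(CC z)) = ⟨h, hh⟩ * ⟨c, P.cH⟩ from rfl, map_mul, P.phi_c, mul_one] at this
        · have := P.phi_NN k
          rwa [show (⟨h * (c * c), k.1⟩ : ↥(CC z)) = ⟨h, hh⟩ * (⟨c, P.cH⟩ * ⟨c, P.cH⟩) from rfl, map_mul,
            map_mul, P.phi_c, mul_one, mul_one] at this }
  exact ⟨T, rfl, ⟨⟨φ, P.surj, P.ker⟩⟩⟩

end Pre

end Cfsg.Agent.Fus.Fi23Two
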