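import Cfsg.Agent.Lib.Fus.Fi23Two.Local

/-!
Centralisers of shape `(2² × 2¹⁺⁸)(3 × U₄(2))2`: conjugates of `z` and of the four-group meeting the centraliser.
-/

set_option autoImplicit false
set_option linter.unusedSectionVars false
set_option linter.style.haveILetI false

namespace Cfsg.Agent.Fus.Fi23Two

open Cfsg.Agent.Fus.U62Rec (Q4 CC)

variable {G : Type*} [Group G]

namespace Top

variable (T : Top G)

/-- An involution whose centraliser does not move `z` within the centraliser of `z`. -/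
def Iso (v : G) : Prop := ∀ g ∈ CC v, g * T.z * g⁻¹ ∈ CC T.z → g * T.z * g⁻¹ = T.z

/-- An element normalising the four-group. -/
def Nm (g : G) : Prop := ∀ x ∈ T.W, g * x * g⁻¹ ∈ T.W

/-- The hypotheses on fusion. -/
structure Fusion : Prop where
  sep : ∀ g, T.InZ (g * T.z * g⁻¹) → g * T.z * g⁻¹ = T.z
  isoZ : ∀ w ∈ T.W, w ≠ 1 → T.Iso (w * T.z)
  low : ∀ w ∈ T.W, w ≠ 1 → T.Iso w ∨ ∀ g ∈ CC w, T.Nm g

variable {T}

theorem Nm.mul {a b : G} (ha : T.Nm a) (hb : T.Nm b) : T.Nm (a * b) := fun x hx => by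
  have := ha _ (hb x hx)
  convert this using 1
  group

theorem Nm.surj [Finite G] {g : G} (h : T.Nm g) {y : G} (hy : y ∈ T.W) : ∃ x ∈ T.W, g * x * g⁻¹ = y := by
  let f : ↥T.W → ↥T.W := fun x => ⟨g * x * g⁻¹, h x x.2⟩
  have hf : Function.Injective f := fun a b e =>
    Subtype.ext (mul_left_cancel (mul_right_cancel (congrArg Subtype.val e)))
  obtain ⟨x, hx⟩ := (Finite.injective_iff_surjective.1 hf) ⟨y, hy⟩
  exact ⟨x, x.2, congrArg Subtype.val hx⟩

theorem Nm.inv [Finite G] {g : G} (h : T.Nm g) : T.Nm g⁻¹ := fun y hy => by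
  obtain ⟨x, hx, rfl⟩ := h.surj hy
  simpa [mul_assoc] using hx

theorem nm_of_CC {g : G} (hg : g ∈ CC T.z) : T.Nm g := T.W_norm g hg

theorem J_two (T : Top G) : IsPGroup 2 ↥T.J := IsPGroup.of_card (n := 11) (by rw [T.card_J]; norm_num)

/-- A 2-subgroup of the centraliser fixes an involution of the four-group. -/
theorem two_fixed [Finite G] (T : Top G) {R : Subgroup G} (hR : R ≤ CC T.z) (h2 : IsPGroup 2 ↥R) :
    ∃ w ∈ T.W, w ≠ 1 ∧ ∀ r ∈ R, r * w = w * r := by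
  classical
  haveI : Fact (Nat.Prime 2) := ⟨Nat.prime_two⟩
  letI : MulAction ↥R ↥T.W :=
    { smul := fun r w => ⟨r * w * (r : G)⁻¹, T.W_norm _ (hR r.2) w w.2⟩
      one_smul := fun w => Subtype.ext (by show ((1 : ↥R) : G) * w * ((1 : ↥R) : G)⁻¹ = w; simp)
      mul_smul := fun a b w => Subtype.ext (by
        show ((a * b : ↥R) : G) * w * ((a * b : ↥R) : G)⁻¹ = (a : G) * ((b : G) * w * (b : G)⁻¹) * (a : G)⁻¹
        push_cast; group) }
  have hmem : ∀ w : ↥T.W, w ∈ MulAction.fixedPoints ↥R ↥T.W ↔ ∀ r ∈ R, r * (w : G) * r⁻¹ = w := fun w =>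
    ⟨fun h r hr => congrArg Subtype.val (h ⟨r, hr⟩), fun h r => Subtype.ext (h r r.2)⟩
  by_contra hcon
  have e : MulAction.fixedPoints ↥R ↥T.W = {1} := by
    ext w
    rw [hmem, Set.mem_singleton_iff]
    refine ⟨fun h => ?_, fun h r _ => by rw [h]; simp⟩
    by_contra h1
    exact hcon ⟨w, w.2, fun e => h1 (Subtype.ext e), fun r hr => mul_inv_eq_iff_eq_mul.1 (h r hr)⟩
  have hmod := h2.card_modEq_card_fixedPoints ↥T.W
  rw [e, T.card_W, Nat.card_unique] at hmod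
  exact absurd hmod (by decide)

namespace Fusion

variable [Finite G]

/-- A Sylow subgroup of the centraliser of a central involution inside the centraliser of `z`. -/
theorem exists_sylow (hF : T.Fusion) (p : Pt T) :
    ∃ S : Sylow 2 ↥(CC p.v), ∀ x : ↥(CC p.v), ((x : G) ∈ T.J → x ∈ S) ∧ (x ∈ S → (x : G) ∈ CC T.z) := by
  classical
  haveI : Fact (Nat.Prime 2) := ⟨Nat.prime_two⟩
  set H : Subgroup ↥(CC p.v) := (CC T.z).subgroupOf (CC p.v)
  let Jv : Subgroup ↥H := (T.J.subgroupOf (CC p.v)).subgroupOf H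
  have hJ2 : IsPGroup 2 ↥Jv := (T.J_two.comap_subtype (K := CC p.v)).comap_subtype
  obtain ⟨S₀, hS₀⟩ := hJ2.exists_le_sylow
  set P : Subgroup ↥(CC p.v) := (S₀ : Subgroup ↥H).map H.subtype with hP
  have hPH : P ≤ H := Subgroup.map_subtype_le _
  have hJP : ∀ x : ↥(CC p.v), (x : G) ∈ T.J → x ∈ P := fun x hx =>
    ⟨⟨x, T.JC hx⟩, hS₀ hx, rfl⟩
  have hP2 : IsPGroup 2 ↥P := S₀.isPGroup'.map _
  obtain ⟨S, hS⟩ := hP2.exists_le_sylow
  refine ⟨S, fun x => ⟨fun hx => hS (hJP x hx), fun hx => ?_⟩⟩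
  suffices e : P = (S : Subgroup ↥(CC p.v)) by exact hPH (e ▸ hx)
  by_contra hne
  haveI := S.isPGroup'.isNilpotent
  have hlt : P.subgroupOf (S : Subgroup ↥(CC p.v)) < ⊤ := by
    refine lt_top_iff_ne_top.2 fun h => hne (le_antisymm hS ?_)
    exact fun y hy => (Subgroup.subgroupOf_eq_top.1 h) hy
  have hN := Group.normalizerCondition_of_isNilpotent (G := ↥(S : Subgroup ↥(CC p.v))) _ hlt
  obtain ⟨y, hy, hyP⟩ := SetLike.exists_of_lt hN
  rw [Subgroup.mem_subgroupOf] at hyP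
  have hnorm : ∀ q ∈ P, (y : ↥(CC p.v)) * q * (y : ↥(CC p.v))⁻¹ ∈ P := fun q hq => by
    have := (Subgroup.mem_normalizer_iff.1 hy ⟨q, hS hq⟩).1 hq
    exact this
  have hnorm' : ∀ q ∈ P, (y : ↥(CC p.v))⁻¹ * q * (y : ↥(CC p.v)) ∈ P := fun q hq => by
    have := (Subgroup.mem_normalizer_iff.1 hy (y⁻¹ * ⟨q, hS hq⟩ * y)).2 (by
      rw [Subgroup.mem_subgroupOf]; push_cast; group; exact hq)
    exact this
  let g : G := ((y : ↥(CC p.v)) : G)
  have hzP : (⟨T.z, p.J_v T.zJ⟩ : ↥(CC p.v)) ∈ P := hJP _ T.zJ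
  have hgz : g * T.z * g⁻¹ = T.z := hF.sep g (T.cen _ (hPH (hnorm _ hzP)) fun j hj => by
    have h1 : g⁻¹ * j * g ∈ CC T.z := hPH (hnorm' ⟨j, p.J_v hj⟩ (hJP _ hj))
    calc g * T.z * g⁻¹ * j = g * (T.z * (g⁻¹ * j * g)) * g⁻¹ := by group
      _ = g * (g⁻¹ * j * g * T.z) * g⁻¹ := by rw [T.comm_z h1]
      _ = _ := by group)
  have hyH : (y : ↥(CC p.v)) ∈ H := T.mem_CC (mul_inv_eq_iff_eq_mul.1 hgz)
  refine hyP ?_
  have hle : (S₀ : Subgroup ↥H) ≤ ((S : Subgroup ↥(CC p.v)) ⊓ Subgroup.normalizer (P : Set ↥(CC p.v))).comap H.subtype := by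
    intro u hu
    have : (u : ↥(CC p.v)) ∈ P := ⟨u, hu, rfl⟩
    exact ⟨hS this, P.le_normalizer this⟩
  have h2 : IsPGroup 2 ↥(((S : Subgroup ↥(CC p.v)) ⊓ Subgroup.normalizer (P : Set ↥(CC p.v))).comap H.subtype) :=
    (S.isPGroup'.to_le inf_le_left).comap_subtype
  have := S₀.is_maximal' h2 hle
  refine ⟨⟨_, hyH⟩, ?_, rfl⟩
  rw [← this]
  refine ⟨y.2, ?_⟩
  refine Subgroup.mem_normalizer_iff.2 fun q => ⟨hnorm q, fun h => ?_⟩
  have := hnorm' _ h
  simpa [mul_assoc] using this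

/-- A conjugate of a central involution centralised by a 2-group has its centre centralised by it, for a
suitable choice of the conjugating element. -/
theorem rep (hF : T.Fusion) (p : Pt T) {g : G} {R : Subgroup G}
    (hR : ∀ r ∈ R, r * (g * p.v * g⁻¹) = g * p.v * g⁻¹ * r) (h2 : IsPGroup 2 ↥R) :
    ∃ k ∈ CC p.v, ∀ r ∈ R, r * (g * k * T.z * (g * k)⁻¹) = g * k * T.z * (g * k)⁻¹ * r := by
  classical
  haveI : Fact (Nat.Prime 2) := ⟨Nat.prime_two⟩
  obtain ⟨S, hS⟩ := hF.exists_sylow p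
  set R' := (R.map (MulAut.conj g⁻¹).toMonoidHom).subgroupOf (CC p.v)
  obtain ⟨S', hS'⟩ := ((h2.map (MulAut.conj g⁻¹).toMonoidHom).comap_subtype (K := CC p.v)).exists_le_sylow
  obtain ⟨a, ha⟩ := MulAction.exists_smul_eq ↥(CC p.v) S' S
  refine ⟨(a : G)⁻¹, inv_mem a.2, fun r hr => ?_⟩
  have hv : g⁻¹ * r * g ∈ CC p.v := Subgroup.mem_centralizer_singleton_iff.2 (Fi22Two.comm_of_conj (hR r hr))
  have hm : (⟨g⁻¹ * r * g, hv⟩ : ↥(CC p.v)) ∈ S' := hS' ⟨r, hr, by simp⟩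
  have hm' : a * ⟨g⁻¹ * r * g, hv⟩ * a⁻¹ ∈ S := by rw [← ha]; exact ⟨_, hm, rfl⟩
  refine Fi22Two.conj_back ?_
  have := T.comm_z ((hS _).2 hm')
  convert this using 2 <;> · push_cast; group

/-- A central involution of a conjugate of `J` in the centre of `J`. -/
theorem common (hF : T.Fusion) {g : G} (hs : g * T.z * g⁻¹ ∈ CC T.z) (p : Pt T) (hf : T.InZ (g * p.v * g⁻¹)) :
    T.Nm g ∧ (T.Iso (g * p.v * g⁻¹) → g * T.z * g⁻¹ = T.z) := by
  classical
  haveI : Fact (Nat.Prime 2) := ⟨Nat.prime_two⟩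
  set f := g * p.v * g⁻¹ with hfd
  obtain ⟨w, hw, e⟩ := T.inZ_cases hf
  have hw1 : w ≠ 1 := by
    rintro rfl
    rcases e with e | e
    · exact p.v_ne (conj_eq_one_iff.1 e)
    · rw [one_mul] at e
      have h := hF.sep g⁻¹ (by
        rw [← e, hfd, show g⁻¹ * (g * p.v * g⁻¹) * g⁻¹⁻¹ = p.v by group]; exact p.v_inZ)
      rw [← e, hfd, show g⁻¹ * (g * p.v * g⁻¹) * g⁻¹⁻¹ = p.v by group] at h
      exact p.v_z (h.trans e)
  let q : Pt T := { Pt.ofW (T := T) hw hw1 with v := f, hv := e }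
  obtain ⟨S, hS⟩ := hF.exists_sylow p
  obtain ⟨S', hS'⟩ := hF.exists_sylow q
  have hconj : ∀ x ∈ CC p.v, g * x * g⁻¹ ∈ CC f := fun x hx =>
    Subgroup.mem_centralizer_singleton_iff.2 (by rw [hfd, conj_mul, conj_mul, p.comm_v hx])
  set R := ((S : Subgroup ↥(CC p.v)).map (CC p.v).subtype).map (MulAut.conj g).toMonoidHom
  obtain ⟨R', hR'⟩ := ((S.isPGroup'.map (CC p.v).subtype).map (MulAut.conj g).toMonoidHom).comap_subtype
    (K := CC f) |>.exists_le_sylow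
  obtain ⟨a, ha⟩ := MulAction.exists_smul_eq ↥(CC f) R' S'
  have hmem : ∀ x : ↥(CC p.v), x ∈ S → a * ⟨g * x * g⁻¹, hconj x x.2⟩ * a⁻¹ ∈ S' := fun x hx => by
    rw [← ha]
    exact ⟨_, hR' ⟨x, ⟨x, hx, rfl⟩, rfl⟩, rfl⟩
  have hzS : (⟨T.z, p.J_v T.zJ⟩ : ↥(CC p.v)) ∈ S := (hS _).1 T.zJ
  -- the conjugate of `z` centralises the Sylow subgroup at `f`
  have hcen : ∀ y : ↥(CC f), y ∈ S' → (a : G) * g * T.z * ((a : G) * g)⁻¹ * y =
      y * ((a : G) * g * T.z * ((a : G) * g)⁻¹) := by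
    intro y hy
    have hy' : a⁻¹ * y * a ∈ R' := by
      rw [← ha] at hy
      obtain ⟨u, hu, rfl⟩ := hy
      simpa [mul_assoc] using hu
    have hsR : ∀ u : ↥(CC f), u ∈ R' → (u : G) ∈ R := by
      have hsub : R ≤ CC f := by
        rintro _ ⟨_, ⟨x, -, rfl⟩, rfl⟩
        exact hconj x x.2
      have hcc : CC f = (CC p.v).map (MulAut.conj g).toMonoidHom := by
        ext x
        constructor
        · intro hx
          exact ⟨g⁻¹ * x * g, Subgroup.mem_centralizer_singleton_iff.2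
            (Fi22Two.comm_of_conj (Subgroup.mem_centralizer_singleton_iff.1 hx)), by simp [mul_assoc]⟩
        · rintro ⟨y, hy, rfl⟩
          exact hconj y hy
      have hmax : (R.subgroupOf (CC f)) = (R' : Subgroup ↥(CC f)) := by
        refine Subgroup.eq_of_le_of_card_ge hR' (le_of_eq ?_)
        rw [Nat.card_congr (Subgroup.subgroupOfEquivOfLe hsub).toEquiv,
          Subgroup.card_map_of_injective (MulAut.conj g).injective,
          Subgroup.card_map_of_injective (Subgroup.subtype_injective _), S.card_eq_multiplicity,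
          R'.card_eq_multiplicity]
        rw [hcc, Subgroup.card_map_of_injective (MulAut.conj g).injective]
      intro u hu
      exact (show u ∈ R.subgroupOf (CC f) from hmax ▸ hu)
    obtain ⟨_, ⟨x, hx, rfl⟩, e'⟩ := hsR _ hy'
    have hxz := T.comm_z ((hS x).2 hx)
    change g * (x : G) * g⁻¹ = ((a⁻¹ * y * a : ↥(CC f)) : G) at e'
    push_cast at e'
    have ey : (y : G) = (a : G) * g * x * ((a : G) * g)⁻¹ := by
      rw [show (y : G) = a * ((a : G)⁻¹ * y * a) * (a : G)⁻¹ by group, ← e']; group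
    rw [ey, conj_mul, conj_mul, hxz]
  have hzH : (a : G) * g * T.z * ((a : G) * g)⁻¹ ∈ CC T.z := by
    have := (hS' _).2 (hmem _ hzS)
    push_cast at this
    convert this using 1
    group
  have h1 : (a : G) * g * T.z * ((a : G) * g)⁻¹ = T.z := hF.sep _ (T.cen _ hzH fun j hj =>
    hcen ⟨j, q.J_v hj⟩ ((hS' _).1 hj))
  have hag : (a : G) * g ∈ CC T.z := T.mem_CC (mul_inv_eq_iff_eq_mul.1 h1)
  have hs' : g * T.z * g⁻¹ = (a : G)⁻¹ * T.z * (a : G) := by
    conv_rhs => rw [← h1]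
    group
  have hiso : T.Iso f → g * T.z * g⁻¹ = T.z := fun hI => by
    have := hI (a : G)⁻¹ (inv_mem a.2) (by rw [inv_inv, ← hs']; exact hs)
    rwa [inv_inv, ← hs'] at this
  refine ⟨?_, hiso⟩
  have hH : ∀ hI : T.Iso f, T.Nm g := fun hI => nm_of_CC (T.mem_CC (mul_inv_eq_iff_eq_mul.1 (hiso hI)))
  rcases e with e | e
  · rcases hF.low w hw hw1 with hI | hI
    · exact hH (e ▸ hI)
    · have := (hI (a : G)⁻¹ (e ▸ inv_mem a.2)).mul (nm_of_CC hag)
      rwa [inv_mul_cancel_left] at this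
  · exact hH (e ▸ hF.isoZ w hw hw1)

/-- The conjugate of `z` next to a conjugate of `w z` in the centraliser centralises the centraliser of the
latter in `J`. -/
theorem trick (hF : T.Fusion) {g w : G} (hw : w ∈ T.W) (hw1 : w ≠ 1) (hs : g * T.z * g⁻¹ ∈ CC T.z)
    (hx : g * (w * T.z) * g⁻¹ ∈ CC T.z) {y : G} (hy : y ∈ T.J)
    (hc : y * (g * (w * T.z) * g⁻¹) = g * (w * T.z) * g⁻¹ * y) :
    y * (g * T.z * g⁻¹) = g * T.z * g⁻¹ * y := by
  let p : Pt T := { Pt.ofW (T := T) hw hw1 with v := w * T.z, hv := Or.inr rfl }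
  set x := g * (w * T.z) * g⁻¹ with hxd
  set s := g * T.z * g⁻¹ with hsd
  have hsx : s * x = x * s := by rw [hsd, hxd, conj_mul, conj_mul, T.inZ_comm T.zN (T.inZ_Wz hw)]
  let A : Subgroup G := T.J ⊓ CC x
  have hA : IsPGroup 2 ↥A := T.J_two.to_le inf_le_left
  have hS : IsPGroup 2 ↥(Subgroup.zpowers s) :=
    IsPGroup.of_card (n := 1) (by
      rw [Nat.card_zpowers, pow_one]
      exact orderOf_eq_prime (by rw [pow_two, hsd, conj_mul, T.zz]; group)
        fun e => T.z_ne (conj_eq_one_iff.1 e))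
  have hsx' : s ∈ CC x := Subgroup.mem_centralizer_singleton_iff.2 hsx
  have hnorm : Subgroup.zpowers s ≤ Subgroup.normalizer (A : Set G) := Subgroup.zpowers_le.2 (by
    rw [Subgroup.mem_normalizer_iff]
    have key : ∀ {h m : G}, h ∈ CC T.z → h ∈ CC x → m ∈ A → h * m * h⁻¹ ∈ A := fun {h m} h1 h2 hm =>
      ⟨T.norm h h1 m hm.1, (CC x).mul_mem ((CC x).mul_mem h2 hm.2) ((CC x).inv_mem h2)⟩
    refine fun m => ⟨key hs hsx', fun hm => ?_⟩
    simpa [mul_assoc] using key (inv_mem hs) (inv_mem hsx') hm)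
  obtain ⟨k, hk, hkR⟩ := hF.rep p (g := g) (R := A ⊔ Subgroup.zpowers s) (fun r hr => by
    have : r ∈ CC x := (sup_le inf_le_right (Subgroup.zpowers_le.2 hsx')) hr
    exact Subgroup.mem_centralizer_singleton_iff.1 this) (hA.to_sup_of_normal_left' hS hnorm)
  have e1 := hkR s (Subgroup.mem_sup_right (Subgroup.mem_zpowers s))
  have e2 : k * T.z * k⁻¹ = T.z := by
    refine hF.isoZ w hw hw1 k hk (T.mem_CC ?_)
    have := congrArg (fun m => g⁻¹ * m * g) e1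
    simp only [hsd] at this
    calc k * T.z * k⁻¹ * T.z = g⁻¹ * (g * k * T.z * (g * k)⁻¹ * (g * T.z * g⁻¹)) * g := by group
      _ = g⁻¹ * (g * T.z * g⁻¹ * (g * k * T.z * (g * k)⁻¹)) * g := this.symm
      _ = _ := by group
  have e3 := hkR y (Subgroup.mem_sup_left ⟨hy, Subgroup.mem_centralizer_singleton_iff.2 hc⟩)
  rwa [show g * k * T.z * (g * k)⁻¹ = s by rw [hsd, show g * k * T.z * (g * k)⁻¹ = g * (k * T.z * k⁻¹) * g⁻¹ by group, e2]]
    at e3

end Fusion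

end Top

end Cfsg.Agent.Fus.Fi23Two
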