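import Cfsg.Agent.Lib.Fus.Fi23Two.Rule
import Cfsg.Agent.Lib.Fus.Fi23Two.Fusion
import Cfsg.Agent.Lib.Fus.Fi22Two.Fixed
import Cfsg.Agent.Lib.Spor.Cos.Fi22.IsSimple

/-!
Centralisers of shape `(2² × 2¹⁺⁸)(3 × U₄(2))2`: consequences of the three possibilities for the quotients.
-/

set_option autoImplicit false
set_option linter.unusedSectionVars false
set_option linter.style.haveILetI false

namespace Cfsg.Agent.Fus.Fi23Two

open Cfsg
open Cfsg.Agent.Fus.U62Rec (Q4 CC)

variable {G : Type*} [Group G] [Finite G] {S : Type*} [Group S]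

/-- What is needed of the simple group of order divisible by eleven. -/
structure Big (S : Type*) [Group S] : Prop where
  simple : IsSimpleGroup S
  finite : Finite S
  eleven : 11 ∣ Nat.card S
  four : 4 ∣ Nat.card S

theorem Big.not_exp_two (hS : Big S) : ∃ x : S, x * x ≠ 1 := by
  haveI := hS.finite
  haveI : Fact (Nat.Prime 11) := ⟨by norm_num⟩
  obtain ⟨x, hx⟩ := exists_prime_orderOf_dvd_card' 11 hS.eleven
  refine ⟨x, fun e => ?_⟩
  have := orderOf_dvd_of_pow_eq_one (show x ^ 2 = 1 by rw [pow_two, e])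
  rw [hx] at this
  norm_num at this

theorem sq_index_two {M : Type*} [Group M] {K : Subgroup M} (h : K.index = 2) (x : M) : x * x ∈ K :=
  Subgroup.mul_self_mem_of_index_two h x

theorem oddCore_odd {M : Type*} [Group M] [Finite M] : Odd (Nat.card ↥(oddCore M)) :=
  Nat.coprime_two_right.1 (Grp.pPrimeCore_coprime (p := 2) (G := M))

namespace Pt

variable {T : Top G} (p : Pt T) (C : T.Chart)

/-- The centraliser of `z` has no element of order eleven. -/
theorem eleven_H {A : Type*} [Group A] (Q : Quo T A) (hA : ¬ 11 ∣ Nat.card A) {x : G} (hx : x ∈ CC T.z)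
    (h : x ^ 11 = 1) : x = 1 := by
  haveI : Fact (Nat.Prime 11) := ⟨by norm_num⟩
  haveI : Finite A := Finite.of_surjective _ Q.surj
  have h1 : Q.φ ⟨x, hx⟩ ^ 11 = 1 := by
    rw [← map_pow, ← map_one Q.φ]; exact congrArg _ (Subtype.ext h)
  have h2 : Q.φ ⟨x, hx⟩ = 1 := by
    rcases (Nat.dvd_prime (by norm_num : Nat.Prime 11)).1 (orderOf_dvd_of_pow_eq_one h1) with k | k
    · exact orderOf_eq_one_iff.1 k
    · exact absurd (k ▸ orderOf_dvd_natCard (Q.φ ⟨x, hx⟩)) hA
  have hpow : ∀ k, k ∈ CC T.z → x * k ∈ T.J → k * k * k = 1 → x * x * x ∈ T.J := by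
    intro k hk hj hk3
    have e : x * x * x = x * k * (k⁻¹ * (x * k) * k) * (k⁻¹ * k⁻¹ * (x * k) * (k * k)) * (k * k * k)⁻¹ := by
      simp [mul_assoc]
    rw [e, hk3, inv_one, mul_one]
    refine mul_mem (mul_mem hj (by simpa using T.norm _ (inv_mem hk) _ hj)) ?_
    have := T.norm _ (inv_mem (mul_mem hk hk)) _ hj
    convert this using 1
    simp [mul_assoc]
  have h3 : x * x * x ∈ T.J := by
    rcases (Q.ker ⟨x, hx⟩).1 h2 with j | j | j
    · exact mul_mem (mul_mem j j) j
    · exact hpow _ T.cH j T.c_three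
    · refine hpow _ (mul_mem T.cH T.cH) j ?_
      calc T.c * T.c * (T.c * T.c) * (T.c * T.c) = T.c * T.c * T.c * (T.c * T.c * T.c) := by group
        _ = 1 := by rw [T.c_three, one_mul]
  have h4 : (x * x * x) ^ 4 = 1 := by
    rw [Fi22Two.pow_four']
    rcases T.sq _ h3 with e | e <;> rw [e]
    exacts [one_mul 1, T.zz]
  calc x = x ^ (12 : ℕ) * (x ^ (11 : ℕ))⁻¹ := by group
    _ = (x * x * x) ^ 4 * (x ^ (11 : ℕ))⁻¹ := by congr 1; simp [pow_succ, mul_assoc]
    _ = 1 := by rw [h4, h, inv_one, mul_one]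

theorem card_dvd : Nat.card p.X ∣ Nat.card ↥(CC p.v) := Subgroup.card_quotient_dvd_card _

include C in
/-- With a quotient covered by the centraliser of the image of `z`, nothing moves `z` next to itself. -/
theorem iso_of_low (hlow : CC p.zb ⊔ oddCore p.X = ⊤) : T.Iso p.v := by
  haveI : (oddCore p.X).Normal := Grp.pPrimeCore_isNormal
  intro g hg hgz
  have htop : (p.bar g hg) ∈ CC p.zb ⊔ oddCore p.X := hlow ▸ Subgroup.mem_top _
  obtain ⟨h, hh, k, hk, e⟩ := Subgroup.mem_sup_of_normal_right.1 htop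
  have hhz := Subgroup.mem_centralizer_singleton_iff.1 hh
  set m := k * p.zb * k⁻¹ * p.zb⁻¹ with hm
  have hmO : m ∈ oddCore p.X := by
    rw [hm, show k * p.zb * k⁻¹ * p.zb⁻¹ = k * (p.zb * k⁻¹ * p.zb⁻¹) by group]
    exact mul_mem hk (Subgroup.Normal.conj_mem inferInstance _ (inv_mem hk) _)
  have hzz : p.zb * p.zb = 1 := by rw [zb, p.mk_mul, p.mk_eq_one]; exact Or.inl T.zz
  have hcomm : Commute p.zb (k * p.zb * k⁻¹) := by
    have hgz' : Commute p.zb (p.bar g hg * p.zb * (p.bar g hg)⁻¹) := by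
      show p.zb * _ = _ * p.zb
      rw [zb, p.mk_inv, p.mk_mul, p.mk_mul, p.mk_mul, p.mk_mul, p.mk_eq]
      exact Or.inl (T.comm_z hgz)
    have h2 := hgz'.map (MulAut.conj h⁻¹).toMonoidHom
    simp only [MulEquiv.coe_toMonoidHom, MulAut.conj_apply, inv_inv] at h2
    rw [← e, show h⁻¹ * p.zb * h = p.zb by rw [mul_assoc, ← hhz, inv_mul_cancel_left],
      show h⁻¹ * (h * k * p.zb * (h * k)⁻¹) * h = k * p.zb * k⁻¹ by group] at h2
    exact h2
  have hm2 : m ^ 4 = 1 := by
    have hsq : k * p.zb * k⁻¹ * (k * p.zb * k⁻¹) = 1 := by rw [conj_mul, hzz, mul_one, mul_inv_cancel]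
    have hzi := inv_eq_of_mul_eq_one_right hzz
    have hmm : k * p.zb * k⁻¹ * p.zb * (k * p.zb * k⁻¹ * p.zb) = 1 := by
      rw [show k * p.zb * k⁻¹ * p.zb * (k * p.zb * k⁻¹ * p.zb) =
        k * p.zb * k⁻¹ * (p.zb * (k * p.zb * k⁻¹)) * p.zb by group, hcomm.eq, ← mul_assoc, hsq, one_mul, hzz]
    rw [hm, hzi, Fi22Two.pow_four', hmm, one_mul]
  have hm1 := Fi22Two.inf_odd oddCore_odd hmO hm2
  have hgb : p.bar g hg * p.zb * (p.bar g hg)⁻¹ = p.zb := by
    rw [← e, show h * k * p.zb * (h * k)⁻¹ = h * (k * p.zb * k⁻¹ * p.zb⁻¹ * p.zb) * h⁻¹ by group, ← hm, hm1,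
      one_mul, hhz, mul_inv_cancel_right]
  rw [zb, p.mk_inv, p.mk_mul, p.mk_mul, p.mk_eq] at hgb
  rcases hgb with f | f
  · exact f.symm
  · exfalso
    refine p.core_conj C hg (?_ : g * T.z * g⁻¹ = T.z * p.v)
    conv_rhs => rw [f]
    rw [mul_assoc _ p.v p.v, p.vv, mul_one]

include C in
/-- An involution of the centre is not conjugate to `z`. -/
theorem not_conj {A : Type*} [Group A] (Q : Quo T A) (hA : ¬ 11 ∣ Nat.card A) (hS : Big S)
    (tri : CC p.zb ⊔ oddCore p.X = ⊤ ∨ p.Mid S ∨ Spor.IsoFi22 p.X) (g : G) : g * T.z * g⁻¹ ≠ p.v := by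
  classical
  intro e
  haveI : Fact (Nat.Prime 11) := ⟨by norm_num⟩
  have hin : ∀ {x : G}, x ∈ CC T.z → g * x * g⁻¹ ∈ CC p.v := fun {x} hx =>
    Subgroup.mem_centralizer_singleton_iff.2 (by rw [← e, conj_mul, conj_mul, T.comm_z hx])
  have hout : ∀ {x : G}, x ∈ CC p.v → g⁻¹ * x * g ∈ CC T.z := fun {x} hx => by
    refine T.mem_CC (Fi22Two.comm_of_conj ?_)
    rw [e]; exact p.comm_v hx
  have hno : ¬ 11 ∣ Nat.card p.X := fun hd => by
    obtain ⟨x, hx⟩ := exists_prime_orderOf_dvd_card' 11 (hd.trans p.card_dvd)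
    have h1 : (x : G) ^ 11 = 1 := by rw [← Subgroup.coe_pow, ← hx, pow_orderOf_eq_one]; rfl
    have h2 := eleven_H Q hA (hout x.2) (by
      rw [show g⁻¹ * (x : G) * g = g⁻¹ * x * g⁻¹⁻¹ by rw [inv_inv], conj_pow, h1, mul_one, mul_inv_cancel])
    have : (x : G) = 1 := by
      calc (x : G) = g * (g⁻¹ * x * g) * g⁻¹ := by group
        _ = 1 := by rw [h2, mul_one, mul_inv_cancel]
    rw [show x = 1 from Subtype.ext this, orderOf_one] at hx
    norm_num at hx
  rcases tri with h | ⟨z₁, -, -, -, G₀, -, -, f, hf, -⟩ | hfi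
  · haveI hn : (oddCore p.X).Normal := Grp.pPrimeCore_isNormal
    have hO : oddCore p.X = ⊥ := by
      refine (Subgroup.eq_bot_iff_forall _).2 fun q hq => ?_
      set n := Nat.card ↥(oddCore p.X)
      have hn2 : Odd n := oddCore_odd
      have hqn : q ^ n = 1 := congrArg Subtype.val (pow_card_eq_one' (x := (⟨q, hq⟩ : ↥(oddCore p.X))))
      set y := p.rep q ^ (n + 1) with hy
      have hyv : y ∈ CC p.v := pow_mem (p.rep_mem q) _
      have hyq : p.bar y hyv = q := by
        calc p.bar y hyv = q ^ (n + 1) := by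
              conv_rhs => rw [← p.bar_rep q]
              rfl
          _ = q := by rw [pow_succ, hqn, one_mul]
      have hyn : y ^ n = 1 := by
        rw [hy, ← pow_mul, mul_comm, pow_mul]
        have h1 : p.bar (p.rep q ^ n) (pow_mem (p.rep_mem q) n) = 1 := by
          conv_rhs => rw [← hqn, ← p.bar_rep q]
          rfl
        obtain ⟨i, hi⟩ := hn2
        rcases (p.mk_eq_one _).1 h1 with k | k <;> rw [k]
        · exact one_pow _
        · rw [hi, show 2 * i + 1 + 1 = 2 * (i + 1) by ring, pow_mul, pow_two, p.vv, one_pow]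
      set y' := g⁻¹ * y * g
      have hy'H : y' ∈ CC T.z := hout hyv
      have hy'n : y' ^ n = 1 := by
        rw [show y' = g⁻¹ * y * g⁻¹⁻¹ by simp [y'], conj_pow, hyn, mul_one, mul_inv_cancel]
      have hyJ : ∀ j ∈ T.J, y' * j = j * y' := fun j hj => by
        set m := y' * j * y'⁻¹ * j⁻¹ with hmd
        have hmJ : m ∈ T.J := mul_mem (T.norm y' hy'H j hj) (inv_mem hj)
        have hgj := hin (T.JC hj)
        have hmO : p.bar (g * m * g⁻¹) (hin (T.JC hmJ)) ∈ oddCore p.X := by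
          have : p.bar (g * m * g⁻¹) (hin (T.JC hmJ)) =
              p.bar y hyv * (p.bar (g * j * g⁻¹) hgj * (p.bar y hyv)⁻¹ * (p.bar (g * j * g⁻¹) hgj)⁻¹) := by
            simp only [p.mk_inv, p.mk_mul, p.mk_eq]
            left
            simp only [hmd, y']
            group
          rw [this, hyq]
          exact mul_mem hq (hn.conj_mem _ (inv_mem hq) _)
        have hm4 : p.bar (g * m * g⁻¹) (hin (T.JC hmJ)) ^ 4 = 1 := by
          have : (g * m * g⁻¹) ^ 4 = 1 := by
            rw [conj_pow, Fi22Two.pow_four']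
            rcases T.sq m hmJ with k | k <;> rw [k]
            · rw [one_mul, mul_one, mul_inv_cancel]
            · rw [T.zz, mul_one, mul_inv_cancel]
          show p.bar ((g * m * g⁻¹) ^ 4) (pow_mem (hin (T.JC hmJ)) 4) = 1
          rw [p.mk_eq_one]; exact Or.inl this
        have hm1 : m = 1 ∨ m = T.z := by
          rcases (p.mk_eq_one _).1 (Fi22Two.inf_odd oddCore_odd hmO hm4) with k | k
          · exact Or.inl (conj_eq_one_iff.1 k)
          · rw [← e] at k; exact Or.inr (mul_left_cancel (mul_right_cancel k))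
        rcases hm1 with k | k
        · exact mul_inv_eq_iff_eq_mul.1 (mul_inv_eq_one.1 k)
        exfalso
        have hyj : y' * j * y'⁻¹ = T.z * j := mul_inv_eq_iff_eq_mul.1 k
        have hiter : ∀ i : ℕ, y' ^ i * j * (y' ^ i)⁻¹ = T.z ^ i * j := fun i => by
          induction i with
          | zero => simp
          | succ i ih =>
            calc y' ^ (i + 1) * j * (y' ^ (i + 1))⁻¹ = y' * (y' ^ i * j * (y' ^ i)⁻¹) * y'⁻¹ := by
                  rw [pow_succ']; group
              _ = y' * T.z ^ i * j * y'⁻¹ := by rw [ih]; group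
              _ = T.z ^ i * (y' * j * y'⁻¹) := by
                rw [((show Commute y' T.z from T.comm_z hy'H).pow_right i).eq]; group
              _ = T.z ^ (i + 1) * j := by rw [hyj, pow_succ, mul_assoc]
        have := hiter n
        obtain ⟨i, hi⟩ := hn2
        rw [hy'n, one_mul, inv_one, mul_one, hi, pow_succ, pow_mul, pow_two, T.zz, one_pow, one_mul] at this
        exact T.z_ne (mul_eq_right.1 this.symm)
      have hy'2 := T.inZ_sq (T.cen y' hy'H hyJ)
      have hy'1 : y' = 1 := by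
        obtain ⟨i, hi⟩ := hn2
        rwa [hi, pow_succ, pow_mul, pow_two, hy'2, one_pow, one_mul] at hy'n
      rw [← hyq, p.mk_eq_one]
      left
      calc y = g * y' * g⁻¹ := by simp only [y']; group
        _ = 1 := by rw [hy'1, mul_one, mul_inv_cancel]
    rw [hO, sup_bot_eq] at h
    have hle : CC p.v ≤ CC T.z := fun x hx => (p.mem_CC_zb C hx).1 (h ▸ Subgroup.mem_top _)
    have hle' : (CC T.z).map (MulAut.conj g).toMonoidHom ≤ CC T.z := by
      rintro _ ⟨x, hx, rfl⟩; exact hle (hin hx)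
    have heq := Subgroup.eq_of_le_of_card_ge hle' (le_of_eq
      (Subgroup.card_map_of_injective (MulAut.conj g).injective).symm)
    obtain ⟨x, hx, hxc⟩ : T.c ∈ (CC T.z).map (MulAut.conj g).toMonoidHom := by rw [heq]; exact T.cH
    have hcv : T.c ∈ CC p.v := hxc ▸ hin hx
    exact p.w1 (T.c_fpf p.w p.hw (p.fix_w T.cH hcv))
  · haveI := hS.finite
    exact hno (hS.eleven.trans ((Subgroup.card_dvd_of_surjective f hf).trans (Subgroup.card_subgroup_dvd_card G₀)))
  · refine hno ?_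
    obtain ⟨f⟩ := (hfi : Nonempty _)
    rw [Nat.card_congr f.toEquiv, Spor.Cos.Fi22.card_eq]
    norm_num

/-- An element exchanging the other two involutions of the four-group, in the centraliser of `v`. -/
theorem exists_t : ∃ t, ∃ _ : t ∈ CC p.v, t ∈ CC T.z ∧ t * p.d * t⁻¹ = p.w * p.d := by
  obtain ⟨t, ht, htw, htN⟩ := T.exists_swap p.hw p.w1
  exact ⟨t, Subgroup.mem_centralizer_singleton_iff.2 ((p.comm_iff ht).2 htw), ht,
    T.swap_other ht htN p.hw p.w1 p.hd p.d1 p.dw htw⟩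

include C in
/-- Outside the four-group the middle case does not occur. -/
theorem no_mid_z (hv : p.v = p.w * T.z) : ¬ p.Mid S := by
  rintro ⟨z₁, hz₁, -, hc, -⟩
  obtain ⟨t, htv, ht, htd⟩ := p.exists_t
  have hb := p.mem_CC_zb C htv |>.2 ht
  have hbz : p.bar t htv * p.zb * (p.bar t htv)⁻¹ = p.zb :=
    mul_inv_eq_iff_eq_mul.2 (Subgroup.mem_centralizer_singleton_iff.1 hb)
  have hbd : p.bar t htv * p.db * (p.bar t htv)⁻¹ = p.db * p.zb := by
    rw [db, zb, p.mk_inv, p.mk_mul, p.mk_mul, p.mk_mul, p.mk_eq]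
    refine Or.inr ?_
    rw [htd, hv]
    calc p.d * T.z = p.w * p.d * (p.w * T.z) * (T.z * T.z) := by
          rw [T.zz, mul_one, ← mul_assoc, T.W_comm p.hw p.hd, mul_assoc p.d, T.W_sq _ p.hw, mul_one]
      _ = _ := by rw [T.zz, mul_one]
  have hne : p.zb ≠ 1 := fun k => (p.base C).z_ne k
  have hcent := mul_inv_eq_iff_eq_mul.2 (hc (p.bar t htv))
  rcases hz₁ with e | e <;> subst e
  · rw [hbd] at hcent; exact hne (mul_eq_left.1 hcent)
  · rw [← conj_mul, hbd, hbz, mul_assoc] at hcent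
    exact hne (mul_eq_left.1 (mul_left_cancel hcent))

/-- The elements commuting with a lift of a central involution. -/
theorem le_img (hS : Big S) {a : G} (hav : a ∈ CC p.v) (hac : ∀ x : p.X, x * p.bar a hav = p.bar a hav * x)
    {G₀ : Subgroup p.X} (f : ↥G₀ →* S) (hf : Function.Surjective f)
    (hker : ∀ x : ↥G₀, f x = 1 → (x : p.X) = 1 ∨ (x : p.X) = p.bar a hav) : G₀ ≤ p.img (CC a) := by
  haveI := hS.simple
  have hva : p.v ∈ CC a := Subgroup.mem_centralizer_singleton_iff.2 (p.comm_v hav).symm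
  have hconj : ∀ x ∈ CC p.v, x * a * x⁻¹ = a ∨ x * a * x⁻¹ = a * p.v := fun x hx =>
    (p.comm_iff_mk hx hav).1 (hac _)
  have haimg : p.bar a hav ∈ p.img (CC a) := (p.mem_img hva _).2 (Subgroup.mem_centralizer_singleton_iff.2 rfl)
  have hsq : ∀ x : p.X, x * x ∈ p.img (CC a) := fun x => by
    obtain ⟨y, hy, rfl⟩ := p.exists_mk x
    rw [p.mk_mul, p.mem_img hva]
    refine Subgroup.mem_centralizer_singleton_iff.2 (mul_inv_eq_iff_eq_mul.1 ?_)
    rw [show y * y * a * (y * y)⁻¹ = y * (y * a * y⁻¹) * y⁻¹ by group]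
    rcases hconj y hy with e | e <;> rw [e]
    · exact e
    · rw [← conj_mul, e, mul_inv_eq_iff_eq_mul.2 (p.comm_v hy), mul_assoc, p.vv, mul_one]
  haveI hn : (p.img (CC a)).Normal := ⟨fun q hq x => by
    obtain ⟨g, hg, rfl, hga⟩ := p.exists_rep_img hq
    obtain ⟨y, hy, rfl⟩ := p.exists_mk x
    rw [p.mk_inv, p.mk_mul, p.mk_mul, p.mem_img hva]
    refine Subgroup.mem_centralizer_singleton_iff.2 ?_
    have h1 : g * (y⁻¹ * a * y) = y⁻¹ * a * y * g := by
      have h1' := hconj y⁻¹ (inv_mem hy)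
      rw [inv_inv] at h1'
      rcases h1' with e | e <;> rw [e]
      · exact Subgroup.mem_centralizer_singleton_iff.1 hga
      · exact ((show Commute g a from Subgroup.mem_centralizer_singleton_iff.1 hga).mul_right (p.comm_v hg)).eq
    calc y * g * y⁻¹ * a = y * (g * (y⁻¹ * a * y)) * y⁻¹ := by group
      _ = _ := by rw [h1]; group⟩
  haveI hn' : (((p.img (CC a)).subgroupOf G₀).map f).Normal := (Subgroup.normal_subgroupOf).map _ hf
  rcases hn'.eq_bot_or_eq_top with h | h
  · exfalso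
    obtain ⟨s, hs⟩ := hS.not_exp_two
    obtain ⟨x, rfl⟩ := hf s
    refine hs ?_
    rw [← map_mul, ← Subgroup.mem_bot, ← h]
    exact ⟨_, Subgroup.mem_subgroupOf.2 (hsq x), rfl⟩
  · intro x hx
    obtain ⟨y, hy, e⟩ : f ⟨x, hx⟩ ∈ ((p.img (CC a)).subgroupOf G₀).map f := h ▸ Subgroup.mem_top _
    have hk := hker (⟨x, hx⟩ * y⁻¹) (by rw [map_mul, map_inv, ← e, mul_inv_cancel])
    push_cast at hk
    rcases hk with k | k
    · exact (mul_inv_eq_one.1 k) ▸ hy
    · rw [mul_inv_eq_iff_eq_mul.1 k]; exact mul_mem haimg hy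

/-- The quotient has no normal subgroup of odd order. -/
theorem Mid.no_odd (hS : Big S) (hm : p.Mid S) {M : Subgroup G} (hM : M ≤ CC p.v)
    (hn : ∀ g ∈ CC p.v, ∀ x ∈ M, g * x * g⁻¹ ∈ M) (hodd : Odd (Nat.card ↥M)) : M = ⊥ := by
  obtain ⟨z₁, -, hz₁2, -, G₀, hidx, -, f, hf, hker⟩ := hm
  haveI := hS.simple
  haveI := hS.finite
  have hMn : (M.subgroupOf (CC p.v)).Normal := ⟨fun x hx g => hn _ g.2 _ hx⟩
  set Y := p.img M
  haveI hYn : Y.Normal := hMn.map _ (QuotientGroup.mk'_surjective _)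
  have hYodd : Odd (Nat.card ↥Y) := hodd.of_dvd_nat ((Subgroup.card_map_dvd _ _).trans
    (dvd_of_eq (Nat.card_congr (Subgroup.subgroupOfEquivOfLe hM).toEquiv)))
  haveI hn' : ((Y.subgroupOf G₀).map f).Normal := (Subgroup.normal_subgroupOf).map _ hf
  have hY : Y = ⊥ := by
    rcases hn'.eq_bot_or_eq_top with h | h
    · refine (Subgroup.eq_bot_iff_forall _).2 fun q hq => ?_
      obtain ⟨i, hi⟩ := hYodd
      have hqn : q ^ (2 * i + 1) = 1 := by
        rw [← hi]; exact congrArg Subtype.val (pow_card_eq_one' (x := (⟨q, hq⟩ : ↥Y)))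
      have hq0 : q ∈ G₀ := by
        have hsq := sq_index_two hidx (q ^ i)
        rw [show q ^ i * q ^ i = q ^ (2 * i) by rw [two_mul, pow_add]] at hsq
        have hqi : q = (q ^ (2 * i))⁻¹ := by
          rw [pow_succ] at hqn; exact eq_inv_of_mul_eq_one_right hqn
        rw [hqi]; exact inv_mem hsq
      have h1 : f ⟨q, hq0⟩ = 1 := by
        rw [← Subgroup.mem_bot, ← h]; exact ⟨⟨q, hq0⟩, hq, rfl⟩
      rcases (hker _).1 h1 with k | k
      · exact k
      · change q = z₁ at k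
        rwa [pow_succ, pow_mul, k, pow_two, hz₁2, one_pow, one_mul, ← k] at hqn
    · exfalso
      have h2 : Odd (Nat.card S) := by
        rw [← Subgroup.card_top, ← h]
        refine hYodd.of_dvd_nat ((Subgroup.card_map_dvd _ _).trans ?_)
        have := Subgroup.card_comap_dvd_of_injective Y G₀.subtype (Subgroup.subtype_injective _)
        exact this
      exact (Nat.not_even_iff_odd.2 h2) (even_iff_two_dvd.2 ((by norm_num : 2 ∣ 4).trans hS.four))
  refine (Subgroup.eq_bot_iff_forall _).2 fun x hx => ?_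
  have h1 : p.bar x (hM hx) = 1 := by
    rw [← Subgroup.mem_bot, ← hY]; exact ⟨⟨x, hM hx⟩, hx, rfl⟩
  rcases (p.mk_eq_one _).1 h1 with k | k
  · exact k
  · exact Fi22Two.inf_odd hodd hx (by rw [Fi22Two.pow_four', k, p.vv, one_mul])

end Pt

end Cfsg.Agent.Fus.Fi23Two
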