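import Cfsg.Agent.Lib.Fus.Fi23Two.Basic
import Cfsg.Agent.Lib.Fus.U62Red.Frame
import Cfsg.Agent.Lib.Fus.U62Red.AutLinear
import Cfsg.Agent.Lib.Fus.Fi22Two.Act

/-!
Centralisers of shape `(2² × 2¹⁺⁸)(3 × U₄(2))2`: coordinates on `J` modulo its centre; the module is the natural
one and `c` is a scalar.
-/

set_option autoImplicit false
set_option linter.unusedSectionVars false

namespace Cfsg.Agent.Fus.Fi23Two

open Cfsg.Agent.Fus.U62Rec (Q4 CC)
open Cfsg.Agent.Fus.U62Red (Kind el mr exists_word omp IsLin natural_commutant app_mat_lt app_mat_nil app_mat_cons)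
open Cfsg.Agent.Invol.ExtraEight (app app_xor idm)

/-- Words fixing the third unit vector. -/
def fixFour : List (List ℕ) := [[3], [0, 1]]

theorem fixFour_fix : ∀ K ∈ Fi22Two.reds, ∀ w ∈ fixFour, app (K.mat w) 4 = 4 := by decide +kernel

theorem fixFour_only : ∀ K ∈ Fi22Two.reds, ∀ n < 256, (∀ w ∈ fixFour, app (K.mat w) n = n) →
    n % 64 = 0 ∨ (n % 64 = 4 ∧ (4 ^^^ n) % 64 = 0) := by decide +kernel

variable {G : Type*} [Group G]

namespace Top

variable (T : Top G)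

theorem inZ_iff_conj {h x : G} (hh : h ∈ CC T.z) : T.InZ (h * x * h⁻¹) ↔ T.InZ x := by
  refine ⟨fun e => ?_, T.inZ_conj hh⟩
  simpa [mul_assoc] using T.inZ_conj (inv_mem hh) e

/-- An element moving `J` only within its centre. -/
theorem trivial_mem_J [Finite G] {h : G} (hh : h ∈ T.N) (hc : ∀ y ∈ T.J, T.InZ (h * y * h⁻¹ * y⁻¹)) :
    h ∈ T.J := by
  classical
  haveI := Fus.U62Rec.q_simple
  let S : Subgroup ↥T.N :=
    { carrier := {u | ∀ y ∈ T.J, T.InZ ((u : G) * y * (u : G)⁻¹ * y⁻¹)}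
      one_mem' := fun y _ => by simp [T.inZ_one]
      mul_mem' := fun {a b} ha hb y hy => by
        have e : (a : G) * b * y * ((a : G) * b)⁻¹ * y⁻¹ =
            (a : G) * ((b : G) * y * (b : G)⁻¹ * y⁻¹) * (a : G)⁻¹ * ((a : G) * y * (a : G)⁻¹ * y⁻¹) := by group
        push_cast
        rw [e]
        exact T.inZ_mul (T.inZ_conj (T.NC a.2) (hb y hy)) (ha y hy)
      inv_mem' := fun {a} ha y hy => by
        have hy' := T.norm _ (inv_mem (T.NC a.2)) y hy
        have h1 := T.inZ_conj (inv_mem (T.NC a.2)) (ha y hy)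
        push_cast
        rw [← T.inZ_inv h1] at h1
        rw [show (a : G)⁻¹ * y * (a : G)⁻¹⁻¹ * y⁻¹ =
          ((a : G)⁻¹ * ((a : G) * y * (a : G)⁻¹ * y⁻¹) * (a : G)⁻¹⁻¹)⁻¹ by group]
        exact h1 }
  haveI hS : S.Normal := ⟨fun x hx g y hy => by
    have hy' := T.norm _ (inv_mem (T.NC g.2)) y hy
    have h1 := T.inZ_conj (T.NC g.2) (hx _ hy')
    push_cast
    rw [show (g : G) * x * (g : G)⁻¹ * y * ((g : G) * x * (g : G)⁻¹)⁻¹ * y⁻¹ =
      (g : G) * ((x : G) * ((g : G)⁻¹ * y * (g : G)⁻¹⁻¹) * (x : G)⁻¹ * ((g : G)⁻¹ * y * (g : G)⁻¹⁻¹)⁻¹) *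
        (g : G)⁻¹ by group]
    exact h1⟩
  haveI : (S.map T.π).Normal := hS.map _ T.surj
  rcases (inferInstance : (S.map T.π).Normal).eq_bot_or_eq_top with e | e
  · have : T.π ⟨h, hh⟩ ∈ S.map T.π := ⟨⟨h, hh⟩, hc, rfl⟩
    rw [e, Subgroup.mem_bot] at this
    exact (T.ker _).1 this
  exfalso
  have hall : ∀ u : ↥T.N, u ∈ S := fun u => by
    obtain ⟨v, hv, e'⟩ : T.π u ∈ S.map T.π := e ▸ Subgroup.mem_top _
    have hj : u * v⁻¹ ∈ S := fun y hy => by
      have hJ : ((u * v⁻¹ : ↥T.N) : G) ∈ T.J := (T.ker _).1 (by rw [map_mul, map_inv, e', mul_inv_cancel])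
      rcases T.comm_eq hJ hy with f | f <;> rw [f]
      · simp [T.inZ_one]
      · rw [T.z_conj (T.JC hy)]
        exact T.inZ_z
    have := S.mul_mem hj hv
    rwa [inv_mul_cancel_right] at this
  haveI : Fact (Nat.Prime 3) := ⟨Nat.prime_three⟩
  have h3 : 3 ∣ Nat.card ↥T.N := by
    refine Dvd.dvd.trans ?_ (Subgroup.card_dvd_of_surjective T.π T.surj)
    rw [Fus.U62Rec.card_Q4]; norm_num
  obtain ⟨u, hu⟩ := exists_prime_orderOf_dvd_card' 3 h3
  have hu3 : (u : G) ^ 3 = 1 := by rw [← Subgroup.coe_pow, ← hu, pow_orderOf_eq_one]; rfl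
  have hcomm : ∀ y ∈ T.J, (u : G) * y = y * u := fun y hy => by
    set a := (u : G) * y * (u : G)⁻¹ * y⁻¹ with had
    have ha : T.InZ a := hall u y hy
    have e1 : (u : G) * y * (u : G)⁻¹ = a * y := by rw [had]; group
    have e2 : (u : G) * a * (u : G)⁻¹ = a := mul_inv_eq_iff_eq_mul.2 (T.inZ_comm u.2 ha)
    have e3 : a * a * a * y = y := by
      calc a * a * a * y = a * a * ((u : G) * y * (u : G)⁻¹) := by rw [e1]; group
        _ = (u : G) * a * (u : G)⁻¹ * ((u : G) * a * (u : G)⁻¹) * ((u : G) * y * (u : G)⁻¹) := by rw [e2]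
        _ = (u : G) * (a * a * y) * (u : G)⁻¹ := by group
        _ = (u : G) * ((u : G) * a * (u : G)⁻¹ * ((u : G) * y * (u : G)⁻¹)) * (u : G)⁻¹ := by
          rw [e2, e1]; group
        _ = (u : G) * ((u : G) * (a * y) * (u : G)⁻¹) * (u : G)⁻¹ := by group
        _ = (u : G) * u * u * y * ((u : G) * u * u)⁻¹ := by rw [← e1]; group
        _ = y := by rw [show (u : G) * u * u = 1 by rw [← hu3, pow_three, mul_assoc], one_mul, inv_one, mul_one]
    rw [T.inZ_sq ha, one_mul] at e3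
    rw [mul_eq_right.1 e3, one_mul] at e1
    exact mul_inv_eq_iff_eq_mul.1 e1
  have h2 : u ^ 2 = 1 := Subtype.ext (by
    rw [Subgroup.coe_pow, pow_two, T.inZ_sq (T.cen _ (T.NC u.2) hcomm)]; rfl)
  have := orderOf_dvd_of_pow_eq_one h2
  rw [hu] at this
  norm_num at this

theorem c_product {w : G} (hw : w ∈ T.W) : w * (T.c * w * T.c⁻¹) * (T.c * T.c * w * (T.c * T.c)⁻¹) = 1 := by
  have hcw := T.W_norm _ T.cH w hw
  have hcw' := T.W_norm _ (mul_mem T.cH T.cH) w hw
  refine T.c_fpf _ (mul_mem (mul_mem hw hcw) hcw') (mul_inv_eq_iff_eq_mul.1 ?_)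
  calc T.c * (w * (T.c * w * T.c⁻¹) * (T.c * T.c * w * (T.c * T.c)⁻¹)) * T.c⁻¹
      = T.c * w * T.c⁻¹ * (T.c * T.c * w * (T.c * T.c)⁻¹) *
        (T.c * T.c * T.c * w * (T.c * T.c * T.c)⁻¹) := by group
    _ = T.c * w * T.c⁻¹ * (T.c * T.c * w * (T.c * T.c)⁻¹) * w := by
      rw [T.c_three, one_mul, inv_one, mul_one]
    _ = _ := by rw [← T.W_comm hw (mul_mem hcw hcw'), ← mul_assoc]

/-- Modulo the centre, `c` fixes nothing. -/
theorem c_fpf_mod {x : G} (hx : x ∈ T.J) (h : T.InZ (x⁻¹ * (T.c * x * T.c⁻¹))) : T.InZ x := by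
  set k := x⁻¹ * (T.c * x * T.c⁻¹) with hk
  obtain ⟨w, hw, e⟩ := T.inZ_cases h
  have hprod : k * (T.c * k * T.c⁻¹) * (T.c * T.c * k * (T.c * T.c)⁻¹) = 1 := by
    rw [hk]
    calc _ = x⁻¹ * (T.c * T.c * T.c * x * (T.c * T.c * T.c)⁻¹) := by group
      _ = _ := by rw [T.c_three, one_mul, inv_one, mul_one, inv_mul_cancel]
  have ek : k = w := by
    refine e.resolve_right fun e' => T.z_ne ?_
    have hzc := T.z_conj T.cH
    have hzc' := T.z_conj (mul_mem T.cH T.cH)
    have hzw : T.z * (T.c * w * T.c⁻¹) = T.c * w * T.c⁻¹ * T.z :=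
      T.N_comm T.zN (T.W_norm _ T.cH w hw)
    rw [e', ← conj_mul, hzc, ← conj_mul (a := w), hzc'] at hprod
    calc T.z = w * (T.c * w * T.c⁻¹) * (T.c * T.c * w * (T.c * T.c)⁻¹) * (T.z * T.z) * T.z := by
          rw [T.c_product hw, T.zz, one_mul, one_mul]
      _ = w * T.z * (T.c * w * T.c⁻¹ * T.z) * (T.c * T.c * w * (T.c * T.c)⁻¹ * T.z) := by
          have a1 : w * T.z * (T.c * w * T.c⁻¹ * T.z) = w * (T.c * w * T.c⁻¹) := by
            calc w * T.z * (T.c * w * T.c⁻¹ * T.z) = w * (T.z * (T.c * w * T.c⁻¹)) * T.z := by group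
              _ = w * (T.c * w * T.c⁻¹) * (T.z * T.z) := by rw [hzw]; group
              _ = _ := by rw [T.zz, mul_one]
          rw [a1, T.zz, mul_one]; group
      _ = 1 := hprod
  clear_value k
  subst ek
  set a := T.c * k * T.c⁻¹ with ha
  have haW : a ∈ T.W := T.W_norm _ T.cH k hw
  have hka : k * (T.c * a * T.c⁻¹) = a := by
    have h' := T.c_product hw
    rw [ha, show T.c * (T.c * k * T.c⁻¹) * T.c⁻¹ = T.c * T.c * k * (T.c * T.c)⁻¹ by group]
    rw [T.W_comm hw haW, mul_assoc] at h'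
    rw [eq_inv_of_mul_eq_one_right h', T.W_inv haW]
  have hfix : T.c * (x * a) = x * a * T.c := by
    refine mul_inv_eq_iff_eq_mul.1 ?_
    calc T.c * (x * a) * T.c⁻¹ = x * ((x⁻¹ * (T.c * x * T.c⁻¹)) * (T.c * a * T.c⁻¹)) := by group
      _ = x * a := by rw [← hk, hka]
  rw [show x = x * a * a⁻¹ by group]
  rcases T.c_fix _ (mul_mem hx (T.WJ haW)) hfix with f | f <;> rw [f, T.W_inv haW]
  · exact T.inZ_mul T.inZ_one (T.inZ_of_W haW)
  · exact T.inZ_mul T.inZ_z (T.inZ_of_W haW)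

instance W_normal : (T.W.subgroupOf T.N).Normal := ⟨fun x hx g => by
  rw [Subgroup.mem_subgroupOf] at hx ⊢
  exact T.W_norm _ (T.NC g.2) _ hx⟩

theorem mk_eq_mk {x y : ↥T.N} :
    (QuotientGroup.mk x : ↥T.N ⧸ T.W.subgroupOf T.N) = QuotientGroup.mk y ↔ (x : G)⁻¹ * y ∈ T.W := by
  rw [QuotientGroup.eq, Subgroup.mem_subgroupOf]; rfl

/-- The frame on `N` modulo the four-group. -/
noncomputable def frame [Finite G] : U62Red.Frame (↥T.N ⧸ T.W.subgroupOf T.N) where
  z := QuotientGroup.mk ⟨T.z, T.zN⟩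
  J := (T.J.subgroupOf T.N).map (QuotientGroup.mk' _)
  ext :=
    { mem := ⟨⟨T.z, T.zN⟩, T.zJ, rfl⟩
      ne := fun e => T.zW (by rw [QuotientGroup.eq_one_iff] at e; exact e)
      zz := by rw [← QuotientGroup.mk_mul, QuotientGroup.eq_one_iff, Subgroup.mem_subgroupOf]
               simp [T.zz]
      central := by
        rintro _ ⟨x, -, rfl⟩
        show (QuotientGroup.mk x : ↥T.N ⧸ _) * QuotientGroup.mk _ = QuotientGroup.mk _ * QuotientGroup.mk x
        rw [← QuotientGroup.mk_mul, ← QuotientGroup.mk_mul]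
        exact congrArg _ (Subtype.ext (T.comm_z (T.NC x.2)))
      comm := by
        rintro _ ⟨x, hx, rfl⟩ _ ⟨y, hy, rfl⟩
        rw [← map_commutatorElement]
        rcases T.comm (x : G) hx (y : G) hy with e | e
        · left
          rw [← map_one (QuotientGroup.mk' (T.W.subgroupOf T.N)), commutatorElement_eq_one_iff_mul_comm.2]
          exact Subtype.ext e
        · right
          refine congrArg _ (Subtype.ext ?_)
          rw [commutatorElement_def]; push_cast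
          rw [e, show ((y : G) * x * T.z) * (x : G)⁻¹ * (y : G)⁻¹ = (y : G) * x * (T.z * ((y : G) * x)⁻¹) by group,
            ← T.comm_z (T.NC (inv_mem (mul_mem y.2 x.2))), mul_inv_cancel_left]
      sq := by
        rintro _ ⟨x, hx, rfl⟩
        rw [← map_mul]
        rcases T.sq (x : G) hx with e | e
        · left; rw [← map_one (QuotientGroup.mk' (T.W.subgroupOf T.N))]; exact congrArg _ (Subtype.ext e)
        · right; exact congrArg _ (Subtype.ext e)
      cen := by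
        rintro _ ⟨x, hx, rfl⟩ hc
        have hV : T.InZ x := T.cen _ (T.NC x.2) fun y hy => by
          have h := hc _ ⟨⟨y, T.JN hy⟩, hy, rfl⟩
          rw [← map_mul, ← map_mul] at h
          rcases T.comm (x : G) hx y hy with e | e
          · exact e
          · exfalso
            refine T.zW ?_
            have := T.mk_eq_mk.1 h
            push_cast at this
            rw [e] at this
            simpa [mul_assoc] using this
        rcases hV with e | e
        · left; exact (QuotientGroup.eq_one_iff _).2 e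
        · right
          refine T.mk_eq_mk.2 ?_
          show (x : G)⁻¹ * T.z ∈ T.W
          have := inv_mem e
          rwa [mul_inv_rev, T.z_inv, ← T.comm_z (T.NC (inv_mem x.2))] at this
      self := fun c hc => by
        obtain ⟨u, rfl⟩ := QuotientGroup.mk_surjective c
        refine ⟨u, T.trivial_mem_J u.2 fun y hy => ?_, rfl⟩
        have h := hc _ ⟨⟨y, T.JN hy⟩, hy, rfl⟩
        rw [QuotientGroup.mk'_apply, ← QuotientGroup.mk_mul, ← QuotientGroup.mk_mul] at h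
        have h' := inv_mem (T.mk_eq_mk.1 h)
        push_cast at h'
        have h'' := T.W_norm _ (mul_mem (T.NC u.2) (T.JC hy)) _ h'
        refine T.inZ_of_W ?_
        have h''' := inv_mem h''
        convert h''' using 1
        simp only [Subgroup.coe_subtype]
        group
      norm := fun c _ q hq => by
        obtain ⟨u, rfl⟩ := QuotientGroup.mk_surjective c
        obtain ⟨x, hx, rfl⟩ := hq
        exact ⟨u * x * u⁻¹, T.norm _ (T.NC u.2) _ hx, rfl⟩ }
  card_J := by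
    have h := Subgroup.card_eq_card_quotient_mul_card_subgroup
      ((QuotientGroup.mk' (T.W.subgroupOf T.N)).comp (T.J.subgroupOf T.N).subtype).ker
    rw [Nat.card_congr (QuotientGroup.quotientKerEquivRange _).toEquiv, MonoidHom.range_comp,
      Subgroup.range_subtype, Nat.card_congr (Subgroup.subgroupOfEquivOfLe T.JN).toEquiv, T.card_J] at h
    have hk : Nat.card ↥((QuotientGroup.mk' (T.W.subgroupOf T.N)).comp (T.J.subgroupOf T.N).subtype).ker = 4 := by
      rw [← T.card_W]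
      refine Nat.card_congr
        { toFun := fun a => ⟨_, (QuotientGroup.eq_one_iff (N := T.W.subgroupOf T.N) _).1 (MonoidHom.mem_ker.1 a.2)⟩
          invFun := fun w => ⟨⟨⟨w, T.WN w.2⟩, T.WJ w.2⟩, (QuotientGroup.eq_one_iff _).2 w.2⟩
          left_inv := fun _ => rfl
          right_inv := fun _ => rfl }
    rw [hk] at h
    omega
  π := (QuotientGroup.lift _ T.π fun u hu => (T.ker u).2 (T.WJ hu)).comp (Subgroup.subtype _)
  surj q := by
    obtain ⟨u, rfl⟩ := T.surj q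
    refine ⟨⟨QuotientGroup.mk u, Subgroup.mem_centralizer_singleton_iff.2 ?_⟩, rfl⟩
    rw [← QuotientGroup.mk_mul, ← QuotientGroup.mk_mul]
    exact congrArg _ (Subtype.ext (T.comm_z (T.NC u.2)))
  ker u := by
    obtain ⟨q, hq⟩ := u
    obtain ⟨v, rfl⟩ := QuotientGroup.mk_surjective q
    show T.π v = 1 ↔ _
    rw [T.ker]
    refine ⟨fun h => ⟨v, h, rfl⟩, fun ⟨x, hx, e⟩ => ?_⟩
    have h := mul_mem (show (x : G) ∈ T.J from hx) (T.WJ (T.mk_eq_mk.1 e))
    rwa [mul_inv_cancel_left] at h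

/-- Coordinates on `J` modulo its centre, with `c` a scalar. -/
structure Chart (T : Top G) where
  cv : G → ℕ
  lt : ∀ x, cv x < 256
  cv_mul : ∀ x ∈ T.J, ∀ y ∈ T.J, cv (x * y) = cv x ^^^ cv y
  zero_iff : ∀ x ∈ T.J, cv x = 0 ↔ T.InZ x
  surj : ∀ n < 256, ∃ x ∈ T.J, cv x = n
  q : ∀ x ∈ T.J, Kind.q .nat (cv x) = true ↔ x * x = T.z
  conj : ∀ w : List ℕ, ∀ u : ↥T.N, T.π u = el w → ∀ x ∈ T.J,
    cv (u * x * (u : G)⁻¹) = app (Kind.nat.mat w) (cv x)
  scalar : ∃ k, 0 < k ∧ k < 3 ∧ ∀ x ∈ T.J, cv (T.c * x * T.c⁻¹) = omp k (cv x)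

theorem exists_chart [Finite G] : Nonempty T.Chart := by
  classical
  obtain ⟨K, ⟨C⟩⟩ := T.frame.exists_chart
  let mk : ↥T.N → ↥T.N ⧸ T.W.subgroupOf T.N := QuotientGroup.mk
  let cv : G → ℕ := fun x => if h : x ∈ T.N then C.cv (mk ⟨x, h⟩) else 0
  have cvJ : ∀ {x}, (hx : x ∈ T.J) → cv x = C.cv (mk ⟨x, T.JN hx⟩) := fun hx => dif_pos (T.JN hx)
  have hin : ∀ {x}, (hx : x ∈ T.J) → mk ⟨x, T.JN hx⟩ ∈ T.frame.J := fun hx => ⟨_, hx, rfl⟩
  have hlt : ∀ x, cv x < 256 := fun x => by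
    simp only [cv]; split
    · exact C.lt _
    · norm_num
  have hmul : ∀ x ∈ T.J, ∀ y ∈ T.J, cv (x * y) = cv x ^^^ cv y := fun x hx y hy => by
    rw [cvJ (mul_mem hx hy), cvJ hx, cvJ hy, ← C.cv_mul _ (hin hx) _ (hin hy)]; rfl
  have hzero : ∀ x ∈ T.J, cv x = 0 ↔ T.InZ x := fun x hx => by
    rw [cvJ hx, C.zero_iff _ (hin hx)]
    refine or_congr (QuotientGroup.eq_one_iff _) (T.mk_eq_mk.trans ⟨fun h => ?_, fun h => ?_⟩)
    · have := inv_mem h
      rw [mul_inv_rev, inv_inv, T.z_inv, ← T.comm_z (T.JC hx)] at this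
      exact this
    · show x⁻¹ * T.z ∈ T.W
      have := inv_mem h
      rwa [mul_inv_rev, T.z_inv, ← T.comm_z (inv_mem (T.JC hx))] at this
  have hsurj : ∀ n < 256, ∃ x ∈ T.J, cv x = n := fun n hn => by
    obtain ⟨q, ⟨x, hx, rfl⟩, e⟩ := C.surj n hn
    exact ⟨(x : G), hx, by rw [cvJ (x := (x : G)) hx]; exact e⟩
  have hq : ∀ x ∈ T.J, K.q (cv x) = true ↔ x * x = T.z := fun x hx => by
    rw [cvJ hx, C.q _ (hin hx)]
    refine ⟨fun h => (T.sq x hx).resolve_left fun e => T.zW ?_, fun e => ?_⟩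
    · have := T.mk_eq_mk.1 h
      push_cast at this
      rwa [e, inv_one, one_mul] at this
    · exact congrArg mk (Subtype.ext e)
  have hconj : ∀ w : List ℕ, ∀ u : ↥T.N, T.π u = el w → ∀ x ∈ T.J,
      cv (u * x * (u : G)⁻¹) = app (K.mat w) (cv x) := fun w u hu x hx => by
    rw [cvJ hx, cvJ (T.norm _ (T.NC u.2) x hx)]
    refine Eq.trans ?_ (C.conj w ⟨mk u, Subgroup.mem_centralizer_singleton_iff.2
      (congrArg mk (Subtype.ext (T.comm_z (T.NC u.2))))⟩ hu _ (hin hx))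
    rfl
  have cv_eq : ∀ {x y}, x ∈ T.J → y ∈ T.J → cv x = cv y → T.InZ (x⁻¹ * y) := fun {x y} hx hy e => by
    refine (hzero _ (mul_mem (inv_mem hx) hy)).1 ?_
    rw [hmul _ (inv_mem hx) _ hy, ← e, ← hmul _ (inv_mem hx) _ hx, inv_mul_cancel]
    exact (hzero 1 (one_mem _)).2 T.inZ_one
  have cv_congr : ∀ {x y}, x ∈ T.J → y ∈ T.J → T.InZ (x⁻¹ * y) → cv x = cv y := fun {x y} hx hy h => by
    conv_rhs => rw [show y = x * (x⁻¹ * y) by group]
    rw [hmul x hx _ (T.inZ_mem h), (hzero _ (T.inZ_mem h)).2 h, Nat.xor_zero]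
  choose pre hpre hcv using hsurj
  let f : ℕ → ℕ := fun n => if h : n < 256 then cv (T.c * pre n h * T.c⁻¹) else 0
  have hf : ∀ x ∈ T.J, f (cv x) = cv (T.c * x * T.c⁻¹) := fun x hx => by
    simp only [f, dif_pos (hlt x)]
    refine cv_congr (T.norm _ T.cH _ (hpre _ _)) (T.norm _ T.cH _ hx) ?_
    rw [show (T.c * pre (cv x) (hlt x) * T.c⁻¹)⁻¹ * (T.c * x * T.c⁻¹) =
      T.c * ((pre (cv x) (hlt x))⁻¹ * x) * T.c⁻¹ by group]
    exact T.inZ_conj T.cH (cv_eq (hpre _ _) hx (hcv _ _))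
  have hsur : ∀ n < 256, ∃ x ∈ T.J, cv x = n := fun n hn => ⟨_, hpre n hn, hcv n hn⟩
  have hlin : IsLin f := ⟨fun v hv => by simp only [f, dif_pos hv]; exact hlt _, fun u hu v hv => by
    obtain ⟨x, hx, rfl⟩ := hsur u hu
    obtain ⟨y, hy, rfl⟩ := hsur v hv
    rw [← hmul x hx y hy, hf _ (mul_mem hx hy), hf x hx, hf y hy, ← hmul _ (T.norm _ T.cH x hx) _
      (T.norm _ T.cH y hy), conj_mul]⟩
  have hcomm : ∀ w : List ℕ, ∀ v < 256, f (app (K.mat w) v) = app (K.mat w) (f v) := fun w v hv => by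
    obtain ⟨x, hx, rfl⟩ := hsur v hv
    obtain ⟨u, hu⟩ := T.surj (el w)
    rw [← hconj w u hu x hx, hf _ (T.norm _ (T.NC u.2) x hx), hf x hx, ← hconj w u hu _ (T.norm _ T.cH x hx)]
    have hj := T.c_N u u.2
    have hy := T.norm _ (T.NC u.2) _ (T.norm _ T.cH x hx)
    set j := T.c * u * T.c⁻¹ * (u : G)⁻¹ with hjd
    rw [show T.c * ((u : G) * x * (u : G)⁻¹) * T.c⁻¹ =
      j * ((u : G) * (T.c * x * T.c⁻¹) * (u : G)⁻¹) * j⁻¹ by rw [hjd]; group]
    rcases T.comm_eq hj hy with e | e <;> rw [e]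
    rw [hmul _ hy _ T.zJ, (hzero _ T.zJ).2 T.inZ_z, Nat.xor_zero]
  have hfix : ∀ n < 256, f n = n → n = 0 := fun n hn e => by
    obtain ⟨x, hx, rfl⟩ := hsur n hn
    rw [hf x hx] at e
    exact (hzero x hx).2 (T.c_fpf_mod hx (cv_eq hx (T.norm _ T.cH x hx) e.symm))
  have hiter : ∀ n < 256, f (f (f n)) = n := fun n hn => by
    obtain ⟨x, hx, rfl⟩ := hsur n hn
    have h1 := T.norm _ T.cH x hx
    rw [hf x hx, hf _ h1, hf _ (T.norm _ T.cH _ h1),
      show T.c * (T.c * (T.c * x * T.c⁻¹) * T.c⁻¹) * T.c⁻¹ = T.c * T.c * T.c * x * (T.c * T.c * T.c)⁻¹ by group,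
      T.c_three, one_mul, inv_one, mul_one]
  have hK : K = .nat := by
    by_contra hne
    have hK : K ∈ Fi22Two.reds := by rcases K with _ | _ | _ <;> simp_all [Fi22Two.reds]
    have hplane : ∀ m < 256, m % 64 = 0 → f m % 64 = 0 := fun m hm h0 => by
      refine Fi22Two.plane_only _ (hlin.lt m hm) fun g hg => ?_
      obtain ⟨i, hi, rfl⟩ := List.getElem_of_mem hg
      have hgK : K.gens = mr := by rcases K with _ | _ | _ <;> first | rfl | simp [Fi22Two.reds] at hK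
      have e := hcomm [i] m hm
      rw [Fi22Two.plane_mat K hK [i] hm h0, app_mat_cons, app_mat_nil K (hlin.lt m hm), hgK,
        List.getD_eq_getElem _ _ hi] at e
      exact e.symm
    rcases fixFour_only K hK (f 4) (hlin.lt 4 (by norm_num)) fun w hw => by
      rw [← hcomm w 4 (by norm_num), fixFour_fix K hK w hw] with h0 | ⟨-, h4⟩
    · have h4' := hiter 4 (by norm_num)
      have h2 := hplane _ (hlin.lt _ (hlin.lt 4 (by norm_num))) (hplane _ (hlin.lt 4 (by norm_num)) h0)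
      rw [h4'] at h2
      norm_num at h2
    · -- the coset of the plane is permuted by `f`, so one of its points is fixed
      have hp : ∀ p < 256, p % 64 = 0 → f p % 64 = 0 := hplane
      obtain ⟨a, ha⟩ : ∃ a, a = 4 ^^^ f 4 := ⟨_, rfl⟩
      have hal : a < 256 := ha ▸ U62Red.xor_lt (by norm_num) (hlin.lt 4 (by norm_num))
      have hf4 : f 4 = 4 ^^^ a := by rw [ha, Fi22Two.xc]
      have h0 : a % 64 = 0 := ha ▸ h4
      have hfa := hlin.lt a hal
      have hffa := hlin.lt _ hfa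
      have hsum : a ^^^ f a ^^^ f (f a) = 0 := by
        have h1 := hiter 4 (by norm_num)
        rw [hf4, hlin.add 4 (by norm_num) a hal, hf4, hlin.add _ (U62Red.xor_lt (by norm_num) hal) _ hfa,
          hlin.add 4 (by norm_num) a hal, hf4] at h1
        calc a ^^^ f a ^^^ f (f a) = 4 ^^^ (4 ^^^ a ^^^ f a ^^^ f (f a)) := by
              rw [Nat.xor_assoc 4 a, Nat.xor_assoc 4, Fi22Two.xc, Nat.xor_assoc]
          _ = 0 := by rw [h1, Nat.xor_self]
      have := hfix (4 ^^^ f a) (U62Red.xor_lt (by norm_num) hfa) (by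
        rw [hlin.add 4 (by norm_num) _ hfa, hf4, Nat.xor_assoc]
        congr 1
        exact Nat.xor_eq_zero_iff.1 (by rw [← hsum]; ac_rfl))
      have h64 := hp a hal h0
      have h4e : f a = 4 := (Nat.xor_eq_zero_iff.1 this).symm
      rw [h4e] at h64
      norm_num at h64
  subst hK
  have h1 : f 1 ≠ 0 := fun e => by
    have := hiter 1 (by norm_num)
    rw [e, hlin.zero, hlin.zero] at this
    norm_num at this
  obtain ⟨k, hk, hfk⟩ := natural_commutant hlin h1 hcomm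
  refine ⟨⟨cv, hlt, hmul, hzero, hsur, hq, hconj, k, ?_, hk, fun x hx => by rw [← hf x hx, hfk _ (hlt x)]⟩⟩
  refine Nat.pos_of_ne_zero fun e => ?_
  have := hfix 1 (by norm_num) (by rw [hfk 1 (by norm_num), e]; rfl)
  norm_num at this

end Top

end Cfsg.Agent.Fus.Fi23Two
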