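import Cfsg.Agent.Lib.Fus.Fi23Two.Fusion

/-!
Centralisers of shape `(2² × 2¹⁺⁸)(3 × U₄(2))2`: a conjugate of `z` in `J` or of the four-group near `J`.
-/

set_option autoImplicit false
set_option linter.unusedSectionVars false
set_option linter.style.haveILetI false

namespace Cfsg.Agent.Fus.Fi23Two

open Cfsg.Agent.Fus.U62Rec (Q4 CC)
open Cfsg.Agent.Fus.U62Red (el wT el_eq_one_iff)
open Cfsg.Agent.Invol.ExtraEight (idm)

variable {G : Type*} [Group G]

namespace Top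

variable (T : Top G)

/-- An element of `N` over a transvection. -/
def IsT (a : G) : Prop := ∃ h : ↥T.N, ∃ ha : a ∈ T.N, T.π (h * ⟨a, ha⟩ * h⁻¹) = el wT

variable {T}

theorem el_wT_ne : el wT ≠ 1 := by
  rw [Ne, el_eq_one_iff]; decide +kernel

theorem IsT.not_J {a : G} (h : T.IsT a) : a ∉ T.J := fun hJ => by
  obtain ⟨h, ha, e⟩ := h
  rw [map_mul, map_mul, map_inv, (T.ker ⟨a, ha⟩).2 hJ, mul_one, mul_inv_cancel] at e
  exact el_wT_ne e.symm

/-- A point in the four-group. -/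
def ptW {w : G} (hw : w ∈ T.W) (hw1 : w ≠ 1) : Pt T := Pt.ofW hw hw1

/-- A point outside the four-group. -/
def ptZ {w : G} (hw : w ∈ T.W) (hw1 : w ≠ 1) : Pt T :=
  { Pt.ofW (T := T) hw hw1 with v := w * T.z, hv := Or.inr rfl }

theorem ptZ_v {w : G} (hw : w ∈ T.W) (hw1 : w ≠ 1) : (ptZ hw hw1).v = w * T.z := rfl

theorem conj_wz {g w : G} : g * (w * T.z) * g⁻¹ = g * w * g⁻¹ * (g * T.z * g⁻¹) := conj_mul.symm

theorem conj_sq {g a : G} (h : a * a = 1) : g * a * g⁻¹ * (g * a * g⁻¹) = 1 := by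
  rw [conj_mul, h, mul_one, mul_inv_cancel]

theorem cJ_comm {w : G} (hw : w ∈ T.W) {g : G} :
    g * w * g⁻¹ * (g * T.z * g⁻¹) = g * T.z * g⁻¹ * (g * w * g⁻¹) := by
  rw [conj_mul, conj_mul, T.N_comm T.zN hw]

/-- Conjugation by `k` in the centraliser of the component. -/
theorem conj_v {g v k : G} (hk : k ∈ CC v) : g * k * v * (g * k)⁻¹ = g * v * g⁻¹ := by
  have := mul_inv_eq_iff_eq_mul.2 (Subgroup.mem_centralizer_singleton_iff.1 hk)
  calc g * k * v * (g * k)⁻¹ = g * (k * v * k⁻¹) * g⁻¹ := by group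
    _ = _ := by rw [this]

namespace Fusion

variable [Finite G] (C : T.Chart) (hF : T.Fusion)

include hF in
/-- Elements of the four-group stay there. -/
theorem mem_W_of_nm {g g' w : G} (h : T.Nm g') (hw : w ∈ T.W) (e : g' * w * g'⁻¹ = g * w * g⁻¹) :
    g * w * g⁻¹ ∈ T.W := e ▸ h w hw

include C hF in
/-- No conjugate of an involution of the four-group lies in `J` outside the centre. -/
theorem inJ {g w : G} (hw : w ∈ T.W) (hw1 : w ≠ 1) (he : g * w * g⁻¹ ∈ T.J) (hZ : ¬ T.InZ (g * w * g⁻¹)) :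
    False := by
  set e := g * w * g⁻¹ with hed
  let p := ptW (T := T) hw hw1
  obtain ⟨k, hk, hkR⟩ := hF.rep p (g := g) (R := T.J ⊓ CC e)
    (fun r hr => Subgroup.mem_centralizer_singleton_iff.1 hr.2) (T.J_two.to_le inf_le_left)
  set z'' := g * k * T.z * (g * k)⁻¹
  have ee : g * k * w * (g * k)⁻¹ = e := conj_v hk
  have hz'' : z'' ∈ CC T.z := T.mem_CC (hkR T.z
    ⟨T.zJ, Subgroup.mem_centralizer_singleton_iff.2 (T.comm_z (T.JC he)).symm⟩).symm
  have hesq : e * e = 1 := conj_sq (T.W_sq w hw)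
  obtain ⟨hJ, h | h⟩ := C.jlemma he hesq hZ hz'' (sq_N (conj_sq T.zz)) fun y hy hye =>
    hkR y ⟨hy, Subgroup.mem_centralizer_singleton_iff.2 hye⟩
  · have hgk : g * k ∈ CC T.z := T.mem_CC (mul_inv_eq_iff_eq_mul.1 (hF.sep _ h))
    exact hZ (T.inZ_of_W (ee ▸ T.W_norm _ hgk w hw))
  · have h' : T.InZ (g * k * (ptZ hw hw1).v * (g * k)⁻¹) := by
      rw [ptZ_v, conj_wz, ee, show e * z'' = z'' * e by rw [← ee]; exact cJ_comm hw]
      exact h
    exact hZ (T.inZ_of_W (ee ▸ (hF.common hz'' (ptZ hw hw1) h').1 w hw))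

include C hF in
/-- No conjugate of `w z` lies in `J` outside the centre next to its conjugate of `z` outside `J`. -/
theorem inJ' {g w : G} (hw : w ∈ T.W) (hw1 : w ≠ 1) (hs : g * T.z * g⁻¹ ∈ CC T.z) (hsJ : g * T.z * g⁻¹ ∉ T.J)
    (hx : g * (w * T.z) * g⁻¹ ∈ T.J) (hZ : ¬ T.InZ (g * (w * T.z) * g⁻¹)) : False :=
  hsJ (C.jlemma hx (conj_sq (T.inZ_sq (T.inZ_Wz hw))) hZ hs (sq_N (conj_sq T.zz)) fun _ hy hc =>
    hF.trick hw hw1 hs (T.JC hx) hy hc).1

include hF in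
/-- An involution of the conjugate four-group centralised by the centraliser of the conjugate of `z` in `J`. -/
theorem exists_e {g : G} (hs : g * T.z * g⁻¹ ∈ CC T.z) : ∃ w ∈ T.W, w ≠ 1 ∧
    (∀ y ∈ T.J, y * (g * T.z * g⁻¹) = g * T.z * g⁻¹ * y → y * (g * w * g⁻¹) = g * w * g⁻¹ * y) ∧
    g * w * g⁻¹ ∈ CC T.z := by
  obtain ⟨w, hw, hw1, hR⟩ := T.two_fixed
    (R := (T.J ⊓ CC (g * T.z * g⁻¹)).map (MulAut.conj g⁻¹).toMonoidHom) (by
      rintro _ ⟨y, hy, rfl⟩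
      refine T.mem_CC ?_
      show g⁻¹ * y * g⁻¹⁻¹ * T.z = T.z * (g⁻¹ * y * g⁻¹⁻¹)
      rw [inv_inv]
      exact Fi22Two.comm_of_conj (Subgroup.mem_centralizer_singleton_iff.1 hy.2))
    ((T.J_two.to_le inf_le_left).map _)
  have key : ∀ y ∈ T.J, y * (g * T.z * g⁻¹) = g * T.z * g⁻¹ * y → y * (g * w * g⁻¹) = g * w * g⁻¹ * y :=
    fun y hy hc => Fi22Two.conj_back (hR _ ⟨y, ⟨hy, Subgroup.mem_centralizer_singleton_iff.2 hc⟩, by simp⟩)
  exact ⟨w, hw, hw1, key, T.mem_CC (key T.z T.zJ (T.comm_z hs).symm).symm⟩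

include C hF in
/-- A conjugate of `z` in `J`. -/
theorem nm_of_J {g : G} (hs : g * T.z * g⁻¹ ∈ T.J) : T.Nm g := by
  by_cases hsZ : T.InZ (g * T.z * g⁻¹)
  · exact nm_of_CC (T.mem_CC (mul_inv_eq_iff_eq_mul.1 (hF.sep g hsZ)))
  obtain ⟨w, hw, hw1, hc, heH⟩ := hF.exists_e (T.JC hs)
  obtain ⟨-, h | h⟩ := C.jlemma hs (conj_sq T.zz) hsZ heH (sq_N (conj_sq (T.W_sq w hw))) hc
  · exact (hF.common (T.JC hs) (ptW hw hw1) h).1
  · exact (hF.common (T.JC hs) (ptZ hw hw1) (by rw [ptZ_v, conj_wz]; exact h)).1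

/-- `natT` after a conjugation. -/
theorem natT_conj (C : T.Chart) {x s : G} (hx2 : x * x = 1) (hxT : T.IsT x) (hs : s ∈ CC T.z) (hs2 : s * s = 1)
    (hc : ∀ y ∈ T.J, y * x = x * y → y * s = s * y) : s ∈ T.J ∨ s * x ∈ T.J := by
  obtain ⟨h, ha, e⟩ := hxT
  have hh := T.NC h.2
  have hback : ∀ m, (h : G) * m * (h : G)⁻¹ ∈ T.J → m ∈ T.J := fun m hm => by
    simpa [mul_assoc] using T.norm _ (inv_mem hh) _ hm
  rcases C.natT (x := (h : G) * x * (h : G)⁻¹) (s := (h : G) * s * (h : G)⁻¹) (h * ⟨x, ha⟩ * h⁻¹).2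
      (conj_sq hx2) e (mul_mem (mul_mem hh hs) (inv_mem hh)) (sq_N (conj_sq hs2)) (fun y hy hc' => by
        refine Fi22Two.conj_back (hc _ ?_ (Fi22Two.comm_of_conj hc'))
        simpa using T.norm _ (inv_mem hh) y hy) with k | k
  · exact Or.inl (hback _ k)
  · rw [conj_mul] at k; exact Or.inr (hback _ k)

include C hF in
/-- No conjugate of an involution of the four-group lies over a transvection. -/
theorem no_T {g w : G} (hw : w ∈ T.W) (hw1 : w ≠ 1) (heT : T.IsT (g * w * g⁻¹)) : False := by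
  set e := g * w * g⁻¹ with hed
  have heJ := heT.not_J
  obtain ⟨-, heN, -⟩ := id heT
  let p := ptW (T := T) hw hw1
  obtain ⟨k, hk, hkR⟩ := hF.rep p (g := g) (R := T.J ⊓ CC e)
    (fun r hr => Subgroup.mem_centralizer_singleton_iff.1 hr.2) (T.J_two.to_le inf_le_left)
  set z'' := g * k * T.z * (g * k)⁻¹
  have ee : g * k * w * (g * k)⁻¹ = e := conj_v hk
  have hz'' : z'' ∈ CC T.z := T.mem_CC (hkR T.z
    ⟨T.zJ, Subgroup.mem_centralizer_singleton_iff.2 (T.comm_z (T.NC heN)).symm⟩).symm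
  have hesq : e * e = 1 := conj_sq (T.W_sq w hw)
  rcases natT_conj C hesq heT hz'' (conj_sq T.zz) (fun y hy hye =>
    hkR y ⟨hy, Subgroup.mem_centralizer_singleton_iff.2 hye⟩) with h | h
  · exact heJ (T.WJ (ee ▸ hF.nm_of_J C h w hw))
  · have hx : g * k * (w * T.z) * (g * k)⁻¹ = z'' * e := by rw [conj_wz, cJ_comm hw, ee]
    by_cases hZ : T.InZ (z'' * e)
    · exact heJ (T.WJ (ee ▸ (hF.common hz'' (ptZ hw hw1) (by rw [ptZ_v, hx]; exact hZ)).1 w hw))
    · exact hF.inJ' C hw hw1 hz'' (fun hz => heJ (by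
          have := mul_mem (inv_mem hz) h
          rwa [inv_mul_cancel_left] at this))
        (by rw [hx]; exact h) (by rw [hx]; exact hZ)

include C hF in
/-- A conjugate of `z` outside `J` next to one of the four-group in `J` or over a transvection. -/
theorem landing {g w : G} (hw : w ∈ T.W) (hw1 : w ≠ 1) (hs : g * T.z * g⁻¹ ∈ CC T.z) (hsJ : g * T.z * g⁻¹ ∉ T.J)
    (hl : g * w * g⁻¹ ∈ T.J ∨ g * w * g⁻¹ * (g * T.z * g⁻¹) ∈ T.J ∨ T.IsT (g * w * g⁻¹) ∨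
      T.IsT (g * w * g⁻¹ * (g * T.z * g⁻¹))) : T.Nm g := by
  set s := g * T.z * g⁻¹ with hsd
  set e := g * w * g⁻¹ with hed
  have heJ : e ∈ T.J → T.Nm g := fun h => by
    by_cases hZ : T.InZ e
    · exact (hF.common hs (ptW hw hw1) hZ).1
    · exact (hF.inJ C hw hw1 h hZ).elim
  rcases hl with h | h | h | h
  · exact heJ h
  · by_cases hZ : T.InZ (e * s)
    · exact (hF.common hs (ptZ hw hw1) (by rw [ptZ_v, conj_wz]; exact hZ)).1
    · exact (hF.inJ' C hw hw1 hs hsJ (by rw [conj_wz]; exact h) (by rw [conj_wz]; exact hZ)).elim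
  · exact (hF.no_T C hw hw1 h).elim
  · have hc : e * s = s * e := cJ_comm hw
    have hesN : e * s ∈ T.N := h.choose_spec.choose
    have hx : g * (w * T.z) * g⁻¹ = e * s := conj_wz
    have hx2 : e * s * (e * s) = 1 := by rw [← hx]; exact conj_sq (T.inZ_sq (T.inZ_Wz hw))
    rcases natT_conj C hx2 h hs (conj_sq T.zz) (fun y hy hye =>
      hF.trick hw hw1 hs (by rw [hx]; exact T.NC hesN) hy (by rw [hx]; exact hye)) with k | k
    · exact absurd k hsJ
    · rw [hc, ← mul_assoc, hsd, conj_sq T.zz, one_mul] at k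
      exact heJ k

end Fusion

end Top

end Cfsg.Agent.Fus.Fi23Two
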