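import Cfsg.Agent.Lib.Fus.Fi22Two.Act

/-!
Centralisers of shape `(2² × 2¹⁺⁸)(3 × U₄(2))2`: facts on the natural module; the sixteen classes over the second
involution and what fixes the singular fixed vectors of a semilinear involution.
-/

set_option autoImplicit false
set_option linter.unusedSectionVars false

namespace Cfsg.Agent.Fus.Fi23Two

open Cfsg.Agent.Fus.U62Red (Kind wd mn wT wP OM)
open Cfsg.Agent.Invol.ExtraEight (app app_xor app_zero app_lt idm)

/-- Conjugators of the transvections among the sixteen classes. -/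
def tc : List (List ℕ) := [[3, 3], [], [3, 3, 4, 3, 1], [3, 4, 1, 1], [3, 4, 4, 1]]

/-- A word of a transvection or of the identity. -/
def good (r : List ℕ) : Bool := wd mn r == idm || tc.any fun o => wd mn (o ++ r) == wd mn (wT ++ o)

theorem no_P_pair : ∀ a ∈ Fi22Two.rP, ∀ b ∈ Fi22Two.rP,
    ([a, b, a ++ b, a ++ wP, b ++ wP, a ++ b ++ wP].any good) = true := by decide +kernel

theorem fix_wP_small : (U62Red.fixL .nat wP).toFinset.card = 16 := by decide +kernel

/-- What fixes the singular fixed vectors of a semilinear involution fixes more than sixteen vectors. -/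
theorem fix_large (S M : ℕ → ℕ) (hS : ∀ n < 256, S n < 256) (hSx : ∀ a b, S (a ^^^ b) = S a ^^^ S b)
    (hS2 : ∀ n < 256, S (S n) = n) (hSO : ∀ n < 256, S (app OM n) = app OM (app OM (S n)))
    (hq : ∀ n < 256, Kind.q .nat (S n) = Kind.q .nat n)
    (hb : ∀ a < 256, ∀ b < 256, ∀ c < 256, Kind.bq .nat (a ^^^ b) c = (Kind.bq .nat a c ^^ Kind.bq .nat b c))
    (hMx : ∀ a b, M (a ^^^ b) = M a ^^^ M b) (hMO : ∀ n < 256, M (app OM n) = app OM (M n))
    (hM : ∀ m < 256, Kind.q .nat (S m ^^^ m) = false → M (S m ^^^ m) = S m ^^^ m) :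
    16 < ((Finset.range 256).filter fun n => M n = n).card := by
  classical
  have hOM : ∀ n, app OM n < 256 := app_lt U62Red.OM_lt
  have xl : ∀ {a b : ℕ}, a < 256 → b < 256 → a ^^^ b < 256 := fun ha hb => Nat.xor_lt_two_pow (n := 8) ha hb
  set F := (Finset.range 256).filter fun n => S n = n with hFd
  set F0 := F.filter fun n => Kind.q .nat n = false with hF0d
  have hmemF : ∀ {n}, n ∈ F ↔ n < 256 ∧ S n = n := fun {n} => by simp [hFd]
  have hsolve : ∀ {b}, b ∈ F → S (app OM b) ^^^ app OM b = b := fun {b} h => by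
    obtain ⟨hb', e⟩ := hmemF.1 h
    rw [hSO b hb', e, Nat.xor_comm]
    exact (Fi22Two.om_facts b hb').1
  -- the fixed vectors form an isotropic space
  have hiso : ∀ {a b}, a ∈ F → b ∈ F → Kind.bq .nat a b = false := fun {a b} ha hb' => by
    obtain ⟨ha', ea⟩ := hmemF.1 ha
    obtain ⟨hbl, eb⟩ := hmemF.1 hb'
    set m := app OM b
    have e := hsolve hb'
    have hbc : ∀ x y, Kind.bq .nat x y = Kind.bq .nat y x := fun x y => by
      rw [Kind.bq, Kind.bq, Nat.xor_comm x y]
      cases Kind.q .nat (y ^^^ x) <;> cases Kind.q .nat x <;> cases Kind.q .nat y <;> rfl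
    have e1 : Kind.bq .nat a (S m) = Kind.bq .nat a m := by
      conv_lhs => rw [← ea]
      rw [Kind.bq, Kind.bq, ← hSx, hq a ha', hq m (hOM _), hq _ (xl ha' (hOM _))]
    rw [← e, hbc, hb _ (hS _ (hOM _)) _ (hOM _) _ ha', hbc, hbc m, e1, Bool.xor_self]
  have hFF : Finset.range 256 ⊆ (F ×ˢ F).image fun p => p.1 ^^^ app OM p.2 := by
    intro v hv
    rw [Finset.mem_range] at hv
    set b := v ^^^ S v with hbd
    have hbl : b < 256 := xl hv (hS v hv)
    have hbF : b ∈ F := hmemF.2 ⟨hbl, by rw [hbd, hSx, hS2 v hv, Nat.xor_comm]⟩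
    have haF : v ^^^ app OM b ∈ F := hmemF.2 ⟨xl hv (hOM _), by
      rw [hSx, hSO b hbl, (hmemF.1 hbF).2]
      have k := (Fi22Two.om_facts b hbl).1
      have : app OM (app OM b) = app OM b ^^^ b := (Fi22Two.xc _ _).symm.trans (congrArg (app OM b ^^^ ·) k)
      rw [this, hbd]
      calc S v ^^^ (app OM (v ^^^ S v) ^^^ (v ^^^ S v)) = S v ^^^ S v ^^^ (v ^^^ app OM (v ^^^ S v)) := by ac_rfl
        _ = _ := by rw [Nat.xor_self, Nat.zero_xor]⟩
    exact Finset.mem_image.2 ⟨(_, b), Finset.mem_product.2 ⟨haF, hbF⟩, by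
      simp only; rw [Nat.xor_assoc, Nat.xor_self, Nat.xor_zero]⟩
  have c1 : 256 ≤ F.card * F.card := by
    calc 256 = (Finset.range 256).card := (Finset.card_range _).symm
      _ ≤ _ := (Finset.card_le_card hFF).trans (Finset.card_image_le.trans (by rw [Finset.card_product]))
  have hq0 : Kind.q .nat 0 = false := rfl
  have c2 : F.card ≤ 2 * F0.card := by
    rw [← Finset.card_filter_add_card_filter_not (s := F) (fun n => Kind.q .nat n = false), ← hF0d, two_mul]
    refine Nat.add_le_add_left ?_ _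
    rcases (F.filter fun n => ¬ Kind.q .nat n = false).eq_empty_or_nonempty with e | ⟨a, ha⟩
    · rw [e]; simp
    refine Finset.card_le_card_of_injOn (fun n => n ^^^ a) (fun n hn => ?_) fun x _ y _ e =>
      Nat.xor_left_injective e
    simp only [Finset.coe_filter, Set.mem_setOf_eq, Finset.mem_filter] at hn ha
    obtain ⟨hnF, hnq⟩ := hn
    obtain ⟨haF, haq⟩ := ha
    have h := hiso hnF haF
    obtain ⟨hn', en⟩ := hmemF.1 hnF
    obtain ⟨ha', ea⟩ := hmemF.1 haF
    refine Finset.mem_filter.2 ⟨hmemF.2 ⟨xl hn' ha', by rw [hSx, en, ea]⟩, ?_⟩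
    rw [Bool.not_eq_false] at hnq haq
    rw [Kind.bq, hnq, haq] at h
    simpa using h
  have hfix : ∀ {b}, b ∈ F0 → M b = b := fun {b} h => by
    obtain ⟨hbF, hbq⟩ := Finset.mem_filter.1 h
    have e := hsolve hbF
    rw [← e]
    exact hM _ (hOM _) (by rw [e]; exact hbq)
  have c3 : F0.card * F0.card ≤ ((Finset.range 256).filter fun n => M n = n).card := by
    rw [← Finset.card_product]
    refine Finset.card_le_card_of_injOn (fun p => p.1 ^^^ app OM p.2) (fun p hp => ?_) fun p hp r hr e => ?_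
    · obtain ⟨h1, h2⟩ := Finset.mem_product.1 hp
      refine Finset.mem_filter.2 ⟨Finset.mem_range.2 (xl (hmemF.1 (Finset.mem_filter.1 h1).1).1 (hOM _)), ?_⟩
      rw [hMx, hMO _ (hmemF.1 (Finset.mem_filter.1 h2).1).1, hfix h1, hfix h2]
    · obtain ⟨h1, h2⟩ := Finset.mem_product.1 hp
      obtain ⟨k1, k2⟩ := Finset.mem_product.1 hr
      have back : ∀ a b, a ∈ F → b ∈ F → S (a ^^^ app OM b) ^^^ (a ^^^ app OM b) = b := fun a b ha hb' => by
        have e := hsolve hb'
        rw [hSx, (hmemF.1 ha).2]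
        calc a ^^^ S (app OM b) ^^^ (a ^^^ app OM b) = a ^^^ a ^^^ (S (app OM b) ^^^ app OM b) := by ac_rfl
          _ = b := by rw [Nat.xor_self, Nat.zero_xor, e]
      have e2 : p.2 = r.2 := by
        simp only at e
        rw [← back _ _ (Finset.mem_filter.1 h1).1 (Finset.mem_filter.1 h2).1, e,
          back _ _ (Finset.mem_filter.1 k1).1 (Finset.mem_filter.1 k2).1]
      refine Prod.ext ?_ e2
      simp only [e2] at e
      exact Nat.xor_left_injective e
  nlinarith

end Cfsg.Agent.Fus.Fi23Two
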