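import Cfsg.Agent.Lib.Fus.Fi23Two.Cases
import Cfsg.Agent.S1714

/-!
Centralisers of shape `(2² × 2¹⁺⁸)(3 × U₄(2))2`: the quotient `Fi₂₂` gives `Fi₂₃`; the centre of a middle quotient
lies in the four-group.
-/

set_option autoImplicit false
set_option linter.unusedSectionVars false
set_option linter.style.haveILetI false

namespace Cfsg.Agent.Fus.Fi23Two

open Cfsg
open Cfsg.Agent.Fus.U62Rec (Q4 CC)
open scoped commutatorElement

variable {G : Type*} [Group G] [Finite G] {S : Type*} [Group S]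

namespace Pt

variable {T : Top G} (p : Pt T) (C : T.Chart)

include C in
theorem exists_noncomm : ∃ x ∈ T.J, ∃ y ∈ T.J, ⁅x, y⁆ = T.z := by
  obtain ⟨x, hx, hx1⟩ := C.surj 1 (by norm_num)
  by_contra hcon
  have := (C.zero_iff x hx).2 (T.cen x (T.JC hx) fun y hy => by
    refine (T.comm x hx y hy).resolve_right fun k => hcon ⟨x, hx, y, hy, ?_⟩
    rw [commutatorElement_def, k, show y * x * T.z * x⁻¹ * y⁻¹ = y * x * (T.z * (y * x)⁻¹) by group,
      ← T.comm_z (T.JC (inv_mem (mul_mem hy hx))), mul_inv_cancel_left])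
  rw [hx1] at this
  exact absurd this one_ne_zero

include C in
/-- A quotient `Fi₂₂` gives `Fi₂₃`. -/
theorem fi23_of_high (h : Spor.IsoFi22 p.X) : Spor.IsoFi23 G := by
  classical
  obtain ⟨f⟩ := (h : Nonempty _)
  haveI hFs := Spor.Cos.Fi22.isSimple
  haveI : Nontrivial p.X := f.toEquiv.nontrivial
  haveI hXs : IsSimpleGroup p.X := IsSimpleGroup.isSimpleGroup_of_surjective f.symm.toMonoidHom f.symm.surjective
  -- some commutator of the quotient is not trivial
  obtain ⟨x, hx, y, hy, hxy⟩ := exists_noncomm C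
  have hzb : p.zb ≠ 1 := (p.base C).z_ne
  have hD : p.v ∈ (commutator ↥(CC p.v)).map (CC p.v).subtype := by
    have hz : T.z ∈ (commutator ↥(CC p.v)).map (CC p.v).subtype := by
      refine ⟨⁅(⟨x, p.J_v hx⟩ : ↥(CC p.v)), ⟨y, p.J_v hy⟩⁆,
        Subgroup.commutator_mem_commutator (Subgroup.mem_top _) (Subgroup.mem_top _), ?_⟩
      rw [← hxy]; rfl
    have hw : p.w ∈ (commutator ↥(CC p.v)).map (CC p.v).subtype := by
      obtain ⟨t, htv, -, htd⟩ := p.exists_t
      refine ⟨⁅(⟨t, htv⟩ : ↥(CC p.v)), ⟨p.d, p.J_v (T.WJ p.hd)⟩⁆,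
        Subgroup.commutator_mem_commutator (Subgroup.mem_top _) (Subgroup.mem_top _), ?_⟩
      show t * p.d * t⁻¹ * p.d⁻¹ = p.w
      rw [htd, mul_inv_cancel_right]
    rcases p.hv with e | e
    · exact (congrArg (· ∈ (commutator ↥(CC p.v)).map (CC p.v).subtype) e).mpr hw
    · exact (congrArg (· ∈ (commutator ↥(CC p.v)).map (CC p.v).subtype) e).mpr (mul_mem hw hz)
  have hK : p.K ≤ commutator ↥(CC p.v) := by
    obtain ⟨u, hu, e⟩ := hD
    refine Subgroup.zpowers_le.2 ?_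
    rwa [show (⟨p.v, p.J_v p.v_J⟩ : ↥(CC p.v)) = u from Subtype.ext e.symm]
  have hXc : commutator p.X = ⊤ := by
    refine (IsSimpleGroup.eq_bot_or_eq_top_of_normal _ inferInstance).resolve_left fun h0 => hzb ?_
    have hk : ⁅p.bar x (p.J_v hx), p.bar y (p.J_v hy)⁆ ∈ commutator p.X :=
      Subgroup.commutator_mem_commutator (Subgroup.mem_top _) (Subgroup.mem_top _)
    rw [h0, Subgroup.mem_bot] at hk
    rw [← hk, zb, commutatorElement_def, p.mk_inv, p.mk_inv, p.mk_mul, p.mk_mul, p.mk_mul, p.mk_eq]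
    left
    rw [← hxy, commutatorElement_def]
  have hperf : commutator ↥(CC p.v) = ⊤ := by
    have h1 : (commutator ↥(CC p.v)).map (QuotientGroup.mk' p.K) = ⊤ := by
      rw [commutator_def, Subgroup.map_commutator, Subgroup.map_top_of_surjective _ (QuotientGroup.mk'_surjective _),
        ← commutator_def, hXc]
    have h2 := congrArg (Subgroup.comap (QuotientGroup.mk' p.K)) h1
    rwa [Subgroup.comap_map_eq, QuotientGroup.ker_mk', sup_eq_left.2 hK, Subgroup.comap_top] at h2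
  have hcen : Subgroup.center ↥(CC p.v) = p.K := by
    refine le_antisymm (fun u hu => ?_) (Subgroup.zpowers_le.2 (Subgroup.mem_center_iff.2 fun g =>
      Subtype.ext (p.comm_v g.2)))
    haveI : ((Subgroup.center ↥(CC p.v)).map (QuotientGroup.mk' p.K)).Normal :=
      Subgroup.Normal.map inferInstance _ (QuotientGroup.mk'_surjective _)
    rcases (inferInstance : ((Subgroup.center ↥(CC p.v)).map (QuotientGroup.mk' p.K)).Normal).eq_bot_or_eq_top
      with h | h
    · have hm : (QuotientGroup.mk' p.K) u ∈ (Subgroup.center ↥(CC p.v)).map (QuotientGroup.mk' p.K) := ⟨u, hu, rfl⟩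
      rw [h, Subgroup.mem_bot] at hm
      exact (QuotientGroup.eq_one_iff u).1 hm
    · exfalso
      refine hzb ?_
      have hxm : (QuotientGroup.mk' p.K) ⟨x, p.J_v hx⟩ ∈ (Subgroup.center ↥(CC p.v)).map (QuotientGroup.mk' p.K) :=
        h ▸ Subgroup.mem_top _
      obtain ⟨a, ha, ea⟩ := hxm
      have hc : ⁅p.bar x (p.J_v hx), p.bar y (p.J_v hy)⁆ = 1 := by
        refine commutatorElement_eq_one_iff_mul_comm.2 ?_
        show QuotientGroup.mk' p.K ⟨x, p.J_v hx⟩ * QuotientGroup.mk' p.K ⟨y, p.J_v hy⟩ = _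
        rw [← ea, ← map_mul, ← Subgroup.mem_center_iff.1 ha ⟨y, p.J_v hy⟩, map_mul, ea]
        rfl
      rw [← hc, zb, commutatorElement_def, p.mk_inv, p.mk_inv, p.mk_mul, p.mk_mul, p.mk_mul, p.mk_eq]
      left
      rw [← hxy, commutatorElement_def]
  have hq : IsQuasisimple ↥(CC p.v) := by
    haveI : Nontrivial (↥(CC p.v) ⧸ Subgroup.center ↥(CC p.v)) :=
      (QuotientGroup.quotientMulEquivOfEq hcen).toEquiv.nontrivial
    exact ⟨Group.isPerfect_def.mpr hperf, IsSimpleGroup.isSimpleGroup_of_surjective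
      (QuotientGroup.quotientMulEquivOfEq hcen).symm.toMonoidHom
      (QuotientGroup.quotientMulEquivOfEq hcen).symm.surjective⟩
  have hKeq : (Subgroup.zpowers p.v).subgroupOf (CC p.v) = p.K := by
    ext u
    rw [Subgroup.mem_subgroupOf, p.mem_K]
    refine ⟨fun hu => mem_zpowers_two p.vv hu, ?_⟩
    rintro (e | e) <;> rw [e]
    exacts [one_mem _, Subgroup.mem_zpowers _]
  haveI : ((Subgroup.zpowers p.v).subgroupOf (CC p.v)).Normal := hKeq ▸ p.K_normal
  refine S1714.result p.v (orderOf_eq_prime (by rw [pow_two]; exact p.vv) p.v_ne) hq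
    ⟨(QuotientGroup.quotientMulEquivOfEq hKeq).trans f⟩ ⟨T.c, ?_, fun e => ?_⟩
  · refine Subgroup.mem_centralizer_singleton_iff.2 ?_
    exact (T.inZ_comm (T.JN (T.inZ_mem (T.inZ_conj T.cH p.v_inZ))) p.v_inZ)
  · exact p.w1 (T.c_fpf p.w p.hw ((p.comm_iff T.cH).1 (mul_inv_eq_iff_eq_mul.1 e)))

include C in
/-- In the middle case of an involution of the four-group the central involution comes from the four-group. -/
theorem mid_centre {A : Type*} [Group A] (Q : Quo T A) (hA : ¬ 11 ∣ Nat.card A) (hS : Big S) (hv : p.v = p.w)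
    (q : Pt T) (hqv : q.v = p.d * T.z) (hq : CC q.zb ⊔ oddCore q.X = ⊤) (hm : p.Mid S) :
    ∃ G₀ : Subgroup p.X, G₀.index = 2 ∧ p.db ∈ G₀ ∧ (∀ x : p.X, x * p.db = p.db * x) ∧
      ∃ f : ↥G₀ →* S, Function.Surjective f ∧ ∀ x : ↥G₀, f x = 1 ↔ (x : p.X) = 1 ∨ (x : p.X) = p.db := by
  classical
  obtain ⟨z₁, hz₁, hz₁2, hc, G₀, hidx, hmem, f, hf, hker⟩ := hm
  rcases hz₁ with e | e
  · subst e; exact ⟨G₀, hidx, hmem, hc, f, hf, hker⟩
  exfalso
  haveI := hS.simple
  haveI := hS.finite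
  haveI : Fact (Nat.Prime 11) := ⟨by norm_num⟩
  have hav : p.d * T.z ∈ CC p.v := p.J_v (mul_mem (T.WJ p.hd) T.zJ)
  have he : p.bar (p.d * T.z) hav = z₁ := e.symm
  have hle := p.le_img hS hav (fun x => he ▸ hc x) f hf fun x hx => he ▸ (hker x).1 hx
  have hvA : p.v ∈ CC (p.d * T.z) := Subgroup.mem_centralizer_singleton_iff.2 (p.comm_v hav).symm
  obtain ⟨s₀, hs₀⟩ := exists_prime_orderOf_dvd_card' 11 hS.eleven
  obtain ⟨u, hu⟩ := hf s₀
  -- the preimage of the odd core of the other quotient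
  haveI hOn : (oddCore q.X).Normal := Grp.pPrimeCore_isNormal
  let ι : ↥(CC (p.d * T.z) ⊓ CC p.v) →* q.X :=
    (QuotientGroup.mk' q.K).comp (Subgroup.inclusion (hqv ▸ inf_le_left))
  let Y : Subgroup ↥(CC (p.d * T.z) ⊓ CC p.v) := (oddCore q.X).comap ι
  let j : ↥(CC (p.d * T.z) ⊓ CC p.v) →* p.X := (QuotientGroup.mk' p.K).comp (Subgroup.inclusion inf_le_right)
  have h11 : ∀ x : ↥(CC (p.d * T.z) ⊓ CC p.v), ι x ^ 11 = 1 → x ∈ Y := by
    intro x hx
    have hHq : ¬ 11 ∣ Nat.card ↥(CC q.zb) := fun hd => by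
      obtain ⟨⟨h, hh⟩, ho⟩ := exists_prime_orderOf_dvd_card' 11 hd
      rw [Subgroup.orderOf_mk] at ho
      have hh11 : h ^ 11 = 1 := by rw [← ho, pow_orderOf_eq_one]
      have hr := (q.mem_CC_zb C (q.rep_mem h)).1 (by rw [q.bar_rep]; exact hh)
      have h1 : q.bar (q.rep h ^ 11) (pow_mem (q.rep_mem h) 11) = 1 := by
        conv_rhs => rw [← hh11, ← q.bar_rep h]
        rfl
      have h2 : (q.rep h ^ 12) ^ 11 = 1 := by
        rw [← pow_mul, mul_comm, pow_mul]
        rcases (q.mk_eq_one _).1 h1 with k | k <;> rw [k]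
        · exact one_pow _
        · rw [show (12 : ℕ) = 2 * 6 from rfl, pow_mul, pow_two, q.vv, one_pow]
      have h3 : q.rep h ^ 12 = 1 := eleven_H Q hA (pow_mem hr 12) h2
      have h4 : h = 1 := by
        calc h = h ^ 12 := by rw [pow_succ, hh11, one_mul]
          _ = q.bar (q.rep h ^ 12) (pow_mem (q.rep_mem h) 12) := by
            conv_lhs => rw [← q.bar_rep h]
            rfl
          _ = 1 := by rw [q.mk_eq_one]; exact Or.inl h3
      rw [h4, orderOf_one] at ho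
      norm_num at ho
    let r : ↥(CC q.zb) →* q.X ⧸ oddCore q.X := (QuotientGroup.mk' (oddCore q.X)).comp (CC q.zb).subtype
    have hr : Function.Surjective r := by
      intro w
      obtain ⟨w', rfl⟩ := QuotientGroup.mk_surjective w
      obtain ⟨h, hh, k, hk, e⟩ := Subgroup.mem_sup_of_normal_right.1
        (hq ▸ Subgroup.mem_top w' : w' ∈ CC q.zb ⊔ oddCore q.X)
      refine ⟨⟨h, hh⟩, QuotientGroup.eq.2 ?_⟩
      rwa [← e, Subgroup.coe_subtype, inv_mul_cancel_left]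
    have hno : ¬ 11 ∣ Nat.card (q.X ⧸ oddCore q.X) := fun hd => hHq (hd.trans (Subgroup.card_dvd_of_surjective r hr))
    show ι x ∈ oddCore q.X
    rw [← QuotientGroup.eq_one_iff]
    have hp : (QuotientGroup.mk (ι x) : q.X ⧸ oddCore q.X) ^ 11 = 1 := by
      rw [← QuotientGroup.mk_pow, hx]; rfl
    rcases (Nat.dvd_prime (by norm_num : Nat.Prime 11)).1 (orderOf_dvd_of_pow_eq_one hp) with k | k
    · exact orderOf_eq_one_iff.1 k
    · exact absurd (k ▸ orderOf_dvd_natCard _) hno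
  -- its trace on the middle quotient is a normal subgroup of order twice an odd number at most
  let Y0 : Subgroup ↥(G₀.comap j) := Y.subgroupOf (G₀.comap j)
  let gg : ↥(G₀.comap j) →* S := f.comp ((j.comp (G₀.comap j).subtype).codRestrict G₀ fun x => x.2)
  have hlift : ∀ w : ↥G₀, ∃ x : ↥(G₀.comap j), gg x = f w ∧ j x = (w : p.X) := by
    rintro ⟨w, hw⟩
    obtain ⟨x, hx, rfl, hxA⟩ := p.exists_rep_img (hle hw)
    exact ⟨⟨⟨x, hxA, hx⟩, hw⟩, rfl, rfl⟩
  have hggs : Function.Surjective gg := fun s => by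
    obtain ⟨w, rfl⟩ := hf s
    obtain ⟨x, hx, -⟩ := hlift w
    exact ⟨x, hx⟩
  haveI hYn : (Y0.map gg).Normal := (Subgroup.normal_subgroupOf).map _ hggs
  have hu12 : f (u ^ 12) = s₀ := by
    rw [map_pow, hu, pow_succ, ← hs₀, pow_orderOf_eq_one, one_mul]
  have hu11 : (u ^ 12) ^ 11 = 1 := by
    have h1 : f (u ^ 11) = 1 := by rw [map_pow, hu, ← hs₀, pow_orderOf_eq_one]
    rw [← pow_mul, mul_comm, pow_mul]
    rcases (hker _).1 h1 with k | k
    · rw [show u ^ 11 = 1 from Subtype.ext k, one_pow]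
    · rw [show (12 : ℕ) = 2 * 6 from rfl, pow_mul, pow_two,
        show u ^ 11 * u ^ 11 = 1 from Subtype.ext (by push_cast at k ⊢; rw [k, hz₁2]), one_pow]
  obtain ⟨x, hxg, hxj⟩ := hlift (u ^ 12)
  have hx11 : ((x ^ 12 : ↥(G₀.comap j)) : ↥(CC (p.d * T.z) ⊓ CC p.v)) ^ 11 = 1 := by
    have h1 : j ((x : ↥(CC (p.d * T.z) ⊓ CC p.v)) ^ 11) = 1 := by
      rw [map_pow, hxj, ← Subgroup.coe_pow, hu11]; rfl
    push_cast
    rw [← pow_mul, mul_comm, pow_mul]
    rcases (p.mk_eq_one _).1 h1 with k | k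
    · rw [show (x : ↥(CC (p.d * T.z) ⊓ CC p.v)) ^ 11 = 1 from Subtype.ext k, one_pow]
    · rw [show (12 : ℕ) = 2 * 6 from rfl, pow_mul, pow_two,
        show (x : ↥(CC (p.d * T.z) ⊓ CC p.v)) ^ 11 * (x : ↥(CC (p.d * T.z) ⊓ CC p.v)) ^ 11 = 1 from
          Subtype.ext (by show _ * _ = (1 : G); rw [k, p.vv]), one_pow]
  have hmemY : s₀ ∈ Y0.map gg := by
    refine ⟨x ^ 12, h11 _ ((map_pow ι _ 11).symm.trans ((congrArg ι hx11).trans (map_one ι))), ?_⟩
    rw [map_pow, hxg, ← map_pow, pow_succ, show (u ^ 12) ^ 11 = 1 from hu11, one_mul, hu12]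
  rcases hYn.eq_bot_or_eq_top with h | h
  · rw [h, Subgroup.mem_bot] at hmemY
    rw [hmemY, orderOf_one] at hs₀
    norm_num at hs₀
  have h1 : Nat.card S ∣ Nat.card ↥Y := by
    rw [← Subgroup.card_top, ← h]
    exact (Subgroup.card_map_dvd _ _).trans
      (Subgroup.card_comap_dvd_of_injective Y _ (Subgroup.subtype_injective _))
  have h2 : Nat.card ↥Y ∣ 2 * Nat.card ↥(oddCore q.X) := by
    rw [← (ι.comp Y.subtype).ker.card_mul_index, Subgroup.index_ker]
    refine Nat.mul_dvd_mul ?_ (Subgroup.card_dvd_of_le (by rintro _ ⟨a, rfl⟩; exact a.2))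
    have hc : (⟨q.v, q.J_v q.v_J⟩ : ↥(CC q.v)) ∈ q.K := Subgroup.mem_zpowers _
    refine (Subgroup.card_dvd_of_injective ((Subgroup.inclusion (hqv ▸ inf_le_left : CC (p.d * T.z) ⊓ CC p.v ≤ CC q.v)).comp
      (Y.subtype.comp (ι.comp Y.subtype).ker.subtype) |>.codRestrict q.K fun a => (QuotientGroup.eq_one_iff _).1 a.2)
      fun a b e => ?_).trans (dvd_of_eq ?_)
    · have e' := congrArg (fun t : ↥q.K => ((t : ↥(CC q.v)) : G)) e
      exact Subtype.ext (Subtype.ext (Subtype.ext e'))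
    · rw [K, Nat.card_zpowers, ← Subgroup.orderOf_coe]
      exact orderOf_eq_prime (by rw [pow_two]; exact q.vv) q.v_ne
  have h4 : 4 ∣ 2 * Nat.card ↥(oddCore q.X) := hS.four.trans (h1.trans h2)
  obtain ⟨i, hi⟩ := oddCore_odd (M := q.X)
  rw [hi] at h4
  omega

end Pt

end Cfsg.Agent.Fus.Fi23Two
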