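import Cfsg.Agent.Lib.Fus.Fi23Two.Middle
import Cfsg.Agent.Lib.Fus.U62Red.Main

/-!
Centralisers of shape `(2² × 2¹⁺⁸)(3 × U₄(2))2`: the three conclusions, from the trichotomy at each central
involution of the quotient.
-/

set_option autoImplicit false
set_option linter.unusedSectionVars false
set_option linter.style.haveILetI false

namespace Cfsg.Agent.Fus.Fi23Two

open Cfsg
open Cfsg.Agent.Fus.U62Rec (Q4 CC)

variable {G : Type*} [Group G] [Finite G] {T : Top G}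

theorem Pt.nm_of_central (p : Pt T) (hv : p.v = p.w) (hc : ∀ x : p.X, x * p.db = p.db * x) {g : G}
    (hg : g ∈ CC p.v) : T.Nm g := by
  have hd : g * p.d * g⁻¹ ∈ T.W := by
    rcases (p.comm_iff_mk hg (p.J_v (T.WJ p.hd))).1 (hc _) with e | e <;> rw [e]
    exacts [p.hd, hv ▸ mul_mem p.hd p.hw]
  have hw : g * p.w * g⁻¹ = p.w := mul_inv_eq_iff_eq_mul.2 (hv ▸ p.comm_v hg)
  intro x hx
  rcases T.W_third p.hw p.w1 p.hd p.d1 p.dw hx with rfl | rfl | rfl | rfl
  · simp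
  · rw [hw]; exact p.hw
  · exact hd
  · rw [← conj_mul, hw]; exact mul_mem p.hw hd

theorem Top.Iso.of_conj {w k : G} (hk : k ∈ CC T.z) (h : T.Iso (k * w * k⁻¹)) : T.Iso w := by
  intro g hg hgz
  have e : k * g * k⁻¹ * T.z * (k * g * k⁻¹)⁻¹ = k * (g * T.z * g⁻¹) * k⁻¹ := by
    calc k * g * k⁻¹ * T.z * (k * g * k⁻¹)⁻¹ = k * g * (k⁻¹ * (T.z * k)) * g⁻¹ * k⁻¹ := by group
      _ = k * g * (k⁻¹ * (k * T.z)) * g⁻¹ * k⁻¹ := by rw [T.comm_z hk]
      _ = _ := by group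
  have h1 := h (k * g * k⁻¹) (Subgroup.mem_centralizer_singleton_iff.2 (by
    rw [conj_mul, conj_mul, Subgroup.mem_centralizer_singleton_iff.1 hg])) (by
    rw [e]; exact mul_mem (mul_mem hk hgz) (inv_mem hk))
  rw [e] at h1
  calc g * T.z * g⁻¹ = k⁻¹ * (k * (g * T.z * g⁻¹) * k⁻¹) * k := by group
    _ = k⁻¹ * (T.z * k) := by rw [h1, mul_assoc]
    _ = T.z := by rw [← T.comm_z hk, inv_mul_cancel_left]

/-- The three conclusions. -/
theorem main (C : T.Chart) {A : Type*} [Group A] (Q : Quo T A) (hA : ¬ 11 ∣ Nat.card A) {S : Type*} [Group S]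
    (hS : Big S) (haut : Nat.card (MulAut S) = 6 * Nat.card S)
    (tri : ∀ p : Pt T, CC p.zb ⊔ oddCore p.X = ⊤ ∨ p.Mid S ∨ Spor.IsoFi22 p.X) :
    CC T.z ⊔ oddCore G = ⊤ ∨ Spor.IsoFi23 G ∨
      ∃ (_ : T.W.Normal), Nonempty ((G ⧸ T.W) ≃* MulAut S) := by
  classical
  by_cases hhigh : ∃ p : Pt T, Spor.IsoFi22 p.X
  · obtain ⟨p, hp⟩ := hhigh
    exact Or.inr (Or.inl (p.fi23_of_high C hp))
  have tri' : ∀ p : Pt T, CC p.zb ⊔ oddCore p.X = ⊤ ∨ p.Mid S := fun p =>
    (tri p).imp_right fun h => h.resolve_right fun k => hhigh ⟨p, k⟩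
  have hlowZ : ∀ {w : G} (hw : w ∈ T.W) (hw1 : w ≠ 1),
      CC (Top.ptZ (T := T) hw hw1).zb ⊔ oddCore (Top.ptZ (T := T) hw hw1).X = ⊤ := fun hw hw1 =>
    (tri' _).resolve_right ((Top.ptZ hw hw1).no_mid_z C rfl)
  have hmid : ∀ {w : G} (hw : w ∈ T.W) (hw1 : w ≠ 1), (Top.ptW (T := T) hw hw1).Mid S →
      ∃ G₀ : Subgroup (Top.ptW (T := T) hw hw1).X, G₀.index = 2 ∧ (Top.ptW hw hw1).db ∈ G₀ ∧
        (∀ x, x * (Top.ptW hw hw1).db = (Top.ptW hw hw1).db * x) ∧
        ∃ f : ↥G₀ →* S, Function.Surjective f ∧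
          ∀ x : ↥G₀, f x = 1 ↔ (x : (Top.ptW hw hw1).X) = 1 ∨ (x : (Top.ptW hw hw1).X) = (Top.ptW hw hw1).db :=
    fun hw hw1 hm => Pt.mid_centre _ C Q hA hS rfl
      (Top.ptZ (Top.ptW hw hw1).hd (Top.ptW hw hw1).d1) rfl (hlowZ _ _) hm
  have hF : T.Fusion :=
    { sep := fun g hg => by
        obtain ⟨w, hw, e⟩ := T.inZ_cases hg
        by_cases hw1 : w = 1
        · subst hw1
          rcases e with e | e
          · exact absurd (conj_eq_one_iff.1 e) T.z_ne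
          · rwa [one_mul] at e
        · let p : Pt T := { Pt.ofW (T := T) hw hw1 with v := g * T.z * g⁻¹, hv := e }
          exact absurd rfl (p.not_conj C Q hA hS (tri p) g)
      isoZ := fun w hw hw1 => (Top.ptZ hw hw1).iso_of_low C (hlowZ hw hw1)
      low := fun w hw hw1 => (tri' (Top.ptW hw hw1)).imp (fun h => (Top.ptW hw hw1).iso_of_low C h) fun hm g hg => by
        obtain ⟨G₀, -, -, hc, -⟩ := hmid hw hw1 hm
        exact (Top.ptW hw hw1).nm_of_central rfl hc hg }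
  by_cases hall : ∀ w ∈ T.W, w ≠ 1 → T.Iso w
  · refine Or.inl (U62Red.sup_oddCore_of_isolated
      ⟨orderOf_eq_prime (by rw [pow_two, T.zz]) T.z_ne, fun g hg => ?_⟩)
    have hs : g * T.z * g⁻¹ ∈ CC T.z := T.mem_CC hg.symm.eq
    have hnm := hF.nm_of_mem C hs
    obtain ⟨w, hw, hw1⟩ := T.exists_W
    exact (hF.common hs (Top.ptW hw hw1) (Or.inl (hnm w hw))).2
      (hall _ (hnm w hw) fun e => hw1 (conj_eq_one_iff.1 e))
  refine Or.inr (Or.inr ?_)
  simp only [not_forall] at hall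
  obtain ⟨w₀, hw₀, hw₀1, hno₀⟩ := hall
  have hallmid : ∀ {w : G} (hw : w ∈ T.W) (hw1 : w ≠ 1), (Top.ptW (T := T) hw hw1).Mid S := fun {w} hw hw1 =>
    (tri' _).resolve_left fun h => hno₀ (by
      have hI : T.Iso w := (Top.ptW hw hw1).iso_of_low C h
      rcases T.W_cases hw₀ hw₀1 hw with e | e | e | e <;> rw [e] at hI
      · exact absurd e hw1
      · exact hI
      · exact hI.of_conj T.cH
      · exact hI.of_conj (mul_mem T.cH T.cH))
  have hM : ∀ w ∈ T.W, w ≠ 1 → MidW T w := fun w hw hw1 =>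
    { nm := fun g hg => by
        obtain ⟨G₀, -, -, hc, -⟩ := hmid hw hw1 (hallmid hw hw1)
        exact (Top.ptW hw hw1).nm_of_central rfl hc hg
      no_odd := fun M hM hn hodd => Pt.Mid.no_odd (Top.ptW hw hw1) hS (hallmid hw hw1) hM hn hodd }
  obtain ⟨w, hw, hw1⟩ := T.exists_W
  set p := Top.ptW (T := T) hw hw1
  obtain ⟨G₀, hidx, hdG, hc, f, hf, hker⟩ := hmid hw hw1 (hallmid hw hw1)
  have hdv : p.d ∈ CC p.v := p.J_v (T.WJ p.hd)
  have hle : G₀ ≤ p.img (CC p.d) := p.le_img hS hdv hc f hf fun x hx => (hker x).1 hx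
  have hvd : p.v ∈ CC p.d := Subgroup.mem_centralizer_singleton_iff.2 (p.comm_v hdv).symm
  have heq : G₀ = p.img (CC p.d) := by
    refine le_antisymm hle ?_
    obtain ⟨t, htv, -, htd⟩ := p.exists_t
    have hdvd := Subgroup.index_dvd_of_le hle
    rw [hidx] at hdvd
    rcases (Nat.dvd_prime Nat.prime_two).1 hdvd with k | k
    · exfalso
      have hm : p.bar t htv ∈ p.img (CC p.d) := Subgroup.index_eq_one.1 k ▸ Subgroup.mem_top _
      rw [p.mem_img hvd, Subgroup.mem_centralizer_singleton_iff, ← mul_inv_eq_iff_eq_mul, htd, mul_eq_right] at hm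
      exact p.w1 hm
    · have h1 := Subgroup.relIndex_mul_index hle
      rw [hidx, k] at h1
      exact Subgroup.relIndex_eq_one.1 (by omega)
  have hZv : Subgroup.centralizer (T.W : Set G) ≤ CC p.v := fun x hx =>
    Subgroup.mem_centralizer_singleton_iff.2 (Subgroup.mem_centralizer_iff.1 hx _ p.hw).symm
  have hZd : ∀ x : ↥(Subgroup.centralizer (T.W : Set G)), p.bar x (hZv x.2) ∈ G₀ := fun x => by
    rw [heq, p.mem_img hvd]
    exact Subgroup.mem_centralizer_singleton_iff.2 (Subgroup.mem_centralizer_iff.1 x.2 _ p.hd).symm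
  let ψ : ↥(Subgroup.centralizer (T.W : Set G)) →* S := f.comp (MonoidHom.codRestrict
    ((QuotientGroup.mk' p.K).comp (Subgroup.inclusion hZv)) G₀ hZd)
  have hψ : Function.Surjective ψ := fun s => by
    obtain ⟨⟨y, hy⟩, rfl⟩ := hf s
    obtain ⟨x, hx, e, hxd⟩ := p.exists_rep_img (heq ▸ hy : y ∈ p.img (CC p.d))
    refine ⟨⟨x, Subgroup.mem_centralizer_iff.2 fun a ha => ?_⟩, congrArg f (Subtype.ext e.symm)⟩
    rcases T.W_third p.hw p.w1 p.hd p.d1 p.dw ha with rfl | rfl | rfl | rfl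
    · simp
    · exact (p.comm_v hx).symm
    · exact (Subgroup.mem_centralizer_singleton_iff.1 hxd).symm
    · exact ((show Commute x p.w from p.comm_v hx).mul_right
        (show Commute x p.d from Subgroup.mem_centralizer_singleton_iff.1 hxd)).symm.eq
  have hψker : ∀ x, ψ x = 1 ↔ (x : G) ∈ T.W := fun x => by
    refine (hker _).trans ⟨fun h => ?_, fun h => ?_⟩
    · rcases h with h | h
      · rcases (p.mk_eq_one (hZv x.2)).1 h with k | k <;> rw [k]
        exacts [one_mem _, p.hw]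
      · rcases (p.mk_eq (hZv x.2) hdv).1 h with k | k
        · exact k ▸ p.hd
        · rw [show (x : G) = p.d * p.v by rw [k, mul_assoc, p.vv, mul_one]]
          exact mul_mem p.hd p.hw
    · rcases T.W_third p.hw p.w1 p.hd p.d1 p.dw h with k | k | k | k
      · exact Or.inl ((p.mk_eq_one (hZv x.2)).2 (Or.inl k))
      · exact Or.inl ((p.mk_eq_one (hZv x.2)).2 (Or.inr k))
      · exact Or.inr ((p.mk_eq (hZv x.2) hdv).2 (Or.inl k.symm))
      · refine Or.inr ((p.mk_eq (hZv x.2) hdv).2 (Or.inr ?_))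
        rw [k, T.W_comm p.hw p.hd, mul_assoc]
        exact (mul_eq_left.2 p.vv).symm
  exact middle C hF hM Q hA hS haut rfl ψ hψ hψker

end Cfsg.Agent.Fus.Fi23Two
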