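import Cfsg.Agent.Lib.Fus.Fi23Two.Hyp
import Cfsg.Agent.Lib.Fus.Fi23Two.Main
import Cfsg.Agent.S0280
import Cfsg.Agent.S0283
import Cfsg.Agent.S0815

/-!
Centralisers of shape `(2² × 2¹⁺⁸)(3 × U₄(2))2`: the recognition, given that of `Fi₂₂` by a 2-central
involution.
-/

set_option autoImplicit false
set_option linter.unusedSectionVars false
set_option linter.style.haveILetI false

namespace Cfsg.Agent.Fus.Fi23Two

open Cfsg
open Cfsg.Agent.Fus.U62Rec (Q4 CC)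

universe u v w

theorem big_psu {K : Type*} [Field K] [Fintype K] (hK : Fintype.card K = 4) :
    Big (PSU 6 K 2) ∧ Nat.card (MulAut (PSU 6 K 2)) = 6 * Nat.card (PSU 6 K 2) := by
  haveI : Fact (Nat.Prime 2) := ⟨Nat.prime_two⟩
  have hK' : Fintype.card K = 2 ^ 2 := by rw [hK]; norm_num
  haveI hs := S0283.result hK' 6 (by norm_num) (by norm_num)
  have h := S0280.result hK' 6 (by norm_num)
  rw [show Nat.gcd 6 (2 + 1) = 3 by norm_num] at h
  norm_num [Finset.prod_range_succ, Nat.even_iff] at h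
  have hc : Nat.card (PSU 6 K 2) = 9196830720 := by omega
  have ha := S0815.result (F := K) 2 1 le_rfl (q := 2) (by norm_num) hK' 6 (by norm_num) (by norm_num)
  rw [show Nat.gcd 6 (2 + 1) * (2 * 1) = 6 by norm_num] at ha
  exact ⟨⟨hs, Nat.finite_of_card_ne_zero (by omega), by rw [hc]; norm_num, by rw [hc]; norm_num⟩, ha⟩

/-- The recognition, given that of `Fi₂₂`. -/
theorem recognition {G : Type u} [Group G] [Finite G] (z : G) (hz : orderOf z = 2)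
    {F : Type v} [Field F] [Fintype F] (hF : Fintype.card F = 3) {K : Type w} [Field K] [Fintype K]
    (hK : Fintype.card K = 4) (V E : Subgroup ↥(CC z))
    (hVE : IsInternalDirectProduct V E (pCore 2 ↥(CC z))) (hV : Nat.card ↥V = 4) (hV2 : ∀ v ∈ V, v ^ 2 = 1)
    (hE : IsExtraspecial 2 ↥E) (hEc : Nat.card ↥E = 2 ^ 9)
    (hCJ : Subgroup.centralizer ((pCore 2 ↥(CC z)) : Set ↥(CC z)) ≤ pCore 2 ↥(CC z))
    (zc c : ↥(CC z)) (hzc : (zc : G) = z) (hc : orderOf c = 3)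
    [hJc : (pCore 2 ↥(CC z) ⊔ Subgroup.zpowers c).Normal]
    (e : (↥(CC z) ⧸ (pCore 2 ↥(CC z) ⊔ Subgroup.zpowers c)) ≃* MulAut (PSp 2 F))
    [hcz : ((Subgroup.zpowers c ⊔ Subgroup.zpowers zc).subgroupOf
      (Subgroup.centralizer ({c} : Set ↥(CC z)))).Normal]
    (e' : (↥(Subgroup.centralizer ({c} : Set ↥(CC z))) ⧸ (Subgroup.zpowers c ⊔ Subgroup.zpowers zc).subgroupOf
      (Subgroup.centralizer ({c} : Set ↥(CC z)))) ≃* PSp 2 F)
    (hR : Rule.{u} F K) :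
    CC z ⊔ oddCore G = ⊤ ∨ Spor.IsoFi23 G ∨
      (∃ (W : Subgroup G) (_ : W.Normal), Nat.card ↥W = 4 ∧ (∀ w ∈ W, w ^ 2 = 1) ∧
        Nonempty ((G ⧸ W) ≃* MulAut (PSU 6 K 2))) := by
  obtain ⟨T, rfl, ⟨Q⟩⟩ := exists_top_of_hyps z hz hF V E hVE hV hV2 hE hEc hCJ zc c hzc hc e e'
  obtain ⟨C⟩ := T.exists_chart
  obtain ⟨hS, haut⟩ := big_psu hK
  obtain ⟨-, -, -, hA, -⟩ := inn_facts hF
  rcases main C Q (by rw [hA]; norm_num) hS haut (fun p => p.trichotomy C Q hR) with h | h | ⟨hW, h⟩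
  · exact Or.inl h
  · exact Or.inr (Or.inl h)
  · exact Or.inr (Or.inr ⟨T.W, hW, T.card_W, fun w hw => by rw [pow_two]; exact T.W_sq w hw, h⟩)

end Cfsg.Agent.Fus.Fi23Two
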