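import Cfsg.Agent.Lib.Fus.Fi23Two.Conjugates
import Cfsg.Agent.Lib.Fus.Fi23Two.Count

/-!
Centralisers of shape `(2² × 2¹⁺⁸)(3 × U₄(2))2`: a conjugate of `z` in the centraliser comes from an element
normalising the four-group.
-/

set_option autoImplicit false
set_option linter.unusedSectionVars false
set_option linter.style.haveILetI false

namespace Cfsg.Agent.Fus.Fi23Two

open Cfsg.Agent.Fus.U62Rec (Q4 CC)
open Cfsg.Agent.Fus.U62Red (Kind el wd mn mr wT wP OM fixL exists_word el_append el_eq_iff el_eq_one_iff app_mat_lt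
  app_mat_append app_mat_OM)
open Cfsg.Agent.Invol.ExtraEight (app app_xor app_zero idm)

variable {G : Type*} [Group G]

namespace Top

variable {T : Top G}

theorem good_land {a : G} (ha : a ∈ T.N) {r : List ℕ} (hπ : T.π ⟨a, ha⟩ = el r) (hg : good r = true) :
    a ∈ T.J ∨ T.IsT a := by
  rw [good, Bool.or_eq_true, beq_iff_eq, List.any_eq_true] at hg
  rcases hg with h | ⟨o, -, h⟩
  · exact Or.inl ((T.ker _).1 (hπ.trans (el_eq_one_iff.2 h)))
  · rw [beq_iff_eq] at h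
    obtain ⟨q, hq⟩ := T.surj (el o)
    refine Or.inr ⟨q, ha, ?_⟩
    rw [map_mul, map_mul, map_inv, hq, hπ, ← el_append, mul_inv_eq_iff_eq_mul, ← el_append]
    exact el_eq_iff.2 h

/-- A vector of the fixed space of an involution outside the four-group comes from a commutator. -/
theorem Chart.exists_comm (C : T.Chart) {s j : G} (hs : s ∈ CC T.z) (hs2 : s * s = 1) (hj : j ∈ T.J)
    (hq : Kind.q .nat (C.cv (s * j * s⁻¹) ^^^ C.cv j) = false) :
    ∃ k ∈ T.J, C.cv k = C.cv (s * j * s⁻¹) ^^^ C.cv j ∧ k * s = s * k := by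
  have hsi : s⁻¹ = s := inv_eq_of_mul_eq_one_right hs2
  have h1 := T.norm s hs j hj
  set k := j * (s * j * s⁻¹)⁻¹ with hkd
  have hk : k ∈ T.J := mul_mem hj (inv_mem h1)
  have hcv : C.cv k = C.cv (s * j * s⁻¹) ^^^ C.cv j := by
    rw [hkd, C.cv_mul j hj _ (inv_mem h1), C.cv_inv h1, Nat.xor_comm]
  have hk2 : k * k = 1 := (T.sq k hk).resolve_right fun e => by
    rw [← (C.q k hk), hcv, hq] at e
    exact Bool.noConfusion e
  refine ⟨k, hk, hcv, (mul_inv_eq_iff_eq_mul.1 ?_).symm⟩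
  calc s * k * s⁻¹ = s * j * s⁻¹ * (s * s * j⁻¹ * (s * s)⁻¹) := by rw [hkd]; group
    _ = k⁻¹ := by rw [hs2, hkd]; group
    _ = k := inv_eq_of_mul_eq_one_right hk2

namespace Fusion

variable [Finite G] (C : T.Chart) (hF : T.Fusion)

include C hF in
/-- A conjugate of `z` over the second class of involutions. -/
theorem nm_P {g : G} (hsN : g * T.z * g⁻¹ ∈ T.N) (hπ : T.π ⟨g * T.z * g⁻¹, hsN⟩ = el wP) : T.Nm g := by
  classical
  set s := g * T.z * g⁻¹ with hsd
  have hs := T.NC hsN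
  have hs2 : s * s = 1 := conj_sq T.zz
  have hP1 : el wP ≠ 1 := by rw [Ne, el_eq_one_iff]; decide +kernel
  have hsJ : s ∉ T.J := fun h => hP1 (hπ.symm.trans ((T.ker _).2 h))
  obtain ⟨p1, p2, -⟩ := Fi22Two.natP_singular
  have hclass : ∀ w ∈ T.W, (∀ y ∈ T.J, y * s = s * y → y * (g * w * g⁻¹) = g * w * g⁻¹ * y) →
      ∃ r ∈ Fi22Two.rP, ∃ h : g * w * g⁻¹ ∈ T.N, T.π ⟨_, h⟩ = el r := by
    intro w hw hc
    have heH : g * w * g⁻¹ ∈ CC T.z := T.mem_CC (hc T.z T.zJ (T.comm_z hs).symm).symm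
    refine C.natP_fix heH (sq_N (conj_sq (T.W_sq w hw))) fun y hy hf => ?_
    obtain ⟨m, hm, e⟩ := Fi22Two.mem_imL.1 (p2 _ hf)
    obtain ⟨j, hj, rfl⟩ := C.surj m hm
    rw [← C.conj wP ⟨s, hsN⟩ hπ j hj] at e
    obtain ⟨k, hk, hkv, hks⟩ := C.exists_comm hs hs2 hj (by rw [e]; exact p1 _ hf)
    have hke := mul_inv_eq_iff_eq_mul.2 (hc k hk hks).symm
    rw [(C.cv_eq_iff (T.norm _ heH y hy) hy)]
    have hkz : T.InZ (y * k⁻¹) := (C.cv_eq_iff hy hk).1 (by rw [hkv, e])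
    have h1 : g * w * g⁻¹ * y * (g * w * g⁻¹)⁻¹ * y⁻¹ =
        g * w * g⁻¹ * (y * k⁻¹) * (g * w * g⁻¹)⁻¹ * (y * k⁻¹)⁻¹ := by
      set e := g * w * g⁻¹
      calc e * y * e⁻¹ * y⁻¹ = e * (y * k⁻¹) * e⁻¹ * (e * k * e⁻¹) * y⁻¹ := by group
        _ = _ := by rw [hke]; group
    rw [h1]
    exact T.inZ_mul (T.inZ_conj heH hkz) (by rw [T.inZ_inv hkz]; exact hkz)
  obtain ⟨w, hw, hw1, hc, -⟩ := hF.exists_e hs
  obtain ⟨r, hr, heN, hπe⟩ := hclass w hw hc
  have hes : ∀ {w' : G} {r' : List ℕ} (h : g * w' * g⁻¹ ∈ T.N), T.π ⟨_, h⟩ = el r' →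
      T.π ⟨g * w' * g⁻¹ * s, mul_mem h hsN⟩ = el (r' ++ wP) := fun h e => by
    rw [el_append, ← e, ← hπ, ← map_mul]; rfl
  by_cases hall : ∀ x ∈ T.W, ∀ y ∈ T.J, y * s = s * y → y * (g * x * g⁻¹) = g * x * g⁻¹ * y
  · set u := T.c * w * T.c⁻¹
    have hu : u ∈ T.W := T.W_norm _ T.cH w hw
    have hu1 : u ≠ 1 := fun e => hw1 (conj_eq_one_iff.1 e)
    have hwu1 : w * u ≠ 1 := fun e => (T.c_moves hw hw1).1 (by
      show u = w; rw [← T.W_inv hw]; exact eq_inv_of_mul_eq_one_right e)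
    obtain ⟨r', hr', hN', hπ'⟩ := hclass u hu (hall u hu)
    have h3 : g * (w * u) * g⁻¹ ∈ T.N := by rw [← conj_mul]; exact mul_mem heN hN'
    have hπ3 : T.π ⟨_, h3⟩ = el (r ++ r') := by
      rw [el_append, ← hπe, ← hπ', ← map_mul]
      exact congrArg T.π (Subtype.ext conj_mul.symm)
    have land : ∀ {w' : G} (_ : w' ∈ T.W) (_ : w' ≠ 1) {r₀ : List ℕ} (h : g * w' * g⁻¹ ∈ T.N),
        T.π ⟨_, h⟩ = el r₀ → good r₀ = true ∨ good (r₀ ++ wP) = true → T.Nm g := by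
      intro w' hw' hw1' r₀ h e hg
      refine hF.landing C hw' hw1' hs hsJ ?_
      rcases hg with hg | hg
      · exact (good_land h e hg).elim Or.inl fun k => Or.inr (Or.inr (Or.inl k))
      · exact (good_land _ (hes h e) hg).elim (fun k => Or.inr (Or.inl k)) fun k => Or.inr (Or.inr (Or.inr k))
    have := List.any_eq_true.1 (no_P_pair r hr r' hr')
    obtain ⟨x, hx, hg⟩ := this
    simp only [List.mem_cons, List.not_mem_nil, or_false] at hx
    rcases hx with rfl | rfl | rfl | rfl | rfl | rfl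
    · exact land hw hw1 heN hπe (Or.inl hg)
    · exact land hu hu1 hN' hπ' (Or.inl hg)
    · exact land (mul_mem hw hu) hwu1 h3 hπ3 (Or.inl hg)
    · exact land hw hw1 heN hπe (Or.inr hg)
    · exact land hu hu1 hN' hπ' (Or.inr hg)
    · exact land (mul_mem hw hu) hwu1 h3 hπ3 (Or.inr hg)
  -- a single involution is centralised, so it is fixed by the centraliser of the conjugate of `z`
  have huniq : ∀ x ∈ T.W, x ≠ 1 → (∀ y ∈ T.J, y * s = s * y → y * (g * x * g⁻¹) = g * x * g⁻¹ * y) → x = w := by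
    intro x hx hx1 hcx
    by_contra hne
    refine hall fun a ha y hy hys => ?_
    rcases T.W_third hw hw1 hx hx1 hne ha with rfl | rfl | rfl | rfl
    · simp
    · exact hc y hy hys
    · exact hcx y hy hys
    · rw [← conj_mul]
      exact ((show Commute y (g * w * g⁻¹) from hc y hy hys).mul_right (hcx y hy hys)).eq
  obtain ⟨f1, f2, f3⟩ := Fi22Two.uP_facts
  obtain ⟨u, hu, hus⟩ := C.exists_lift hsN hs2 (by simp [Fi22Two.wts]) hπ f1 f2 f3
  have huz := T.NC u.2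
  set h := g⁻¹ * (u : G) * g with hhd
  have hh : h ∈ CC T.z := T.mem_CC (Fi22Two.comm_of_conj hus)
  have hxW := T.W_norm h hh w hw
  have hx : g * (h * w * h⁻¹) * g⁻¹ = (u : G) * (g * w * g⁻¹) * (u : G)⁻¹ := by rw [hhd]; group
  have hxw : h * w * h⁻¹ = w := huniq _ hxW (fun e => hw1 (conj_eq_one_iff.1 e)) fun y hy hys => by
    rw [hx]
    have hy' : (u : G)⁻¹ * y * u ∈ T.J := by simpa using T.norm _ (inv_mem huz) y hy
    refine Fi22Two.conj_back (hc _ hy' (Fi22Two.comm_of_conj ?_))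
    rwa [mul_inv_eq_iff_eq_mul.2 hus]
  have hue : (u : G) * (g * w * g⁻¹) = g * w * g⁻¹ * u := mul_inv_eq_iff_eq_mul.1 (by rw [← hx, hxw])
  have hcomm : el r * el Fi22Two.uP = el Fi22Two.uP * el r := by
    rw [← hπe, ← hu, ← map_mul, ← map_mul]
    exact congrArg T.π (Subtype.ext hue.symm)
  refine hF.landing C hw hw1 hs hsJ ?_
  rcases Fi22Two.uP_rP r hr (U62Red.el_comm_iff.1 hcomm) with e | e | ⟨o, -, e⟩
  · exact Or.inl ((T.ker _).1 (hπe.trans (el_eq_one_iff.2 e)))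
  · refine Or.inr (Or.inl ((T.ker ⟨_, mul_mem heN hsN⟩).1 ?_))
    rw [show (⟨g * w * g⁻¹ * s, mul_mem heN hsN⟩ : ↥T.N) = ⟨_, heN⟩ * ⟨s, hsN⟩ from rfl, map_mul, hπe, hπ,
      el_eq_iff.2 (e : Kind.nat.mat r = Kind.nat.mat wP), ← hπ, ← map_mul]
    rw [show (⟨s, hsN⟩ : ↥T.N) * ⟨s, hsN⟩ = 1 from Subtype.ext hs2, map_one]
  · obtain ⟨q, hq⟩ := T.surj (el o)
    refine Or.inr (Or.inr (Or.inl ⟨q, heN, ?_⟩))
    rw [map_mul, map_mul, map_inv, hq, hπe, ← el_append, mul_inv_eq_iff_eq_mul, ← el_append]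
    exact el_eq_iff.2 e

include C hF in
/-- A conjugate of `z` in `N`. -/
theorem nm_of_N {g : G} (hs : g * T.z * g⁻¹ ∈ T.N) : T.Nm g := by
  by_cases hsJ : g * T.z * g⁻¹ ∈ T.J
  · exact hF.nm_of_J C hsJ
  obtain ⟨h, wt, hwt, hπ⟩ := T.exists_class hs (conj_sq T.zz) hsJ
  have e : (h : G) * g * T.z * ((h : G) * g)⁻¹ = h * (g * T.z * g⁻¹) * (h : G)⁻¹ := by group
  have hs' : (h : G) * g * T.z * ((h : G) * g)⁻¹ ∈ T.N := e ▸ T.N_norm (T.NC h.2) hs
  have hπ' : T.π ⟨_, hs'⟩ = el wt := by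
    rw [← hπ]; exact congrArg T.π (Subtype.ext e)
  suffices hnm : T.Nm ((h : G) * g) by
    have := (nm_of_CC (T := T) (inv_mem (T.NC h.2))).mul hnm
    rwa [inv_mul_cancel_left] at this
  rcases List.mem_cons.1 hwt with rfl | hwt
  · set s := (h : G) * g * T.z * ((h : G) * g)⁻¹
    obtain ⟨w, hw, hw1, hc, heH⟩ := hF.exists_e (T.NC hs')
    exact hF.landing C hw hw1 (T.NC hs') (fun k => el_wT_ne (hπ'.symm.trans ((T.ker _).2 k))) <|
      (C.natT hs' (conj_sq T.zz) hπ' heH (sq_N (conj_sq (T.W_sq w hw))) hc).elim Or.inl fun k => Or.inr (Or.inl k)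
  · rw [List.mem_singleton] at hwt
    subst hwt
    exact hF.nm_P C hs' hπ'

include C hF in
/-- A conjugate of `z` in the centraliser. -/
theorem nm_of_mem {g : G} (hs : g * T.z * g⁻¹ ∈ CC T.z) : T.Nm g := by
  classical
  set s := g * T.z * g⁻¹ with hsd
  by_cases hsN : s ∈ T.N
  · exact hF.nm_of_N C hsN
  have hsJ : s ∉ T.J := fun h => hsN (T.JN h)
  have hs2 : s * s = 1 := conj_sq T.zz
  obtain ⟨d, hd, hd1, hsd'⟩ := T.exists_fixed hs (sq_N hs2)
  obtain ⟨w, hw, hw1, hc, heH⟩ := hF.exists_e hs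
  set e := g * w * g⁻¹ with hed
  have hes : e * s = s * e := cJ_comm hw
  -- the second involution fixes the same involution of the four-group
  have hde : e * d = d * e := by
    have hd' := T.W_norm e heH d hd
    have hfix : s * (e * d * e⁻¹) = e * d * e⁻¹ * s := by
      calc s * (e * d * e⁻¹) = e * (s * d) * e⁻¹ := by rw [← mul_assoc, ← mul_assoc, ← hes, mul_assoc e s d]
        _ = e * (d * s) * e⁻¹ := by rw [hsd']
        _ = e * d * (e⁻¹ * e) * s * e⁻¹ := by group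
        _ = e * d * e⁻¹ * (s * e) * e⁻¹ := by rw [← hes]; group
        _ = _ := by group
    by_contra hne
    exact hsN (T.mem_N_of_two hs hd hd1 hd' (fun k => hd1 (conj_eq_one_iff.1 k))
      (fun k => hne (mul_inv_eq_iff_eq_mul.1 k)) hsd' hfix)
  obtain ⟨y, hy, hyN⟩ : ∃ y, (y = e ∨ y = e * s) ∧ y ∈ T.N := by
    by_cases heN : e ∈ T.N
    · exact ⟨e, Or.inl rfl, heN⟩
    · exact ⟨e * s, Or.inr rfl, T.N_index heH hs hd hd1 hde hsd' heN hsN⟩
  have hy2 : y * y = 1 := by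
    rcases hy with rfl | rfl
    · exact conj_sq (T.W_sq w hw)
    · rw [mul_assoc, ← mul_assoc s, ← hes, mul_assoc e, hs2, mul_one, hed]; exact conj_sq (T.W_sq w hw)
  refine hF.landing C hw hw1 hs hsJ ?_
  suffices hyc : y ∈ T.J ∨ T.IsT y by
    rcases hy with rfl | rfl
    · exact hyc.elim Or.inl fun k => Or.inr (Or.inr (Or.inl k))
    · exact hyc.elim (fun k => Or.inr (Or.inl k)) fun k => Or.inr (Or.inr (Or.inr k))
  by_cases hyJ : y ∈ T.J
  · exact Or.inl hyJ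
  obtain ⟨h, wt, hwt, hπ⟩ := T.exists_class hyN hy2 hyJ
  rcases List.mem_cons.1 hwt with rfl | hwt
  · exact Or.inr ⟨h, hyN, hπ⟩
  rw [List.mem_singleton] at hwt
  subst hwt
  exfalso
  obtain ⟨wy, hwy⟩ := exists_word (T.π ⟨y, hyN⟩)
  obtain ⟨wh, hwh⟩ := exists_word (T.π h)
  obtain ⟨wi, hwi⟩ := exists_word (T.π h⁻¹)
  set p := Pt.ofW (T := T) hd hd1
  have hsv : s ∈ CC p.v := Subgroup.mem_centralizer_singleton_iff.2 hsd'
  have hsb := (p.mem_CC_zb C hsv).2 hs
  set S := app ((p.chart C).act (p.bar s hsv)) with hSd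
  have hact : ∀ {x}, x ∈ T.J → S (C.cv x) = C.cv (s * x * s⁻¹) := fun hx => C.bar_act p hs hsv hx
  have hlarge := fix_large S (app (Kind.nat.mat wy)) (fun n _ => (p.chart C).app_act_lt _ n) (app_xor _)
    (fun n hn => by
      obtain ⟨x, hx, rfl⟩ := C.surj n hn
      rw [hact hx, hact (T.norm s hs x hx), show s * (s * x * s⁻¹) * s⁻¹ = s * s * x * (s * s)⁻¹ by group, hs2,
        one_mul, inv_one, mul_one])
    (fun n hn => by
      obtain ⟨x, hx, rfl⟩ := C.surj n hn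
      obtain ⟨x', hx', e1, e2⟩ := C.semilinear hs hd hd1 hsd' hsN hx
      rw [← e1, hact hx', hact hx, e2])
    (fun n hn => (p.chart C).act_q hsb hn) (fun a ha b hb c hc' => (p.chart C).bq_add ha hb hc') (app_xor _)
    (fun n hn => app_mat_OM wy hn) fun m hm hq => by
      obtain ⟨j, hj, rfl⟩ := C.surj m hm
      rw [hact hj] at hq ⊢
      obtain ⟨k, hk, hkv, hks⟩ := C.exists_comm hs hs2 hj hq
      have hky : k * y = y * k := by
        rcases hy with rfl | rfl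
        · exact hc k hk hks
        · exact ((show Commute k e from hc k hk hks).mul_right hks).eq
      rw [← hkv, ← C.conj wy ⟨y, hyN⟩ hwy.symm k hk, ← hky, mul_inv_cancel_right]
  have hcon : ∀ n < 256, app (Kind.nat.mat wP) (app (Kind.nat.mat wh) n) =
      app (Kind.nat.mat wh) (app (Kind.nat.mat wy) n) := fun n hn => by
    rw [← app_mat_append _ _ _ hn, ← app_mat_append _ _ _ hn]
    refine congrArg (app · n) (el_eq_iff.1 ?_)
    rw [el_append, el_append, hwh, hwy, ← hπ, ← map_mul, ← map_mul, inv_mul_cancel_right]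
  have hinj : ∀ n < 256, app (Kind.nat.mat wi) (app (Kind.nat.mat wh) n) = n := fun n hn => by
    rw [← app_mat_append _ _ _ hn, el_eq_one_iff.1 (show el (wi ++ wh) = 1 by
      rw [el_append, hwi, hwh, ← map_mul, inv_mul_cancel, map_one])]
    exact U62Red.app_mat_nil .nat hn
  have hle : ((Finset.range 256).filter fun n => app (Kind.nat.mat wy) n = n).card ≤
      (fixL .nat wP).toFinset.card := by
    refine Finset.card_le_card_of_injOn (app (Kind.nat.mat wh)) (fun n hn => ?_) fun a ha b hb e => ?_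
    · simp only [Finset.coe_filter, Finset.mem_range, Set.mem_setOf_eq] at hn
      rw [Finset.mem_coe, List.mem_toFinset, Fi22Two.mem_fixL]
      exact ⟨app_mat_lt _ _ _, by rw [hcon n hn.1, hn.2]⟩
    · simp only [Finset.coe_filter, Finset.mem_range, Set.mem_setOf_eq] at ha hb
      rw [← hinj a ha.1, e, hinj b hb.1]
  rw [fix_wP_small] at hle
  omega

end Fusion

end Top

end Cfsg.Agent.Fus.Fi23Two
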