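import Cfsg.Agent.Lib.Fus.Fi23Two.Build
import Cfsg.Agent.Lib.Classical.PSpAutCard
import Cfsg.Agent.S0822

/-!
Centralisers of shape `(2² × 2¹⁺⁸)(3 × U₄(2))2`: the hypotheses give the frame.
-/

set_option autoImplicit false
set_option linter.unusedSectionVars false
set_option linter.style.haveILetI false

namespace Cfsg.Agent.Fus.Fi23Two

open Cfsg
open Cfsg.Agent.Fus.U62Rec (Q4 CC)

theorem card_PSp {F : Type*} [Field F] [Fintype F] (hF : Fintype.card F = 3) :
    Nat.card (PSp 2 F) = 25920 ∧ IsSimpleGroup (PSp 2 F) := by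
  haveI : Fact (Nat.Prime 3) := ⟨Nat.prime_three⟩
  haveI : CharP F 3 := charP_of_card_eq_prime_pow (f := 1) (by rw [hF, pow_one])
  obtain ⟨e'⟩ := S0822.result (F := Agent.Spor.USixTwo.K4) (K := F) Fus.U62Rec.k4_card hF
  haveI := Fus.U62Rec.q_simple
  haveI : Nontrivial (PSp 2 F) := e'.symm.toEquiv.nontrivial
  exact ⟨by rw [← Nat.card_congr e'.toEquiv]; exact Fus.U62Rec.card_Q4,
    IsSimpleGroup.isSimpleGroup_of_surjective e'.toMonoidHom e'.surjective⟩

/-- The inner automorphisms. -/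
theorem inn_facts {F : Type*} [Field F] [Fintype F] (hF : Fintype.card F = 3) :
    (Inn (PSp 2 F)).index = 2 ∧ Nat.card ↥(Inn (PSp 2 F)) = 25920 ∧
      Subgroup.centralizer ((Inn (PSp 2 F) : Subgroup (MulAut (PSp 2 F))) : Set (MulAut (PSp 2 F))) = ⊥ ∧
      Nat.card (MulAut (PSp 2 F)) = 51840 ∧ Nonempty (↥(Inn (PSp 2 F)) ≃* Q4) := by
  haveI : Fact (Nat.Prime 3) := ⟨Nat.prime_three⟩
  haveI : CharP F 3 := charP_of_card_eq_prime_pow (f := 1) (by rw [hF, pow_one])
  obtain ⟨e'⟩ := S0822.result (F := Agent.Spor.USixTwo.K4) (K := F) Fus.U62Rec.k4_card hF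
  have hinn : Nat.card (Inn (PSp 2 F)) = Nat.card (PSp 2 F) :=
    Agent.Classical.PSpAut.natCard_inn (F := F) (m := 2) (by norm_num)
  obtain ⟨hcard, -⟩ := card_PSp hF
  have haut : Nat.card (MulAut (PSp 2 F)) = 2 * Nat.card (PSp 2 F) := by
    rw [Agent.Classical.PSpAut.natCard_mulAut (p := 3) (f := 1) le_rfl one_ne_zero (by rw [hF, pow_one])]
    norm_num
  rw [hcard] at haut hinn
  have hinj : Function.Injective (MulAut.conj : PSp 2 F →* MulAut (PSp 2 F)) :=
    MonoidHom.rangeRestrict_injective_iff.1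
      ((Nat.bijective_iff_surjective_and_card _).2
        ⟨MonoidHom.rangeRestrict_surjective _, hcard.trans hinn.symm⟩).1
  refine ⟨?_, hinn, ?_, haut, ⟨(MonoidHom.ofInjective hinj).symm.trans e'.symm⟩⟩
  · have h := (Inn (PSp 2 F)).card_mul_index
    rw [hinn, haut] at h
    exact Nat.eq_of_mul_eq_mul_left (by norm_num : 0 < 25920) (by rw [h])
  · refine (Subgroup.eq_bot_iff_forall _).2 fun φ hφ => MulEquiv.ext fun x => hinj ?_
    have h := Subgroup.mem_centralizer_iff.1 hφ (MulAut.conj x) ⟨x, rfl⟩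
    have h2 : φ * MulAut.conj x * φ⁻¹ = MulAut.conj x := by rw [← h, mul_inv_cancel_right]
    conv_rhs => rw [show (1 : MulAut (PSp 2 F)) x = x from rfl, ← h2]
    ext y
    simp [MulAut.mul_apply, MulAut.inv_def]

variable {H : Type*} [Group H] [Finite H]

/-- The elements of the join of a normal subgroup with the powers of an element of order three. -/
theorem mem_sup_three {J : Subgroup H} [hJ : J.Normal] {c : H} (hc : orderOf c = 3) {x : H}
    (hx : x ∈ J ⊔ Subgroup.zpowers c) : x ∈ J ∨ x * c ∈ J ∨ x * (c * c) ∈ J := by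
  classical
  obtain ⟨j, hj, p, hp, rfl⟩ := Subgroup.mem_sup_of_normal_left.1 hx
  rw [mem_zpowers_iff_mem_range_orderOf, hc] at hp
  obtain ⟨i, hi, rfl⟩ := Finset.mem_image.1 hp
  have hc3 : c ^ 3 = 1 := hc ▸ pow_orderOf_eq_one c
  rw [Finset.mem_range] at hi
  interval_cases i
  · left; simpa using hj
  · right; right
    rw [pow_one, mul_assoc, show c * (c * c) = c ^ 3 by rw [pow_three], hc3, mul_one]
    exact hj
  · right; left
    rw [mul_assoc, ← pow_succ, hc3, mul_one]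
    exact hj

theorem two_three {J : Subgroup H} (hJ : IsPGroup 2 ↥J) {c : H} (hc : orderOf c = 3) {p : H}
    (hp : p ∈ Subgroup.zpowers c) (hpJ : p ∈ J) : p = 1 := by
  haveI : Fact (Nat.Prime 2) := ⟨Nat.prime_two⟩
  obtain ⟨k, hk⟩ := hJ ⟨p, hpJ⟩
  have hk' : p ^ 2 ^ k = 1 := congrArg Subtype.val hk
  obtain ⟨i, rfl⟩ := hp
  have h3 : (c ^ i) ^ 3 = 1 := by
    rw [← zpow_natCast, ← zpow_mul, mul_comm, zpow_mul, zpow_natCast, ← hc, pow_orderOf_eq_one, one_zpow]
  have h1 := Nat.dvd_gcd (orderOf_dvd_of_pow_eq_one hk') (orderOf_dvd_of_pow_eq_one h3)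
  rw [Nat.Coprime.pow_left k (by norm_num : Nat.Coprime 2 3)] at h1
  exact orderOf_eq_one_iff.1 (Nat.dvd_one.1 h1)

variable {G : Type*} [Group G] [Finite G]

/-- The frame from the hypotheses. -/
theorem exists_top_of_hyps (z : G) (hz : orderOf z = 2) {F : Type*} [Field F] [Fintype F]
    (hF : Fintype.card F = 3) (V E : Subgroup ↥(CC z))
    (hVE : IsInternalDirectProduct V E (pCore 2 ↥(CC z))) (hV : Nat.card ↥V = 4) (hV2 : ∀ v ∈ V, v ^ 2 = 1)
    (hE : IsExtraspecial 2 ↥E) (hEc : Nat.card ↥E = 2 ^ 9)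
    (hCJ : Subgroup.centralizer ((pCore 2 ↥(CC z)) : Set ↥(CC z)) ≤ pCore 2 ↥(CC z))
    (zc c : ↥(CC z)) (hzc : (zc : G) = z) (hc : orderOf c = 3)
    [hJc : (pCore 2 ↥(CC z) ⊔ Subgroup.zpowers c).Normal]
    (e : (↥(CC z) ⧸ (pCore 2 ↥(CC z) ⊔ Subgroup.zpowers c)) ≃* MulAut (PSp 2 F))
    [hcz : ((Subgroup.zpowers c ⊔ Subgroup.zpowers zc).subgroupOf
      (Subgroup.centralizer ({c} : Set ↥(CC z)))).Normal]
    (e' : (↥(Subgroup.centralizer ({c} : Set ↥(CC z))) ⧸ (Subgroup.zpowers c ⊔ Subgroup.zpowers zc).subgroupOf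
      (Subgroup.centralizer ({c} : Set ↥(CC z)))) ≃* PSp 2 F) :
    ∃ T : Top G, T.z = z ∧ Nonempty (Quo T (MulAut (PSp 2 F))) := by
  classical
  haveI : Fact (Nat.Prime 2) := ⟨Nat.prime_two⟩
  haveI : Fact (Nat.Prime 3) := ⟨Nat.prime_three⟩
  obtain ⟨hcardP, hsP⟩ := card_PSp hF
  obtain ⟨hidx, hcardN, hfaith, -, ⟨eN⟩⟩ := inn_facts hF
  set J₀ := pCore 2 ↥(CC z)
  haveI hJn : J₀.Normal := Grp.pCore_isNormal
  have hJ2 : IsPGroup 2 ↥J₀ := Grp.pCore_isPGroup
  set L := Subgroup.centralizer ({c} : Set ↥(CC z))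
  set K₀ := (Subgroup.zpowers c ⊔ Subgroup.zpowers zc).subgroupOf L
  set M := J₀ ⊔ Subgroup.zpowers c with hM
  have hzz : zc * zc = 1 := Subtype.ext (by push_cast; rw [hzc, ← pow_two, ← hz, pow_orderOf_eq_one])
  have hzc' : ∀ h : ↥(CC z), h * zc = zc * h := fun h => Subtype.ext (by
    push_cast; rw [hzc]; exact Subgroup.mem_centralizer_singleton_iff.1 h.2)
  haveI hzn : (Subgroup.zpowers zc).Normal := ⟨fun x hx h => by
    rcases mem_zpowers_two hzz hx with k | k <;> rw [k]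
    · simp
    · rw [hzc' h, mul_inv_cancel_right]; exact Subgroup.mem_zpowers zc⟩
  have hzJ : zc ∈ J₀ := Grp.le_pCore hzn (IsPGroup.of_card (n := 1) (by
    rw [Nat.card_zpowers, pow_one]
    refine orderOf_eq_prime (by rw [pow_two, hzz]) fun k => ?_
    rw [← hzc, k, Subgroup.coe_one, orderOf_one] at hz
    norm_num at hz)) (Subgroup.mem_zpowers zc)
  have hc3 : c * c * c = 1 := by rw [← pow_three' c, ← hc, pow_orderOf_eq_one]
  have hcJ : c ∉ J₀ := fun h => by
    rw [two_three hJ2 hc (Subgroup.mem_zpowers c) h, orderOf_one] at hc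
    norm_num at hc
  -- elements of `J` commuting with `c`
  have hLJ : ∀ x : ↥(CC z), x ∈ J₀ → c * x = x * c → x = 1 ∨ x = zc := by
    intro x hx hxc
    have hxL : x ∈ L := Subgroup.mem_centralizer_singleton_iff.2 hxc.symm
    let f : ↥L →* PSp 2 F := e'.toMonoidHom.comp (QuotientGroup.mk' K₀)
    have hfs : Function.Surjective f := e'.surjective.comp (QuotientGroup.mk'_surjective _)
    haveI : ((J₀.subgroupOf L).map f).Normal := Subgroup.normal_subgroupOf.map _ hfs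
    have h1 : (⟨x, hxL⟩ : ↥L) ∈ K₀ := by
      rcases (inferInstance : ((J₀.subgroupOf L).map f).Normal).eq_bot_or_eq_top with h | h
      · have hm : f ⟨x, hxL⟩ ∈ (J₀.subgroupOf L).map f := ⟨_, hx, rfl⟩
        rw [h, Subgroup.mem_bot, MonoidHom.comp_apply, MulEquiv.coe_toMonoidHom,
          map_eq_one_iff _ e'.injective] at hm
        exact (QuotientGroup.eq_one_iff _).1 hm
      · exfalso
        have hp : IsPGroup 2 ↥(⊤ : Subgroup (PSp 2 F)) := h ▸ (hJ2.comap_subtype (K := L)).map f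
        obtain ⟨n, hn⟩ := IsPGroup.iff_card.1 hp
        rw [Subgroup.card_top, hcardP] at hn
        have h405 : 405 ∣ 2 ^ n := ⟨64, by omega⟩
        have : (405 : ℕ) = 1 := Nat.eq_one_of_dvd_coprimes
          (Nat.Coprime.pow_right n (by norm_num : Nat.Coprime 405 2)) dvd_rfl h405
        omega
    obtain ⟨p, hp, q, hq, rfl⟩ := Subgroup.mem_sup_of_normal_right.1 (Subgroup.mem_subgroupOf.1 h1)
    have hpJ : p ∈ J₀ := by
      have := mul_mem hx (inv_mem (Subgroup.zpowers_le.2 hzJ hq))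
      rwa [mul_inv_cancel_right] at this
    rw [two_three hJ2 hc hp hpJ, one_mul]
    exact mem_zpowers_two hzz hq
  -- conjugates of `c`
  have hmod : ∀ h : ↥(CC z), h * c * h⁻¹ * c⁻¹ ∈ J₀ ∨ h * c * h⁻¹ * c ∈ J₀ := by
    intro h
    rcases mem_sup_three hc (hJc.conj_mem c (Subgroup.mem_sup_right (Subgroup.mem_zpowers c)) h) with k | k | k
    · exact absurd (by simpa [mul_assoc] using hJn.conj_mem _ k h⁻¹) hcJ
    · exact Or.inr k
    · exact Or.inl (by rwa [inv_eq_of_mul_eq_one_right (show c * (c * c) = 1 by rw [← mul_assoc, hc3])])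
  -- the Sylow argument
  have hfrat : ∀ h : ↥(CC z), h * c * h⁻¹ * c⁻¹ ∈ J₀ → ∃ j ∈ J₀, j⁻¹ * h * c = c * (j⁻¹ * h) := by
    intro h hh
    have hcM : c ∈ M := Subgroup.mem_sup_right (Subgroup.mem_zpowers c)
    have h3 : IsPGroup 3 ↥(Subgroup.zpowers (⟨c, hcM⟩ : ↥M)) := IsPGroup.of_card (n := 1) (by
      rw [Nat.card_zpowers, Subgroup.orderOf_mk, hc, pow_one])
    obtain ⟨P, hP⟩ := h3.exists_le_sylow
    have hPc : ∀ x ∈ (P : Subgroup ↥M).map M.subtype, x ∈ Subgroup.zpowers c := by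
      rintro _ ⟨⟨x, hxM⟩, hx, rfl⟩
      obtain ⟨j, hj, p, hp, rfl⟩ := Subgroup.mem_sup_of_normal_left.1 hxM
      have hpM : p ∈ M := Subgroup.mem_sup_right hp
      have hpP : (⟨p, hpM⟩ : ↥M) ∈ (P : Subgroup ↥M) := hP (by
        obtain ⟨i, rfl⟩ := hp
        exact ⟨i, Subtype.ext (by simp)⟩)
      have hjP : (⟨j, Subgroup.mem_sup_left hj⟩ : ↥M) ∈ (P : Subgroup ↥M) := by
        have := mul_mem hx (inv_mem hpP)
        rwa [show (⟨j * p, hxM⟩ : ↥M) * (⟨p, hpM⟩)⁻¹ = ⟨j, Subgroup.mem_sup_left hj⟩ from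
          Subtype.ext (mul_inv_cancel_right j p)] at this
      obtain ⟨a, ha⟩ := P.isPGroup' ⟨_, hjP⟩
      obtain ⟨b, hb⟩ := hJ2 ⟨j, hj⟩
      have ha' : j ^ 3 ^ a = 1 := congrArg (fun t : ↥(P : Subgroup ↥M) => ((t : ↥M) : ↥(CC z))) ha
      have hb' : j ^ 2 ^ b = 1 := congrArg Subtype.val hb
      have h1 := Nat.dvd_gcd (orderOf_dvd_of_pow_eq_one ha') (orderOf_dvd_of_pow_eq_one hb')
      rw [(Nat.Coprime.pow a b (by norm_num : Nat.Coprime 3 2))] at h1
      show j * p ∈ Subgroup.zpowers c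
      rw [orderOf_eq_one_iff.1 (Nat.dvd_one.1 h1), one_mul]
      exact hp
    have htop := Sylow.normalizer_sup_eq_top P
    obtain ⟨n, hn, m, hm, rfl⟩ := Subgroup.mem_sup_of_normal_right.1 (htop ▸ Subgroup.mem_top h)
    have hncz : n * c * n⁻¹ ∈ Subgroup.zpowers c :=
      hPc _ ((Subgroup.mem_normalizer_iff.1 hn c).1 ⟨⟨c, hcM⟩, hP (Subgroup.mem_zpowers _), rfl⟩)
    obtain ⟨j, hj, p, hp, rfl⟩ := Subgroup.mem_sup_of_normal_left.1 hm
    have hpc : Commute p c := by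
      obtain ⟨i, rfl⟩ := hp
      exact (Commute.refl c).zpow_left i
    have hq : n * c * n⁻¹ * c⁻¹ ∈ J₀ := by
      have e1 : n * c * n⁻¹ * c⁻¹ =
          (n * (j * c * j⁻¹ * c⁻¹) * n⁻¹)⁻¹ * (n * (j * p) * c * (n * (j * p))⁻¹ * c⁻¹) := by
        rw [show n * (j * p) * c * (n * (j * p))⁻¹ = n * (j * (p * c * p⁻¹) * j⁻¹) * n⁻¹ by group,
          mul_inv_eq_iff_eq_mul.2 hpc.eq]
        group
      rw [e1]
      refine mul_mem (inv_mem (hJn.conj_mem _ ?_ n)) hh
      rw [show j * c * j⁻¹ * c⁻¹ = j * (c * j⁻¹ * c⁻¹) by group]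
      exact mul_mem hj (hJn.conj_mem _ (inv_mem hj) c)
    have hnc : n * c * n⁻¹ * c⁻¹ = 1 :=
      two_three hJ2 hc (mul_mem hncz (inv_mem (Subgroup.mem_zpowers c))) hq
    refine ⟨n * j * n⁻¹, hJn.conj_mem j hj n, ?_⟩
    rw [show (n * j * n⁻¹)⁻¹ * (n * (j * p)) = n * p by group]
    exact ((show Commute n c from mul_inv_eq_iff_eq_mul.1 (mul_inv_eq_one.1 hnc)).mul_left hpc).eq
  -- the quotient map on the centraliser of `c`
  let φ : ↥(CC z) →* MulAut (PSp 2 F) := e.toMonoidHom.comp (QuotientGroup.mk' M)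
  have hφ1 : ∀ x, φ x = 1 ↔ x ∈ M := fun x => by
    show e (QuotientGroup.mk x) = 1 ↔ _
    rw [map_eq_one_iff _ e.injective, QuotientGroup.eq_one_iff]
  have hKM : ∀ x : ↥L, x ∈ K₀ ↔ (x : ↥(CC z)) ∈ M := by
    intro x
    refine ⟨fun hx => ?_, fun hx => ?_⟩
    · exact sup_le (le_sup_right : Subgroup.zpowers c ≤ M)
        ((Subgroup.zpowers_le.2 hzJ).trans le_sup_left) (Subgroup.mem_subgroupOf.1 hx)
    · obtain ⟨j, hj, p, hp, he⟩ := Subgroup.mem_sup_of_normal_left.1 hx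
      have hpc : Commute p c := by
        obtain ⟨i, rfl⟩ := hp
        exact (Commute.refl c).zpow_left i
      have hjc : Commute j c := by
        have hxc : Commute (x : ↥(CC z)) c := Subgroup.mem_centralizer_singleton_iff.1 x.2
        rw [show j = (x : ↥(CC z)) * p⁻¹ by rw [← he, mul_inv_cancel_right]]
        exact hxc.mul_left hpc.inv_left
      rw [Subgroup.mem_subgroupOf, ← he]
      refine mul_mem ?_ (Subgroup.mem_sup_left hp)
      rcases hLJ j hj hjc.symm.eq with k | k <;> rw [k]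
      exacts [one_mem _, Subgroup.mem_sup_right (Subgroup.mem_zpowers zc)]
  let ψ : ↥L →* MulAut (PSp 2 F) := φ.comp L.subtype
  have hψker : ψ.ker = K₀ := by
    ext x; rw [MonoidHom.mem_ker]; exact (hφ1 _).trans (hKM x).symm
  haveI := hsP
  haveI hNn : (Inn (PSp 2 F)).Normal := Subgroup.normal_of_index_eq_two hidx
  have hψle : ψ.range ≤ Inn (PSp 2 F) := by
    let χ : ↥L →* (MulAut (PSp 2 F)) ⧸ Inn (PSp 2 F) := (QuotientGroup.mk' _).comp ψ
    have hK : K₀ ≤ χ.ker := fun x hx => by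
      rw [MonoidHom.mem_ker, MonoidHom.comp_apply, MonoidHom.mem_ker.1 (hψker ▸ hx : x ∈ ψ.ker), map_one]
    let χ' : PSp 2 F →* (MulAut (PSp 2 F)) ⧸ Inn (PSp 2 F) :=
      (QuotientGroup.lift K₀ χ hK).comp e'.symm.toMonoidHom
    rcases (inferInstance : χ'.ker.Normal).eq_bot_or_eq_top with h | h
    · exfalso
      have := Nat.card_le_card_of_injective χ' ((MonoidHom.ker_eq_bot_iff χ').1 h)
      have h2 : Nat.card (MulAut (PSp 2 F) ⧸ Inn (PSp 2 F)) = 2 := (Subgroup.index_eq_card _).symm.trans hidx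
      rw [h2, hcardP] at this
      omega
    · rintro _ ⟨x, rfl⟩
      have hx : χ' (e' (QuotientGroup.mk x)) = 1 := MonoidHom.mem_ker.1 (h ▸ Subgroup.mem_top _)
      rw [MonoidHom.comp_apply, MulEquiv.coe_toMonoidHom, MulEquiv.symm_apply_apply] at hx
      exact (QuotientGroup.eq_one_iff (ψ x)).1 hx
  have hψeq : ψ.range = Inn (PSp 2 F) := by
    refine Subgroup.eq_of_le_of_card_ge hψle (le_of_eq ?_)
    rw [hcardN, ← Subgroup.index_ker, hψker, Subgroup.index_eq_card, Nat.card_congr e'.toEquiv, hcardP]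
  -- the frame
  have hmemJ : ∀ {x : ↥(CC z)}, x ∈ J₀ → (x : G) ∈ J₀.map (CC z).subtype := fun hx => ⟨_, hx, rfl⟩
  have hback : ∀ {x : G} (hx : x ∈ CC z), x ∈ J₀.map (CC z).subtype → (⟨x, hx⟩ : ↥(CC z)) ∈ J₀ := fun hx h => by
    obtain ⟨y, hy, rfl⟩ := h
    exact hy
  obtain ⟨hVJ, hEJ, hVEc, hVEb, hsup⟩ := hVE
  haveI : (V.subgroupOf J₀).Normal := ⟨fun v hv g => by
    obtain ⟨v', hv', e₁, he, hg⟩ : ∃ v' ∈ V, ∃ e₁ ∈ E, v' * e₁ = (g : ↥(CC z)) := by
      have : V ⊔ E ≤ (Subgroup.closure {x | ∃ v' ∈ V, ∃ e₁ ∈ E, v' * e₁ = x}) :=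
        sup_le (fun a ha => Subgroup.subset_closure ⟨a, ha, 1, one_mem _, mul_one a⟩)
          (fun a ha => Subgroup.subset_closure ⟨1, one_mem _, a, ha, one_mul a⟩)
      refine Subgroup.closure_induction (fun x hx => hx) ⟨1, one_mem _, 1, one_mem _, one_mul 1⟩ ?_ ?_
        (this (hsup.ge g.2))
      · rintro _ _ _ _ ⟨a, ha, b, hb, rfl⟩ ⟨a', ha', b', hb', rfl⟩
        refine ⟨a * a', mul_mem ha ha', b * b', mul_mem hb hb', ?_⟩
        rw [show a * b * (a' * b') = a * (b * a') * b' by group, ← hVEc a' ha' b hb]; group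
      · rintro _ _ ⟨a, ha, b, hb, rfl⟩
        refine ⟨a⁻¹, inv_mem ha, b⁻¹, inv_mem hb, ?_⟩
        rw [mul_inv_rev]
        exact hVEc _ (inv_mem ha) _ (inv_mem hb)
    rw [Subgroup.mem_subgroupOf] at hv ⊢
    push_cast
    rw [← hg, show v' * e₁ * v * (v' * e₁)⁻¹ = v' * (e₁ * v * e₁⁻¹) * v'⁻¹ by group,
      ← hVEc _ hv e₁ he, mul_inv_cancel_right]
    exact mul_mem (mul_mem hv' hv) (inv_mem hv')⟩
  have hsplit : ∀ x ∈ J₀, ∃ v ∈ V, ∃ e₁ ∈ E, x = v * e₁ := fun x hx => by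
    have h : (⟨x, hx⟩ : ↥J₀) ∈ V.subgroupOf J₀ ⊔ E.subgroupOf J₀ := by
      rw [← Subgroup.subgroupOf_sup hVJ hEJ, hsup, Subgroup.subgroupOf_self]; exact Subgroup.mem_top _
    obtain ⟨v, hv, e₁, he, k⟩ := Subgroup.mem_sup_of_normal_left.1 h
    exact ⟨v, hv, e₁, he, (congrArg Subtype.val k).symm⟩
  have P : Pre z (c : G) (J₀.map (CC z).subtype) (E.map (CC z).subtype) (V.map (CC z).subtype) φ
      (Inn (PSp 2 F)) :=
    { zz := by rw [← pow_two, ← hz, pow_orderOf_eq_one]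
      z_ne := fun k => by rw [k, orderOf_one] at hz; norm_num at hz
      JC := Subgroup.map_subtype_le _
      zJ := ⟨zc, hzJ, hzc⟩
      norm := by
        rintro h hh _ ⟨x, hx, rfl⟩
        exact hmemJ (hJn.conj_mem x hx ⟨h, hh⟩)
      cH := c.2
      c_three := congrArg Subtype.val hc3
      EJ := Subgroup.map_mono hEJ
      VJ := Subgroup.map_mono hVJ
      card_V := by rw [Subgroup.card_map_of_injective (Subgroup.subtype_injective _), hV]
      V_sq := by
        rintro _ ⟨v, hv, rfl⟩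
        rw [← map_mul, ← pow_two, hV2 v hv, map_one]
      VE := by
        rintro _ ⟨v, hv, rfl⟩ _ ⟨e₁, he, rfl⟩
        exact congrArg Subtype.val (hVEc v hv e₁ he)
      VE_bot := by
        rintro _ ⟨v, hv, rfl⟩ ⟨e₁, he, k⟩
        obtain rfl : e₁ = v := Subtype.ext k
        have : e₁ ∈ V ⊓ E := ⟨hv, he⟩
        rw [hVEb, Subgroup.mem_bot] at this
        rw [this, map_one]
      split := by
        rintro _ ⟨x, hx, rfl⟩
        obtain ⟨v, hv, e₁, he, rfl⟩ := hsplit x hx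
        exact ⟨_, ⟨v, hv, rfl⟩, _, ⟨e₁, he, rfl⟩, rfl⟩
      extra := Grp.ExtraCentSimple.isExtraspecial_equiv
        (Subgroup.equivMapOfInjective E (CC z).subtype (Subgroup.subtype_injective _)) hE
      card_E := by rw [Subgroup.card_map_of_injective (Subgroup.subtype_injective _), hEc]; norm_num
      self := fun a ha h => hmemJ (x := ⟨a, ha⟩) (hCJ (Subgroup.mem_centralizer_iff.2 fun y hy =>
        Subtype.ext (h y (hmemJ hy)).symm))
      c_fix := by
        rintro _ ⟨x, hx, rfl⟩ hcx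
        rcases hLJ x hx (Subtype.ext hcx) with k | k <;> rw [k]
        exacts [Or.inl rfl, Or.inr hzc]
      c_mod := fun h hh => (hmod ⟨h, hh⟩).imp hmemJ hmemJ
      surj := e.surjective.comp (QuotientGroup.mk'_surjective _)
      ker := fun h => by
        rw [hφ1]
        refine ⟨fun hm => ?_, fun hm => ?_⟩
        · exact (mem_sup_three hc hm).imp hmemJ (Or.imp hmemJ hmemJ)
        · have hcM : c ∈ M := Subgroup.mem_sup_right (Subgroup.mem_zpowers c)
          rcases hm with k | k | k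
          · exact Subgroup.mem_sup_left (hback h.2 k)
          · have := mul_mem (Subgroup.mem_sup_left (hback (mul_mem h.2 c.2) k) : (⟨(h : G) * c, _⟩ : ↥(CC z)) ∈ M)
              (inv_mem hcM)
            convert this using 1
            exact Subtype.ext (mul_inv_cancel_right (h : G) c).symm
          · have := mul_mem (Subgroup.mem_sup_left (hback (mul_mem h.2 (mul_mem c.2 c.2)) k) :
              (⟨(h : G) * (c * c), _⟩ : ↥(CC z)) ∈ M) (inv_mem (mul_mem hcM hcM))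
            convert this using 1
            exact Subtype.ext (mul_inv_cancel_right (h : G) ((c : G) * c)).symm
      index := hidx
      faith := hfaith
      lift := fun a ha => by
        obtain ⟨l, rfl⟩ := (hψeq ▸ ha : a ∈ ψ.range)
        exact ⟨((l : ↥(CC z)) : G), (l : ↥(CC z)).2,
          congrArg Subtype.val (Subgroup.mem_centralizer_singleton_iff.1 l.2), rfl⟩
      down := fun l hl hlc =>
        hψle ⟨⟨⟨l, hl⟩, Subgroup.mem_centralizer_singleton_iff.2 (Subtype.ext hlc)⟩, rfl⟩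
      frat := fun h hh hm => by
        obtain ⟨j, hj, k⟩ := hfrat ⟨h, hh⟩ (hback _ hm)
        exact ⟨j, hmemJ hj, congrArg Subtype.val k⟩ }
  exact P.exists_top eN

end Cfsg.Agent.Fus.Fi23Two
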