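import Cfsg.Agent.Lib.Fus.Fi23Two.Bar

/-!
Centralisers of shape `(2² × 2¹⁺⁸)(3 × U₄(2))2`: what centralises the centraliser in `J` of an involution, read
off from the quotients by the involutions of the four-group.
-/

set_option autoImplicit false
set_option linter.unusedSectionVars false

namespace Cfsg.Agent.Fus.Fi23Two

open Cfsg.Agent.Fus.U62Rec (Q4 CC)
open Cfsg.Agent.Fus.U62Red (Kind el wd mn wT wP OM omp fixL exists_word el_append el_eq_iff el_eq_one_iff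
  involution_class)
open Cfsg.Agent.Invol.ExtraEight (app idm)

variable {G : Type*} [Group G]

namespace Pt

variable {T : Top G}

/-- The point of an involution of the four-group. -/
def ofW {w : G} (hw : w ∈ T.W) (w1 : w ≠ 1) : Pt T where
  v := w
  w := w
  d := T.c * w * T.c⁻¹
  hw := hw
  w1 := w1
  hd := T.W_norm _ T.cH w hw
  d1 := fun e => w1 (conj_eq_one_iff.1 e)
  dw := (T.c_moves hw w1).1
  hv := Or.inl rfl

/-- The point of `d`. -/
def other (p : Pt T) : Pt T where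
  v := p.d
  w := p.d
  d := p.w
  hw := p.hd
  w1 := p.d1
  hd := p.hw
  d1 := p.w1
  dw := p.dw.symm
  hv := Or.inl rfl

end Pt

namespace Top

variable {T : Top G}

theorem exists_W (T : Top G) : ∃ w ∈ T.W, w ≠ 1 := by
  obtain ⟨w, hw, h1, -⟩ := T.exists_fixed (s := 1) (one_mem _) (by rw [one_mul]; exact one_mem _)
  exact ⟨w, hw, h1⟩

theorem sq_N {s : G} (h : s * s = 1) : s * s ∈ T.N := by rw [h]; exact one_mem _

namespace Chart

variable (C : T.Chart)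
include C

theorem cv_one : C.cv 1 = 0 := (C.zero_iff 1 (one_mem _)).2 T.inZ_one

theorem cv_inZ {a : G} (ha : T.InZ a) : C.cv a = 0 := (C.zero_iff a (T.inZ_mem ha)).2 ha

theorem cv_inv {x : G} (hx : x ∈ T.J) : C.cv x⁻¹ = C.cv x := by
  have h := C.cv_mul x⁻¹ (inv_mem hx) x hx
  rw [inv_mul_cancel, C.cv_one] at h
  exact Nat.xor_eq_zero_iff.1 h.symm

theorem cv_mul_inZ {x a : G} (hx : x ∈ T.J) (ha : T.InZ a) : C.cv (x * a) = C.cv x := by
  rw [C.cv_mul x hx a (T.inZ_mem ha), C.cv_inZ ha, Nat.xor_zero]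

theorem cv_eq_iff {x y : G} (hx : x ∈ T.J) (hy : y ∈ T.J) : C.cv x = C.cv y ↔ T.InZ (x * y⁻¹) := by
  rw [← C.zero_iff _ (mul_mem hx (inv_mem hy)), C.cv_mul x hx _ (inv_mem hy), C.cv_inv hy, Nat.xor_eq_zero_iff]

theorem cv_conj_J {j x : G} (hj : j ∈ T.J) (hx : x ∈ T.J) : C.cv (j * x * j⁻¹) = C.cv x := by
  rcases T.comm_eq hj hx with e | e <;> rw [e]
  exact C.cv_mul_inZ hx T.inZ_z

theorem bar_cv [Finite G] (p : Pt T) {x : G} (hx : x ∈ T.J) :
    (p.chart C).cv (p.bar x (p.J_v hx)) = C.cv x := p.cv_out C hx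

theorem bar_π [Finite G] (p : Pt T) {x : G} (hx : x ∈ T.N) (h : p.bar x (p.N_v hx) ∈ (p.base C).N) :
    (p.base C).π ⟨p.bar x (p.N_v hx), h⟩ = T.π ⟨x, hx⟩ := by
  show T.π _ = _
  rw [← inv_mul_eq_one, ← map_inv, ← map_mul, T.ker]
  rcases p.rep_bar (p.N_v hx) with f | f <;> push_cast <;> rw [f]
  · simp
  · rw [mul_inv_rev, p.v_inv, mul_assoc, inv_mul_cancel, mul_one]; exact p.v_J

theorem bar_act [Finite G] (p : Pt T) {h x : G} (hh : h ∈ CC T.z) (hv : h ∈ CC p.v) (hx : x ∈ T.J) :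
    app ((p.chart C).act (p.bar h hv)) (C.cv x) = C.cv (h * x * h⁻¹) := by
  rw [← bar_cv C p hx, (p.chart C).act_spec ((p.mem_CC_zb C hv).2 hh) ((p.mem_img p.v_J _).2 hx), p.mk_inv,
    p.mk_mul, p.mk_mul]
  exact bar_cv C p (T.norm h hh x hx)

/-- Commuting with an element of `N` modulo the centre fixes the coordinates. -/
theorem fix_of_comm {x y : G} (hx : x ∈ T.N) {wt : List ℕ} (hπ : T.π ⟨x, hx⟩ = el wt) (hy : y ∈ T.J)
    (h : T.InZ (x * y * x⁻¹ * y⁻¹)) : C.cv y ∈ fixL .nat wt := by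
  refine Fi22Two.mem_fixL.2 ⟨C.lt y, ?_⟩
  rw [← C.conj wt ⟨x, hx⟩ hπ y hy]
  exact (C.cv_eq_iff (T.norm x (T.NC hx) y hy) hy).2 h

/-- What lies over a fixed vector commutes with an involution up to `z`. -/
theorem inv_comm [Finite G] {x : G} (hx : x ∈ T.N) (hx2 : x * x = 1) {wt : List ℕ} (hwt : wt ∈ Fi22Two.wts)
    (hπ : T.π ⟨x, hx⟩ = el wt) {y : G} (hy : y ∈ T.J) (hf : C.cv y ∈ fixL .nat wt) :
    y * x * y⁻¹ = x ∨ y * x * y⁻¹ = x * T.z := by
  obtain ⟨w, hw, hw1⟩ := T.exists_W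
  have key : ∀ p : Pt T, ∃ a ∈ [1, p.v], ∃ b ∈ [1, T.z], y * x * y⁻¹ = x * b * a := by
    intro p
    have hxb : p.bar x (p.N_v hx) ∈ (p.base C).N := (p.mem_img (T.JN p.v_J) _).2 hx
    have := (p.chart C).inv_comm hxb (by rw [p.mk_mul, p.mk_eq_one]; exact Or.inl hx2) hwt
      (by rw [bar_π C p hx]; exact hπ) ((p.mem_img p.v_J (p.J_v hy)).2 hy) (by rw [bar_cv C p hy]; exact hf)
    rw [p.mk_inv, p.mk_mul, p.mk_mul] at this
    rcases this with e | e
    · rcases (p.mk_eq _ _).1 e.symm with f | f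
      · exact ⟨1, by simp, 1, by simp, by rw [f, mul_one, mul_one]⟩
      · exact ⟨p.v, by simp, 1, by simp, by rw [f, mul_one]⟩
    · change _ = p.bar x (p.N_v hx) * p.bar T.z (p.J_v T.zJ) at e
      rw [p.mk_mul] at e
      rcases (p.mk_eq _ _).1 e.symm with f | f
      · exact ⟨1, by simp, T.z, by simp, by rw [f, mul_one]⟩
      · exact ⟨p.v, by simp, T.z, by simp, by rw [f]⟩
  set p := Pt.ofW (T := T) hw hw1
  obtain ⟨a, ha, b, hb, e⟩ := key p
  obtain ⟨a', ha', b', hb', e'⟩ := key p.other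
  have h : b * a = b' * a' := mul_left_cancel (a := x) (by rw [← mul_assoc, ← e, e', mul_assoc])
  simp only [List.mem_cons, List.not_mem_nil, or_false] at ha hb ha' hb'
  rcases ha with ea | ea
  · rcases hb with eb | eb
    · left; rw [e, ea, eb, mul_one, mul_one]
    · right; rw [e, ea, eb, mul_one]
  exfalso
  have hne : p.v ≠ p.other.v := p.dw.symm
  rw [ea] at h
  rcases ha' with ea' | ea' <;> rcases hb with eb | eb <;> rcases hb' with eb' | eb' <;> rw [ea', eb, eb'] at h <;>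
    (try simp only [one_mul, mul_one] at h)
  · exact p.v_ne h
  · exact p.v_z h
  · exact p.vz_ne (by rw [T.inZ_comm T.zN p.v_inZ] at h; exact h)
  · exact p.v_ne (mul_eq_left.1 h)
  · exact hne h
  · exact T.zW (by
      have : T.z = p.v * p.other.v⁻¹ := by rw [h]; group
      rw [this]; exact mul_mem p.hw (inv_mem p.hd))
  · exact T.zW (by
      have : T.z = p.other.v * p.v⁻¹ := by rw [← h]; group
      rw [this]; exact mul_mem p.hd (inv_mem p.hw))
  · exact hne (mul_left_cancel h)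

/-- Commuting in a quotient with an involution is commuting. -/
theorem comm_of_bar [Finite G] (p : Pt T) {x : G} (hx : x ∈ T.N) (hx2 : x * x = 1) {wt : List ℕ}
    (hwt : wt ∈ Fi22Two.wts) (hπ : T.π ⟨x, hx⟩ = el wt) {y : G} (hy : y ∈ T.J)
    (h : p.bar y (p.J_v hy) * p.bar x (p.N_v hx) = p.bar x (p.N_v hx) * p.bar y (p.J_v hy)) :
    y * x = x * y := by
  rcases (p.comm_iff_mk _ _).1 h with e | e
  · exact mul_inv_eq_iff_eq_mul.1 e
  refine mul_inv_eq_iff_eq_mul.1 ((C.inv_comm hx hx2 hwt hπ hy (C.fix_of_comm hx hπ hy ?_)).resolve_right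
    fun f => p.v_z (mul_left_cancel (e.symm.trans f)))
  have : x * y * x⁻¹ * y⁻¹ = (y * x * y⁻¹ * x⁻¹)⁻¹ := by group
  rw [this, e, T.inZ_comm hx p.v_inZ, mul_inv_cancel_right, p.v_inv]
  exact p.v_inZ

/-- What centralises the centraliser in `J` of a transvection. -/
theorem natT [Finite G] {x s : G} (hx : x ∈ T.N) (hx2 : x * x = 1) (hπ : T.π ⟨x, hx⟩ = el wT) (hs : s ∈ CC T.z)
    (hs2 : s * s ∈ T.N) (hc : ∀ y ∈ T.J, y * x = x * y → y * s = s * y) : s ∈ T.J ∨ s * x ∈ T.J := by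
  obtain ⟨w, hw, hw1, e⟩ := T.exists_fixed hs hs2
  set p := Pt.ofW (T := T) hw hw1
  have hsv : s ∈ CC p.v := Subgroup.mem_centralizer_singleton_iff.2 e
  have hxb : p.bar x (p.N_v hx) ∈ (p.base C).N := (p.mem_img (T.JN p.v_J) _).2 hx
  have h := (p.chart C).nat_T hxb (by rw [p.mk_mul, p.mk_eq_one]; exact Or.inl hx2) (by rw [bar_π C p hx]; exact hπ)
    ((p.mem_CC_zb C hsv).2 hs) fun q hq hqx => by
      obtain ⟨y, k, rfl, hy⟩ := p.exists_rep_img hq
      rw [p.mk_mul, p.mk_mul, p.mk_eq]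
      exact Or.inl (hc y hy (C.comm_of_bar p hx hx2 (by simp [Fi22Two.wts]) hπ hy hqx)).symm
  rcases h with h | h
  · exact Or.inl ((p.mem_img p.v_J _).1 h)
  · rw [p.mk_mul] at h
    exact Or.inr ((p.mem_img p.v_J _).1 h)

/-- What centralises the centraliser in `J` of an involution of `J` outside the centre. -/
theorem jlemma [Finite G] {x s : G} (hx : x ∈ T.J) (hx2 : x * x = 1) (hxZ : ¬ T.InZ x) (hs : s ∈ CC T.z)
    (hs2 : s * s ∈ T.N) (hc : ∀ y ∈ T.J, y * x = x * y → y * s = s * y) :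
    s ∈ T.J ∧ (T.InZ s ∨ T.InZ (s * x)) := by
  obtain ⟨w, hw, hw1, e⟩ := T.exists_fixed hs hs2
  set p := Pt.ofW (T := T) hw hw1
  have hsv : s ∈ CC p.v := Subgroup.mem_centralizer_singleton_iff.2 e
  obtain ⟨h1, h2⟩ := (p.chart C).jlemma ((p.mem_img p.v_J (p.J_v hx)).2 hx)
    (by rw [p.mk_mul, p.mk_eq_one]; exact Or.inl hx2)
    (fun f => hxZ ((C.zero_iff x hx).1 (by rw [← bar_cv C p hx]; exact (p.chart C).cv_inV f)))
    ((p.mem_CC_zb C hsv).2 hs) fun q hq hqx => by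
      obtain ⟨y, k, rfl, hy⟩ := p.exists_rep_img hq
      rw [p.mk_mul, p.mk_mul, p.mk_eq]
      refine Or.inl (hc y hy (mul_inv_eq_iff_eq_mul.1 ?_)).symm
      rcases (p.comm_iff_mk _ _).1 hqx with f | f
      · exact f
      · rcases T.comm_eq hy hx with g | g
        · exact g
        · exact absurd (mul_left_cancel (f.symm.trans g)) p.v_z
  have hsJ : s ∈ T.J := (p.mem_img p.v_J _).1 h1
  refine ⟨hsJ, ?_⟩
  rw [bar_cv C p hsJ, bar_cv C p hx] at h2
  refine h2.imp (fun f => (C.zero_iff s hsJ).1 f) fun f => (C.zero_iff _ (mul_mem hsJ hx)).1 ?_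
  rw [C.cv_mul s hsJ x hx, f, Nat.xor_self]

/-- What fixes the fixed space of the second class of involutions is inner, in sixteen classes. -/
theorem natP_fix [Finite G] {s : G} (hs : s ∈ CC T.z) (hs2 : s * s ∈ T.N)
    (hfix : ∀ y ∈ T.J, C.cv y ∈ fixL .nat wP → C.cv (s * y * s⁻¹) = C.cv y) :
    ∃ r ∈ Fi22Two.rP, ∃ hN : s ∈ T.N, T.π ⟨s, hN⟩ = el r := by
  obtain ⟨w, hw, hw1, e⟩ := T.exists_fixed hs hs2
  set p := Pt.ofW (T := T) hw hw1
  have hsv : s ∈ CC p.v := Subgroup.mem_centralizer_singleton_iff.2 e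
  obtain ⟨r, hr, hN, hπ⟩ := (p.chart C).nat_P_fix ((p.mem_CC_zb C hsv).2 hs) fun n hn => by
    obtain ⟨y, hy, rfl⟩ := C.surj n (Fi22Two.mem_fixL.1 hn).1
    rw [bar_act C p hs hsv hy, hfix y hy hn]
  have hsN := (p.mem_img (T.JN p.v_J) _).1 hN
  exact ⟨r, hr, hsN, (bar_π C p hsN hN).symm.trans hπ⟩

/-- A lift of a word centralising an involution. -/
theorem exists_lift [Finite G] {a : G} (ha : a ∈ T.N) (ha2 : a * a = 1) {wt : List ℕ} (hwt : wt ∈ Fi22Two.wts)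
    (hπ : T.π ⟨a, ha⟩ = el wt) {w : List ℕ} (hc : wd mn (w ++ wt) = wd mn (wt ++ w))
    (h3 : wd mn (w ++ w ++ w) = idm) (htriv : ∀ n ∈ fixL .nat wt, app (Kind.nat.mat w) n ^^^ n ∈ U62Red.imL .nat wt) :
    ∃ u : ↥T.N, T.π u = el w ∧ (u : G) * a = a * u := by
  obtain ⟨w₀, hw, hw1⟩ := T.exists_W
  set p := Pt.ofW (T := T) hw hw1
  have hab : p.bar a (p.N_v ha) ∈ (p.base C).N := (p.mem_img (T.JN p.v_J) _).2 ha
  obtain ⟨q, -, hq, hqa⟩ := (p.chart C).exists_lift hab (by rw [p.mk_mul, p.mk_eq_one]; exact Or.inl ha2) hwt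
    (by rw [bar_π C p ha]; exact hπ) hc h3 htriv
  have hr := p.rep_N (T.JN p.v_J) q.2
  have hπr : T.π ⟨p.rep q.1, hr⟩ = el (w ++ w) := hq
  have hb := hqa
  rw [← p.bar_rep q.1, p.comm_iff_mk] at hb
  refine ⟨⟨p.rep q.1, hr⟩ * ⟨p.rep q.1, hr⟩, ?_, ?_⟩
  · rw [map_mul, hπr, el_append]
    have he3 : el w * el w * el w = 1 := by rw [← el_append, ← el_append]; exact el_eq_one_iff.2 h3
    calc el w * el w * (el w * el w) = el w * el w * el w * el w := by group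
      _ = el w := by rw [he3, one_mul]
  · push_cast
    refine mul_inv_eq_iff_eq_mul.1 ?_
    set r := p.rep q.1
    rw [show r * r * a * (r * r)⁻¹ = r * (r * a * r⁻¹) * r⁻¹ by group]
    rcases hb with f | f <;> rw [f]
    · exact f
    · rw [← conj_mul, f, mul_inv_eq_iff_eq_mul.2 (T.inZ_comm hr p.v_inZ), mul_assoc, p.vv, mul_one]

/-- An element exchanging two involutions of the four-group is semilinear. -/
theorem semilinear {s w : G} (hs : s ∈ CC T.z) (hw : w ∈ T.W) (hw1 : w ≠ 1) (e : s * w = w * s) (hn : s ∉ T.N)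
    {y : G} (hy : y ∈ T.J) : ∃ y' ∈ T.J, C.cv y' = app OM (C.cv y) ∧
      C.cv (s * y' * s⁻¹) = app OM (app OM (C.cv (s * y * s⁻¹))) := by
  obtain ⟨k, hk0, hk3, hsc⟩ := C.scalar
  have hj := T.inverts hs hw hw1 e hn
  set j := s * T.c * s⁻¹ * T.c
  have back : ∀ x ∈ T.J, C.cv (T.c⁻¹ * x * T.c) = omp (3 - k) (C.cv x) := fun x hx => by
    have hx' : T.c⁻¹ * x * T.c ∈ T.J := by simpa using T.norm _ (inv_mem T.cH) x hx
    have h1 := hsc _ hx'
    rw [show T.c * (T.c⁻¹ * x * T.c) * T.c⁻¹ = x by group] at h1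
    rw [h1, ← U62Red.omp_add, Nat.sub_add_cancel hk3.le, U62Red.omp_three (C.lt _)]
  have key : ∀ x ∈ T.J, C.cv (s * (T.c * x * T.c⁻¹) * s⁻¹) = omp (3 - k) (C.cv (s * x * s⁻¹)) := fun x hx => by
    have hx' := T.norm s hs x hx
    have hx'' : T.c⁻¹ * (s * x * s⁻¹) * T.c ∈ T.J := by simpa using T.norm _ (inv_mem T.cH) _ hx'
    rw [show s * (T.c * x * T.c⁻¹) * s⁻¹ = j * (T.c⁻¹ * (s * x * s⁻¹) * T.c) * j⁻¹ by simp only [j]; group,
      C.cv_conj_J hj hx'', back _ hx']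
  rcases (show k = 1 ∨ k = 2 by omega) with rfl | rfl
  · exact ⟨_, T.norm _ T.cH y hy, by rw [hsc y hy]; rfl, key y hy⟩
  · refine ⟨_, T.norm _ T.cH _ (T.norm _ T.cH y hy), ?_, ?_⟩
    · rw [hsc _ (T.norm _ T.cH y hy), hsc y hy, ← U62Red.omp_add]
      show omp (1 + 3) (C.cv y) = _
      rw [U62Red.omp_add, U62Red.omp_three (C.lt y)]
      rfl
    · rw [key _ (T.norm _ T.cH y hy), key y hy]
      rfl

end Chart

/-- An involution outside `J` is conjugate to a lift of one of the two standard involutions. -/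
theorem exists_class (T : Top G) {a : G} (ha : a ∈ T.N) (h2 : a * a = 1) (hJ : a ∉ T.J) :
    ∃ g : ↥T.N, ∃ wt ∈ Fi22Two.wts, T.π (g * ⟨a, ha⟩ * g⁻¹) = el wt := by
  obtain ⟨q, hq⟩ := involution_class (t := T.π ⟨a, ha⟩)
    (by rw [← map_mul, ← map_one T.π]; exact congrArg _ (Subtype.ext h2)) fun e => hJ ((T.ker _).1 e)
  obtain ⟨g, rfl⟩ := T.surj q
  refine hq.elim (fun h => ⟨g, wT, by simp [Fi22Two.wts], ?_⟩) fun h => ⟨g, wP, by simp [Fi22Two.wts], ?_⟩ <;>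
    (rw [map_mul, map_mul, map_inv, h]; rfl)

end Top

end Cfsg.Agent.Fus.Fi23Two
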