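import Cfsg.Agent.Lib.Fus.Fi23Two.Exclude
import Cfsg.Agent.Lib.Fus.Fi23Two.Fused
import Cfsg.Agent.S1173

/-!
Centralisers of shape `(2² × 2¹⁺⁸)(3 × U₄(2))2`: with centralisers of the four-group involutions normalising it,
the four-group is normal and the quotient is the automorphism group of the simple group.
-/

set_option autoImplicit false
set_option linter.unusedSectionVars false
set_option linter.style.haveILetI false

namespace Cfsg.Agent.Fus.Fi23Two

open Cfsg
open Cfsg.Agent.Fus.U62Rec (Q4 CC)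
open scoped commutatorElement

variable {G : Type*} [Group G]

/-- The facts on the centraliser of an involution of the four-group in the middle case. -/
structure MidW (T : Top G) (w : G) : Prop where
  nm : ∀ g ∈ CC w, T.Nm g
  no_odd : ∀ M : Subgroup G, M ≤ CC w → (∀ g ∈ CC w, ∀ x ∈ M, g * x * g⁻¹ ∈ M) → Odd (Nat.card ↥M) → M = ⊥

variable [Finite G] {T : Top G} (C : T.Chart) (hF : T.Fusion) (hM : ∀ w ∈ T.W, w ≠ 1 → MidW T w)

include hM in
theorem oddCore_bot : oddCore G = ⊥ := by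
  haveI hn : (oddCore G).Normal := Grp.pPrimeCore_isNormal
  set M := oddCore G
  have hinv : ∀ w ∈ T.W, w ≠ 1 → (∀ x ∈ M, x * w = w * x → x = 1) ∧ ∀ x ∈ M, w * x * w⁻¹ = x⁻¹ := by
    intro w hw hw1
    have hbot := (hM w hw hw1).no_odd (M ⊓ CC w) inf_le_right
      (fun g hg x hx => ⟨hn.conj_mem x hx.1 g, (CC w).mul_mem ((CC w).mul_mem hg hx.2) ((CC w).inv_mem hg)⟩)
      (oddCore_odd.of_dvd_nat (Subgroup.card_dvd_of_le inf_le_left))
    have hfpf : ∀ x ∈ M, x * w = w * x → x = 1 := fun x hx e =>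
      Subgroup.mem_bot.1 (hbot ▸ ⟨hx, Subgroup.mem_centralizer_singleton_iff.2 e⟩ : x ∈ (⊥ : Subgroup G))
    refine ⟨hfpf, ?_⟩
    let f : ↥M → ↥M := fun m => m⁻¹ * ⟨w * m * w⁻¹, hn.conj_mem _ m.2 w⟩
    have hf : Function.Injective f := fun m n e => by
      have e' : (m : G)⁻¹ * (w * m * w⁻¹) = (n : G)⁻¹ * (w * n * w⁻¹) := congrArg Subtype.val e
      have h1 : w * ((m : G) * (n : G)⁻¹) * w⁻¹ = (m : G) * (n : G)⁻¹ := by
        calc w * ((m : G) * (n : G)⁻¹) * w⁻¹ = (m : G) * ((m : G)⁻¹ * (w * m * w⁻¹)) * (w * n * w⁻¹)⁻¹ := by group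
          _ = _ := by rw [e']; group
      have := hfpf _ (mul_mem m.2 (inv_mem n.2)) (mul_inv_eq_iff_eq_mul.1 h1).symm
      exact Subtype.ext (mul_inv_eq_one.1 this)
    intro x hx
    obtain ⟨m, hm⟩ := (Finite.injective_iff_surjective.1 hf) ⟨x, hx⟩
    have hxm : x = (m : G)⁻¹ * (w * m * w⁻¹) := (congrArg Subtype.val hm).symm
    rw [hxm, T.W_inv hw]
    calc w * ((m : G)⁻¹ * (w * m * w)) * w = w * (m : G)⁻¹ * w * m * (w * w) := by group
      _ = _ := by
        rw [T.W_sq w hw, mul_one, mul_inv_rev, mul_inv_rev, mul_inv_rev, inv_inv, T.W_inv hw]; group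
  refine (Subgroup.eq_bot_iff_forall _).2 fun x hx => ?_
  obtain ⟨w, hw, hw1⟩ := T.exists_W
  have hu := T.W_norm _ T.cH w hw
  have hu1 : T.c * w * T.c⁻¹ ≠ 1 := fun e => hw1 (conj_eq_one_iff.1 e)
  have hwu : w * (T.c * w * T.c⁻¹) ≠ 1 := fun e => (T.c_moves hw hw1).1 (by
    rw [eq_inv_of_mul_eq_one_right e]; exact T.W_inv hw)
  refine (hinv _ (mul_mem hw hu) hwu).1 x hx (mul_inv_eq_iff_eq_mul.1 ?_).symm
  rw [show w * (T.c * w * T.c⁻¹) * x * (w * (T.c * w * T.c⁻¹))⁻¹ =
    w * (T.c * w * T.c⁻¹ * x * (T.c * w * T.c⁻¹)⁻¹) * w⁻¹ by group, (hinv _ hu hu1).2 x hx, ← conj_inv,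
    (hinv w hw hw1).2 x hx, inv_inv]

include C hF in
/-- A Sylow subgroup of the group inside the centraliser of `z`, containing `J`. -/
theorem exists_sylow_top : ∃ S : Sylow 2 G, (∀ x ∈ (S : Subgroup G), x ∈ CC T.z) ∧ T.J ≤ (S : Subgroup G) := by
  classical
  haveI : Fact (Nat.Prime 2) := ⟨Nat.prime_two⟩
  obtain ⟨S₀, hS₀⟩ := T.J_two.exists_le_sylow
  suffices h : ∃ S : Sylow 2 G, ∀ x ∈ (S : Subgroup G), x ∈ CC T.z by
    obtain ⟨S, hS⟩ := h
    refine ⟨S, hS, ?_⟩
    have hn : (S : Subgroup G) ≤ Subgroup.normalizer (T.J : Set G) := fun x hx => by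
      refine Subgroup.mem_normalizer_iff.2 fun y => ⟨T.norm x (hS x hx) y, fun hy => ?_⟩
      simpa [mul_assoc] using T.norm _ (inv_mem (hS x hx)) _ hy
    have h2 := S.isPGroup'.to_sup_of_normal_right' T.J_two hn
    exact le_of_le_of_eq le_sup_right (S.is_maximal' h2 le_sup_left)
  have hnt : Nontrivial ↥(S₀ : Subgroup G) := ⟨⟨⟨T.z, hS₀ T.zJ⟩, 1, fun e => T.z_ne (congrArg Subtype.val e)⟩⟩
  haveI := hnt
  obtain ⟨⟨⟨ζ, hζS⟩, hζc⟩, hζ1⟩ := @exists_ne _ S₀.isPGroup'.center_nontrivial 1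
  have hcomm : ∀ x ∈ (S₀ : Subgroup G), x * ζ = ζ * x := fun x hx =>
    congrArg Subtype.val (Subgroup.mem_center_iff.1 hζc ⟨x, hx⟩)
  have hζZ : T.InZ ζ := T.cen ζ (T.mem_CC (hcomm T.z (hS₀ T.zJ)).symm) fun y hy => (hcomm y (hS₀ hy)).symm
  have hζne : ζ ≠ 1 := fun e => hζ1 (Subtype.ext (Subtype.ext e))
  obtain ⟨w, hw, e⟩ := T.inZ_cases hζZ
  by_cases hw1 : w = 1
  · subst hw1
    refine ⟨S₀, fun x hx => T.mem_CC ?_⟩
    have hζ : ζ = T.z := e.elim (fun k => absurd k hζne) fun k => k.trans (one_mul _)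
    exact hζ ▸ hcomm x hx
  let p : Pt T := { Pt.ofW (T := T) hw hw1 with v := ζ, hv := e }
  obtain ⟨Sv, hSv⟩ := hF.exists_sylow p
  obtain ⟨S', hS'⟩ := (S₀.isPGroup'.comap_subtype (K := CC p.v)).exists_le_sylow
  obtain ⟨k, hk⟩ := MulAction.exists_smul_eq ↥(CC p.v) S' Sv
  refine ⟨(k : G) • S₀, fun x hx => ?_⟩
  obtain ⟨s, hs, rfl⟩ := hx
  have hsv : s ∈ CC p.v := Subgroup.mem_centralizer_singleton_iff.2 (hcomm s hs)
  have hm : k * ⟨s, hsv⟩ * k⁻¹ ∈ Sv := by rw [← hk]; exact ⟨_, hS' hs, rfl⟩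
  exact (hSv _).2 hm

include C hF hM in
/-- The four-group is strongly closed. -/
theorem closed {g x d : G} (hx : x ∈ T.W) (hd : d ∈ T.W) (hd1 : d ≠ 1)
    (h : g * x * g⁻¹ * d = d * (g * x * g⁻¹)) : g * x * g⁻¹ ∈ T.W := by
  classical
  haveI : Fact (Nat.Prime 2) := ⟨Nat.prime_two⟩
  by_cases hx1 : x = 1
  · simp [hx1]
  set e := g * x * g⁻¹ with hed
  have he2 : e * e = 1 := Top.conj_sq (T.W_sq x hx)
  let p := Top.ptW (T := T) hd hd1
  have hev : e ∈ CC p.v := Subgroup.mem_centralizer_singleton_iff.2 h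
  obtain ⟨Sd, hSd⟩ := hF.exists_sylow p
  have hz2 : IsPGroup 2 ↥(Subgroup.zpowers (⟨e, hev⟩ : ↥(CC p.v))) := IsPGroup.of_card (n := 1) (by
    rw [Nat.card_zpowers, pow_one]
    refine orderOf_eq_prime (Subtype.ext (by push_cast; rw [pow_two, he2])) fun k => hx1 ?_
    exact conj_eq_one_iff.1 (congrArg Subtype.val k))
  obtain ⟨S', hS'⟩ := hz2.exists_le_sylow
  obtain ⟨k, hk⟩ := MulAction.exists_smul_eq ↥(CC p.v) S' Sd
  have hm : k * ⟨e, hev⟩ * k⁻¹ ∈ Sd := by rw [← hk]; exact ⟨_, hS' (Subgroup.mem_zpowers _), rfl⟩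
  have heH : (k : G) * g * x * ((k : G) * g)⁻¹ ∈ CC T.z := by
    have := (hSd _).2 hm
    push_cast at this
    rwa [show (k : G) * g * x * ((k : G) * g)⁻¹ = (k : G) * e * (k : G)⁻¹ by rw [hed]; group]
  obtain ⟨a, ha, haR⟩ := hF.rep (Top.ptW (T := T) hx hx1) (g := (k : G) * g) (R := Subgroup.zpowers T.z)
    (fun r hr => by
      obtain ⟨i, rfl⟩ := hr
      exact ((show Commute ((k : G) * g * x * ((k : G) * g)⁻¹) T.z from T.comm_z heH).zpow_right i).symm.eq)
    (IsPGroup.of_card (n := 1) (by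
      rw [Nat.card_zpowers, pow_one]; exact orderOf_eq_prime (by rw [pow_two, T.zz]) T.z_ne))
  have hnm := hF.nm_of_mem C (T.mem_CC (haR T.z (Subgroup.mem_zpowers _)).symm)
  have he' : (k : G) * g * x * ((k : G) * g)⁻¹ ∈ T.W := Top.conj_v ha ▸ hnm x hx
  have := ((hM d hd hd1).nm _ (inv_mem k.2)) _ he'
  convert this using 1
  rw [hed]; group

include hM in
/-- The centraliser of the four-group has index six. -/
theorem index_centralizer (hW : ∀ g, T.Nm g) : (Subgroup.centralizer (T.W : Set G)).index = 6 := by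
  classical
  obtain ⟨w, hw, hw1⟩ := T.exists_W
  obtain ⟨t, ht, htw, htN⟩ := T.exists_swap hw hw1
  set u := T.c * w * T.c⁻¹
  have hu := T.W_norm _ T.cH w hw
  have hu1 : u ≠ 1 := fun e => hw1 (conj_eq_one_iff.1 e)
  obtain ⟨m1, m2, m3⟩ := T.c_moves hw hw1
  set Z := Subgroup.centralizer (T.W : Set G)
  have hmem : ∀ x, x * w = w * x → x * u = u * x → x ∈ Z := fun x h1 h2 =>
    Subgroup.mem_centralizer_iff.2 fun a ha => by
      rcases T.W_third hw hw1 hu hu1 m1 ha with rfl | rfl | rfl | rfl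
      · simp
      · exact h1.symm
      · exact h2.symm
      · exact ((show Commute x w from h1).mul_right h2).symm.eq
  have htt : t * u * t⁻¹ = w * u := T.swap_other ht htN hw hw1 hu hu1 m1 htw
  let cs : Fin 3 → G := ![1, T.c, T.c * T.c]
  let ts : Fin 2 → G := ![1, t]
  have hts : ∀ j, ts j * w * (ts j)⁻¹ = w := by
    intro j
    fin_cases j
    · simp [ts]
    · exact mul_inv_eq_iff_eq_mul.2 htw
  let f : Fin 3 × Fin 2 → G ⧸ Z := fun ij => QuotientGroup.mk (cs ij.1 * ts ij.2)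
  have hf : Function.Bijective f := by
    refine ⟨fun ⟨i, j⟩ ⟨i', j'⟩ e => ?_, fun q => ?_⟩
    · have hz := QuotientGroup.eq.1 e
      have key : ∀ a ∈ T.W, cs i * ts j * a * (cs i * ts j)⁻¹ = cs i' * ts j' * a * (cs i' * ts j')⁻¹ := fun a ha => by
        have h1 := Subgroup.mem_centralizer_iff.1 hz a ha
        calc cs i * ts j * a * (cs i * ts j)⁻¹
            = cs i * ts j * (a * ((cs i * ts j)⁻¹ * (cs i' * ts j'))) * (cs i' * ts j')⁻¹ := by group
          _ = cs i * ts j * ((cs i * ts j)⁻¹ * (cs i' * ts j') * a) * (cs i' * ts j')⁻¹ := by rw [h1]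
          _ = _ := by group
      have hw' : ∀ i j, cs i * ts j * w * (cs i * ts j)⁻¹ = cs i * w * (cs i)⁻¹ := fun i j => by
        rw [show cs i * ts j * w * (cs i * ts j)⁻¹ = cs i * (ts j * w * (ts j)⁻¹) * (cs i)⁻¹ by group, hts]
      have hi : i = i' := by
        have h := key w hw
        rw [hw', hw'] at h
        fin_cases i <;> fin_cases i' <;> simp [cs] at h m1 m2 m3 ⊢
        all_goals first
          | exact m1 h
          | exact m1 h.symm
          | exact m2 h
          | exact m2 h.symm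
          | exact m3 h
          | exact m3 h.symm
      subst hi
      refine Prod.ext rfl ?_
      have h := key u hu
      have h' : ts j * u * (ts j)⁻¹ = ts j' * u * (ts j')⁻¹ := by
        calc ts j * u * (ts j)⁻¹ = (cs i)⁻¹ * (cs i * ts j * u * (cs i * ts j)⁻¹) * cs i := by group
          _ = (cs i)⁻¹ * (cs i * ts j' * u * (cs i * ts j')⁻¹) * cs i := by rw [h]
          _ = _ := by group
      have hne : w * u ≠ u := fun k => hw1 (mul_eq_right.1 k)
      have h0 : ts 0 * u * (ts 0)⁻¹ = u := by simp [ts]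
      have h1 : ts 1 * u * (ts 1)⁻¹ = w * u := htt
      fin_cases j <;> fin_cases j' <;> first
        | rfl
        | exact absurd ((h1.symm.trans h').trans h0) hne
        | exact absurd ((h1.symm.trans h'.symm).trans h0) hne
    · obtain ⟨x, rfl⟩ := QuotientGroup.mk_surjective q
      obtain ⟨i, hi⟩ : ∃ i, x * w * x⁻¹ = cs i * w * (cs i)⁻¹ := by
        rcases T.W_cases hw hw1 (hW x w hw) with e | e | e | e
        · exact absurd (conj_eq_one_iff.1 e) hw1
        · exact ⟨0, by simpa [cs] using e⟩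
        · exact ⟨1, by simpa [cs] using e⟩
        · exact ⟨2, by simpa [cs] using e⟩
      set y := (cs i)⁻¹ * x with hy
      have hyw : y * w * y⁻¹ = w := by
        calc y * w * y⁻¹ = (cs i)⁻¹ * (x * w * x⁻¹) * cs i := by rw [hy]; group
          _ = w := by rw [hi]; group
      rcases T.W_third hw hw1 hu hu1 m1 (hW y u hu) with e | e | e | e
      · exact absurd (conj_eq_one_iff.1 e) hu1
      · exact absurd (mul_left_cancel (mul_right_cancel (e.trans hyw.symm))) m1
      · refine ⟨(i, 0), QuotientGroup.eq.2 ?_⟩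
        rw [show (cs i * ts 0)⁻¹ * x = y by simp [ts, hy]]
        exact hmem y (mul_inv_eq_iff_eq_mul.1 hyw) (mul_inv_eq_iff_eq_mul.1 e)
      · refine ⟨(i, 1), QuotientGroup.eq.2 ?_⟩
        rw [show (cs i * ts 1)⁻¹ * x = t⁻¹ * y by simp [ts, hy, mul_assoc]]
        refine hmem _ (mul_inv_eq_iff_eq_mul.1 ?_) (mul_inv_eq_iff_eq_mul.1 ?_)
        · calc t⁻¹ * y * w * (t⁻¹ * y)⁻¹ = t⁻¹ * (y * w * y⁻¹) * t := by group
            _ = t⁻¹ * (w * t) := by rw [hyw]; group
            _ = w := by rw [← htw, inv_mul_cancel_left]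
        · calc t⁻¹ * y * u * (t⁻¹ * y)⁻¹ = t⁻¹ * (y * u * y⁻¹) * t := by group
            _ = t⁻¹ * (t * u * t⁻¹) * t := by rw [e, htt]
            _ = u := by group
  rw [Subgroup.index_eq_card, ← Nat.card_eq_of_bijective f hf]
  simp [Nat.card_eq_fintype_card]

include C hF hM in
/-- The four-group is normal with quotient the automorphism group of a simple group of the right order. -/
theorem middle {A : Type*} [Group A] (Q : Quo T A) (hA : ¬ 11 ∣ Nat.card A) {S : Type*} [Group S] (hS : Big S)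
    (haut : Nat.card (MulAut S) = 6 * Nat.card S)
    {Z : Subgroup G} (hZ : Z = Subgroup.centralizer (T.W : Set G)) (ψ : ↥Z →* S) (hψ : Function.Surjective ψ)
    (hker : ∀ x, ψ x = 1 ↔ (x : G) ∈ T.W) :
    ∃ (hW : T.W.Normal), Nonempty ((G ⧸ T.W) ≃* MulAut S) := by
  classical
  haveI := hS.simple
  haveI := hS.finite
  haveI : Fact (Nat.Prime 2) := ⟨Nat.prime_two⟩
  have hmemZ : ∀ {y}, y ∈ Z ↔ ∀ a ∈ T.W, a * y = y * a := fun {y} => hZ ▸ Subgroup.mem_centralizer_iff
  have hJZ : ∀ {y}, y ∈ T.J → y ∈ Z := fun hy => hmemZ.2 fun a ha => (T.N_comm (T.JN hy) ha).symm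
  have hWc : ∀ x : ↥Z, (x : G) ∈ T.W → x ∈ Subgroup.center ↥Z := fun x hx =>
    Subgroup.mem_center_iff.2 fun y => Subtype.ext (hmemZ.1 y.2 _ hx).symm
  -- the derived subgroup is perfect and covers
  set D := commutator ↥Z with hD
  have hScomm : commutator S = ⊤ := by
    refine (IsSimpleGroup.eq_bot_or_eq_top_of_normal _ inferInstance).resolve_left fun h0 => ?_
    obtain ⟨s, hs⟩ := hS.not_exp_two
    haveI : IsMulCommutative S := ⟨⟨fun a b => commutatorElement_eq_one_iff_mul_comm.1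
      (Subgroup.mem_bot.1 (h0 ▸ Subgroup.commutator_mem_commutator (Subgroup.mem_top a) (Subgroup.mem_top b)))⟩⟩
    letI : CommGroup S := { (inferInstance : Group S) with
      mul_comm := fun a b => commutatorElement_eq_one_iff_mul_comm.1
        (Subgroup.mem_bot.1 (h0 ▸ Subgroup.commutator_mem_commutator (Subgroup.mem_top a) (Subgroup.mem_top b))) }
    have hp := IsSimpleGroup.prime_card (α := S)
    have := (Nat.prime_dvd_prime_iff_eq (by norm_num) hp).1 hS.eleven
    have h4 := hS.four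
    rw [← this] at h4
    norm_num at h4
  have hcover : ∀ x : ↥Z, ∃ y ∈ D, ∃ c ∈ Subgroup.center ↥Z, x = y * c := by
    intro x
    have : ψ x ∈ D.map ψ := by
      rw [hD, commutator_def, Subgroup.map_commutator, Subgroup.map_top_of_surjective _ hψ, ← commutator_def,
        hScomm]
      exact Subgroup.mem_top _
    obtain ⟨y, hy, e⟩ := this
    refine ⟨y, hy, y⁻¹ * x, hWc _ ((hker _).1 ?_), by group⟩
    rw [map_mul, map_inv, e, inv_mul_cancel]
  have hperf : D ≤ ⁅D, D⁆ := by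
    rw [hD, commutator_def, Subgroup.commutator_le]
    intro a _ b _
    obtain ⟨y, hy, c, hc, rfl⟩ := hcover a
    obtain ⟨y', hy', c', hc', rfl⟩ := hcover b
    have e : ⁅y * c, y' * c'⁆ = ⁅y, y'⁆ := by
      simp only [commutatorElement_def]
      calc y * c * (y' * c') * (y * c)⁻¹ * (y' * c')⁻¹
          = y * (c * y') * c' * c⁻¹ * y⁻¹ * c'⁻¹ * y'⁻¹ := by group
        _ = y * y' * (c * (c' * c⁻¹)) * (y⁻¹ * c'⁻¹) * y'⁻¹ := by
          rw [← Subgroup.mem_center_iff.1 hc y']; group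
        _ = y * y' * (c' * (c * c⁻¹)) * (c'⁻¹ * y⁻¹) * y'⁻¹ := by
          rw [← mul_assoc c c', ← Subgroup.mem_center_iff.1 hc c', Subgroup.mem_center_iff.1 (inv_mem hc') y⁻¹]
          group
        _ = _ := by group
    rw [e]
    exact Subgroup.commutator_mem_commutator hy hy'
  have hinf : (⨅ n : ℕ, derivedSeries ↥Z n) = D := by
    refine le_antisymm ((iInf_le _ 1).trans (le_of_eq (derivedSeries_one _))) (le_iInf fun n => ?_)
    induction n with
    | zero => exact le_top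
    | succ n ih => exact hperf.trans (Subgroup.commutator_mono ih ih)
  obtain ⟨Sy, hSy, hJS⟩ := exists_sylow_top C hF
  have hclosed : IsStronglyClosed T.W (Sy : Subgroup G) := by
    refine ⟨fun w hw => hJS (T.WJ hw), fun x hx g hg => ?_⟩
    obtain ⟨d, hd, hd1, hfix⟩ := T.two_fixed hSy Sy.isPGroup'
    exact closed C hF hM hx hd hd1 (hfix _ hg)
  have hPn := S1173.result (oddCore_bot hM) Sy T.W hclosed
  rw [← hZ, hinf] at hPn
  set P := D.map Z.subtype
  have hzP : T.z ∈ P := by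
    obtain ⟨x, hx, y, hy, e⟩ := Pt.exists_noncomm C
    exact ⟨⁅(⟨x, hJZ hx⟩ : ↥Z), ⟨y, hJZ hy⟩⁆,
      Subgroup.commutator_mem_commutator (Subgroup.mem_top _) (Subgroup.mem_top _), by rw [← e]; rfl⟩
  -- the centraliser of the perfect core is the four-group
  set Cp := Subgroup.centralizer (P : Set G) with hCp
  have hCpn : Cp.Normal := Subgroup.normal_centralizer
  have hcen : ∀ {x : ↥Z}, x ∈ Subgroup.center ↥Z → ∀ {c : G}, c ∈ Cp → c ∈ Z → c * x = x * c := fun hx c _ hc =>
    congrArg Subtype.val (Subgroup.mem_center_iff.1 hx ⟨c, hc⟩)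
  have hCW : T.W = Cp := by
    refine le_antisymm (fun w hw => Subgroup.mem_centralizer_iff.2 ?_) fun k hk => ?_
    · rintro _ ⟨x, -, rfl⟩
      exact (hmemZ.1 x.2 w hw).symm
    have hkH : k ∈ CC T.z := T.mem_CC (Subgroup.mem_centralizer_iff.1 hk _ hzP).symm
    have hkc : ∀ {y : ↥Z}, y ∈ D → (k : G) * y = y * k := fun hy =>
      (Subgroup.mem_centralizer_iff.1 hk _ ⟨_, hy, rfl⟩).symm
    have hsm : T.Small k := ⟨hkH, fun y hy => by
      obtain ⟨a, ha, c, hc, e⟩ := hcover ⟨y, hJZ hy⟩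
      have hca : ((c : ↥Z) : G) ∈ T.J := by
        have : ((a : ↥Z) : G)⁻¹ * y = c := by
          rw [show y = ((a : ↥Z) : G) * c from congrArg Subtype.val e]; group
        exact T.inZ_mem (show T.InZ (c : G) from by
          refine T.cen _ ?_ fun j hj => ?_
          · exact T.mem_CC (congrArg Subtype.val (Subgroup.mem_center_iff.1 hc ⟨T.z, hJZ T.zJ⟩)).symm
          · exact (congrArg Subtype.val (Subgroup.mem_center_iff.1 hc ⟨j, hJZ hj⟩)).symm)
      have hcZ : T.InZ (c : G) := T.cen _ (T.JC hca) fun j hj =>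
        (congrArg Subtype.val (Subgroup.mem_center_iff.1 hc ⟨j, hJZ hj⟩)).symm
      have hy' : y = (a : G) * c := congrArg Subtype.val e
      have hkey : k * y * k⁻¹ * y⁻¹ = (a : G) * (k * c * k⁻¹ * (c : G)⁻¹) * (a : G)⁻¹ := by
        rw [hy']
        calc k * ((a : G) * c) * k⁻¹ * ((a : G) * c)⁻¹ = (k * a) * c * k⁻¹ * (c : G)⁻¹ * (a : G)⁻¹ := by group
          _ = _ := by rw [hkc ha]; group
      rw [hkey]
      have hI : T.InZ (k * c * k⁻¹ * (c : G)⁻¹) := T.inZ_mul (T.inZ_conj hkH hcZ) (by rw [T.inZ_inv hcZ]; exact hcZ)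
      have haz : ((a : ↥Z) : G) ∈ CC T.z := by
        rw [show ((a : ↥Z) : G) = y * (c : G)⁻¹ by rw [hy']; group]
        exact mul_mem (T.JC hy) (inv_mem (T.JC hca))
      exact T.inZ_conj haz hI⟩
    have hJsm : ∀ {j}, j ∈ T.J → T.Small j := fun hj => ⟨T.JC hj, fun y hy => by
      rcases T.comm_eq hj hy with e | e <;> rw [e]
      · rw [mul_inv_cancel]; exact T.inZ_one
      · rw [T.z_conj (T.JC hy)]; exact T.inZ_z⟩
    have hnc : ¬ T.Small T.c := fun hc => by
      obtain ⟨x, hx, hx1⟩ := C.surj 1 (by norm_num)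
      have := T.c_fpf_mod hx (by
        have h := T.inZ_conj (inv_mem (T.JC hx)) (hc.2 x hx)
        convert h using 1
        group)
      rw [(C.zero_iff x hx).2 this] at hx1
      exact absurd hx1 (by norm_num)
    have hkJ : k ∈ T.J := by
      rcases T.outer k hkH fun u hu => T.trivial_mem_J (mul_mem (T.N_norm hkH hu) (inv_mem hu))
        (by
          have := hsm.mul (hsm.inv.conj (T.NC hu))
          convert this.2 using 4
          group) with h | h | h
      · exact h
      · refine absurd ?_ hnc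
        have := hsm.inv.mul (hJsm h)
        rwa [inv_mul_cancel_left] at this
      · refine absurd ?_ hnc
        have := (hsm.inv.mul (hJsm h)).inv
        rwa [inv_mul_cancel_left, ← T.c_inv, inv_inv] at this
    have hkZ : T.InZ k := T.cen k hkH fun y hy => by
      obtain ⟨a, ha, c, hc, e⟩ := hcover ⟨y, hJZ hy⟩
      have hy' : y = (a : G) * c := congrArg Subtype.val e
      rw [hy']
      exact ((show Commute k (a : G) from hkc ha).mul_right (hcen hc hk (hJZ hkJ))).eq
    rcases hkZ with h | h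
    · exact h
    exfalso
    have hzCp : T.z ∈ Cp := by
      have : k⁻¹ * (k * T.z) ∈ Cp := mul_mem (inv_mem hk) (Subgroup.mem_centralizer_iff.2 (by
        rintro _ ⟨x, -, rfl⟩
        exact (hmemZ.1 x.2 _ h).symm))
      rwa [inv_mul_cancel_left] at this
    have hZH : ∀ x : ↥Z, (x : G) ∈ CC T.z := fun x => T.mem_CC (by
      obtain ⟨a, ha, c, hc, rfl⟩ := hcover x
      have h1 : (a : G) * T.z = T.z * a := Subgroup.mem_centralizer_iff.1 hzCp _ ⟨a, ha, rfl⟩
      have h2 : T.z * (c : G) = (c : G) * T.z := hcen hc hzCp (hJZ T.zJ)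
      exact ((show Commute (a : G) T.z from h1).mul_left h2.symm).eq)
    haveI : Fact (Nat.Prime 11) := ⟨by norm_num⟩
    obtain ⟨x, hx⟩ := exists_prime_orderOf_dvd_card' 11 (hS.eleven.trans (Subgroup.card_dvd_of_surjective ψ hψ))
    have : (x : G) = 1 := Pt.eleven_H Q hA (hZH x) (by rw [← Subgroup.coe_pow, ← hx, pow_orderOf_eq_one]; rfl)
    rw [show x = 1 from Subtype.ext this, orderOf_one] at hx
    norm_num at hx
  haveI hWn : T.W.Normal := hCW ▸ hCpn
  refine ⟨hWn, ?_⟩
  haveI hZn : Z.Normal := hZ ▸ Subgroup.normal_centralizer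
  -- the action on the simple quotient
  let sec := Function.surjInv hψ
  have hsec : ∀ s, ψ (sec s) = s := Function.surjInv_eq hψ
  let cj : G → ↥Z → ↥Z := fun g x => ⟨g * x * g⁻¹, hZn.conj_mem _ x.2 g⟩
  have hcong : ∀ g {x y : ↥Z}, ψ x = ψ y → ψ (cj g x) = ψ (cj g y) := fun g x y e => by
    rw [← inv_mul_eq_one, ← map_inv, ← map_mul, hker] at e ⊢
    have := hWn.conj_mem _ e g
    convert this using 1
    simp only [cj, Subgroup.coe_mul, Subgroup.coe_inv]
    group
  let α : G → MulAut S := fun g =>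
    { toFun := fun s => ψ (cj g (sec s))
      invFun := fun s => ψ (cj g⁻¹ (sec s))
      left_inv := fun s => by
        show ψ (cj g⁻¹ (sec (ψ (cj g (sec s))))) = s
        rw [hcong g⁻¹ (x := sec (ψ (cj g (sec s)))) (y := cj g (sec s)) (hsec _)]
        conv_rhs => rw [← hsec s]
        congr 1; ext; simp only [cj]; group
      right_inv := fun s => by
        show ψ (cj g (sec (ψ (cj g⁻¹ (sec s))))) = s
        rw [hcong g (x := sec (ψ (cj g⁻¹ (sec s)))) (y := cj g⁻¹ (sec s)) (hsec _)]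
        conv_rhs => rw [← hsec s]
        congr 1; ext; simp only [cj]; group
      map_mul' := fun a b => by
        rw [← map_mul, hcong g (x := sec (a * b)) (y := sec a * sec b) (by rw [hsec, map_mul, hsec, hsec])]
        congr 1; ext; simp only [cj, Subgroup.coe_mul]; group }
  have hαψ : ∀ g x, α g (ψ x) = ψ (cj g x) := fun g x => hcong g (hsec _)
  let αh : G →* MulAut S := MonoidHom.mk' α fun g h => by
    ext s
    obtain ⟨x, rfl⟩ := hψ s
    rw [MulAut.mul_apply, hαψ, hαψ, hαψ]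
    congr 1; ext; simp only [cj]; group
  have hαker : αh.ker = T.W := by
    ext g
    rw [MonoidHom.mem_ker]
    constructor
    · intro hg
      have hfix : ∀ x : ↥Z, g * (x : G) * g⁻¹ * (x : G)⁻¹ ∈ T.W := fun x => by
        have h0 : ψ (cj g x) = ψ x := by rw [← hαψ]; exact congrArg (fun φ : MulAut S => φ (ψ x)) hg
        have := (hker (cj g x * x⁻¹)).1 (by rw [map_mul, map_inv, h0, mul_inv_cancel])
        exact this
      have hle : D ≤ (CC g).comap Z.subtype := by
        rw [hD, commutator_def, Subgroup.commutator_le]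
        intro a _ b _
        refine Subgroup.mem_centralizer_singleton_iff.2 (mul_inv_eq_iff_eq_mul.1 ?_).symm
        set ea : ↥Z := cj g a * a⁻¹
        set eb : ↥Z := cj g b * b⁻¹
        have h1 : cj g ⁅a, b⁆ = ⁅ea * a, eb * b⁆ := by
          ext; simp only [ea, eb, cj, inv_mul_cancel_right, commutatorElement_def, Subgroup.coe_mul,
            Subgroup.coe_inv]
          group
        have hca := hWc ea (hfix a)
        have hcb := hWc eb (hfix b)
        have h2 : ⁅ea * a, eb * b⁆ = ⁅a, b⁆ := by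
          simp only [commutatorElement_def]
          calc ea * a * (eb * b) * (ea * a)⁻¹ * (eb * b)⁻¹
              = ea * (a * eb) * (b * a⁻¹ * ea⁻¹) * (b⁻¹ * eb⁻¹) := by group
            _ = ea * (eb * a) * (ea⁻¹ * (b * a⁻¹)) * (eb⁻¹ * b⁻¹) := by
              rw [Subgroup.mem_center_iff.1 hcb a, Subgroup.mem_center_iff.1 (inv_mem hca) (b * a⁻¹),
                Subgroup.mem_center_iff.1 (inv_mem hcb) b⁻¹]
            _ = ea * (eb * a * ea⁻¹) * (b * a⁻¹ * eb⁻¹) * b⁻¹ := by group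
            _ = ea * (ea⁻¹ * (eb * a)) * (eb⁻¹ * (b * a⁻¹)) * b⁻¹ := by
              rw [Subgroup.mem_center_iff.1 (inv_mem hca) (eb * a), Subgroup.mem_center_iff.1 (inv_mem hcb) (b * a⁻¹)]
            _ = eb * (a * eb⁻¹) * (b * a⁻¹) * b⁻¹ := by group
            _ = _ := by rw [Subgroup.mem_center_iff.1 (inv_mem hcb) a]; group
        exact congrArg Subtype.val (h1.trans h2)
      rw [hCW]
      refine Subgroup.mem_centralizer_iff.2 ?_
      rintro _ ⟨x, hx, rfl⟩
      exact Subgroup.mem_centralizer_singleton_iff.1 (hle hx)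
    · intro hg
      ext s
      obtain ⟨x, rfl⟩ := hψ s
      show α g (ψ x) = ψ x
      rw [hαψ]
      congr 1; ext
      show g * (x : G) * g⁻¹ = x
      exact mul_inv_eq_iff_eq_mul.2 (hmemZ.1 x.2 g hg)
  have hZcard : Nat.card ↥Z = Nat.card S * 4 := by
    rw [Subgroup.card_eq_card_quotient_mul_card_subgroup ψ.ker,
      Nat.card_congr (QuotientGroup.quotientKerEquivOfSurjective ψ hψ).toEquiv]
    congr 1
    rw [← T.card_W]
    exact Nat.card_congr
      { toFun := fun a => ⟨_, (hker _).1 a.2⟩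
        invFun := fun w => ⟨⟨w, hJZ (T.WJ w.2)⟩, (hker _).2 w.2⟩
        left_inv := fun _ => rfl
        right_inv := fun _ => rfl }
  have hG : Nat.card G = Nat.card S * 4 * 6 := by
    rw [← Z.card_mul_index, hZcard, hZ, index_centralizer hM fun g x hx => hWn.conj_mem x hx g]
  have hq : Nat.card (G ⧸ T.W) * 4 = Nat.card G := by
    rw [Subgroup.card_eq_card_quotient_mul_card_subgroup T.W, T.card_W]
  haveI : Finite (MulAut S) := Finite.of_injective (fun φ : MulAut S => (φ : S → S)) DFunLike.coe_injective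
  have hbij : Function.Bijective ((QuotientGroup.kerLift αh).comp
      (QuotientGroup.quotientMulEquivOfEq hαker.symm).toMonoidHom) := by
    refine (Nat.bijective_iff_injective_and_card _).2
      ⟨(QuotientGroup.kerLift_injective αh).comp (QuotientGroup.quotientMulEquivOfEq hαker.symm).injective, ?_⟩
    rw [haut]
    omega
  exact ⟨MulEquiv.ofBijective _ hbij⟩

end Cfsg.Agent.Fus.Fi23Two
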