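import Cfsg.Agent.Lib.Fus.Fi23Two.Bar
import Cfsg.Agent.Lib.Grp.Cores
import Cfsg.Agent.Lib.Grp.LargeExtraImage
import Cfsg.Prelude.Def_Spor_Fi22
import Cfsg.Prelude.Def_CaseTheorems
import Cfsg.Prelude.Def_Classical


/-!
Centralisers of shape `(2² × 2¹⁺⁸)(3 × U₄(2))2`: the quotient of the centraliser of a central involution satisfies
the hypotheses of the recognition of `Fi₂₂` by a 2-central involution.
-/

set_option autoImplicit false
set_option linter.unusedSectionVars false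
set_option linter.style.haveILetI false

namespace Cfsg.Agent.Fus.Fi23Two

open Cfsg
open Cfsg.Agent.Fus.U62Rec (Q4 CC)
open scoped commutatorElement

universe u v w

/-- The recognition of `Fi₂₂` by a 2-central involution over given fields. -/
def Rule (F : Type v) [Field F] [Fintype F] (K : Type w) [Field K] [Fintype K] : Prop :=
  ∀ (Y : Type u) [Group Y] [Finite Y] (z : Y), orderOf z = 2 →
    ∀ A E : Subgroup ↥(CC z), IsInternalDirectProduct A E (pCore 2 ↥(CC z)) → Nat.card ↥A = 2 →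
    IsExtraspecial 2 ↥E → Nat.card ↥E = 2 ^ 9 →
    ∀ zc : ↥(CC z), (zc : Y) = z → ⁅pCore 2 ↥(CC z), pCore 2 ↥(CC z)⁆ = Subgroup.zpowers zc →
    Subgroup.centralizer (pCore 2 ↥(CC z) : Set ↥(CC z)) ≤ pCore 2 ↥(CC z) →
    ∀ [(pCore 2 ↥(CC z)).Normal], (↥(CC z) ⧸ pCore 2 ↥(CC z)) ≃* MulAut (PSp 2 F) →
    CC z ⊔ oddCore Y = ⊤ ∨
      (∃ z₁ : Y, orderOf z₁ = 2 ∧ z₁ ∉ Subgroup.zpowers z ∧
        (∃ h₁ : z₁ ∈ CC z, (⟨z₁, h₁⟩ : ↥(CC z)) ∈ pCore 2 ↥(CC z) ∧
          ∀ j ∈ pCore 2 ↥(CC z), j * ⟨z₁, h₁⟩ = ⟨z₁, h₁⟩ * j) ∧ (Subgroup.zpowers z₁).Normal ∧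
        ∃ (G₀ : Subgroup Y) (_ : z₁ ∈ G₀), G₀.index = 2 ∧
          ∃ _ : ((Subgroup.zpowers z₁).subgroupOf G₀).Normal,
            Nonempty ((↥G₀ ⧸ (Subgroup.zpowers z₁).subgroupOf G₀) ≃* PSU 6 K 2)) ∨
      Spor.IsoFi22 Y

variable {G : Type u} [Group G] {F : Type v} [Field F] [Fintype F] {K : Type w} [Field K] [Fintype K]

/-- The map of the centraliser of `z` onto a group with `⟨J, c⟩` in its kernel. -/
structure Quo (T : Top G) (A : Type*) [Group A] where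
  φ : ↥(CC T.z) →* A
  surj : Function.Surjective φ
  ker : ∀ h : ↥(CC T.z), φ h = 1 ↔ (h : G) ∈ T.J ∨ (h : G) * T.c ∈ T.J ∨ (h : G) * (T.c * T.c) ∈ T.J

theorem mem_zpowers_two {M : Type*} [Group M] {a x : M} (ha : a * a = 1) (h : x ∈ Subgroup.zpowers a) :
    x = 1 ∨ x = a := by
  obtain ⟨i, rfl⟩ := h
  have h2 : a ^ (2 : ℤ) = 1 := by rw [zpow_two, ha]
  rcases Int.even_or_odd' i with ⟨k, rfl | rfl⟩
  · left; simp [zpow_mul, h2]
  · right; simp [zpow_add, zpow_mul, h2]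

namespace Pt

variable {T : Top G} (p : Pt T) [Finite G]

/-- The image of `d`. -/
def db : p.X := p.bar p.d (p.J_v (T.WJ p.hd))

/-- The conclusion with a simple quotient of index two. -/
def Mid (S : Type*) [Group S] : Prop :=
  ∃ z₁ : p.X, (z₁ = p.db ∨ z₁ = p.db * p.zb) ∧ z₁ * z₁ = 1 ∧ (∀ x : p.X, x * z₁ = z₁ * x) ∧
    ∃ G₀ : Subgroup p.X, G₀.index = 2 ∧ z₁ ∈ G₀ ∧
      ∃ f : ↥G₀ →* S, Function.Surjective f ∧ ∀ x : ↥G₀, f x = 1 ↔ (x : p.X) = 1 ∨ (x : p.X) = z₁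

/-- The possibilities for the quotient. -/
theorem trichotomy (C : T.Chart) (Q : Quo T (MulAut (PSp 2 F))) (hR : Rule.{u} F K) :
    CC p.zb ⊔ oddCore p.X = ⊤ ∨ p.Mid (PSU 6 K 2) ∨ Spor.IsoFi22 p.X := by
  classical
  set B := p.base C
  set J' : Subgroup ↥(CC p.zb) := (p.img T.J).subgroupOf (CC p.zb) with hJ'
  have hBJ : ∀ {q : p.X}, q ∈ p.img T.J → q ∈ CC p.zb := fun hq => B.JC hq
  haveI hJ'n : J'.Normal := ⟨fun x hx h => B.norm h h.2 x hx⟩
  have hJ'2 : IsPGroup 2 ↥J' := (IsPGroup.of_card (n := 10) (by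
    show Nat.card ↥B.J = _; rw [B.card_J]; norm_num) : IsPGroup 2 ↥(p.img T.J)).comap_subtype
  have hcore : pCore 2 ↥(CC p.zb) = J' := by
    refine le_antisymm (fun x hx => ?_) (Grp.le_pCore hJ'n hJ'2)
    refine B.core ((pCore 2 ↥(CC p.zb)).map (CC p.zb).subtype) (Subgroup.map_subtype_le _) ?_
      ((Grp.pCore_isPGroup (p := 2)).map _) ⟨x, hx, rfl⟩
    rintro h hh _ ⟨y, hy, rfl⟩
    exact ⟨⟨h, hh⟩ * y * ⟨h, hh⟩⁻¹, (Grp.pCore_isNormal (p := 2)).conj_mem y hy _, rfl⟩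
  have hzE : T.z ∈ T.E := by
    haveI : Nontrivial ↥(Subgroup.center ↥T.E) := Finite.one_lt_card_iff_nontrivial.1 (by rw [T.E_extra.2]; norm_num)
    obtain ⟨⟨e, he⟩, hne⟩ := exists_ne (1 : ↥(Subgroup.center ↥T.E))
    have hZ : T.InZ (e : G) := T.cen _ (T.JC (T.EJ e.2)) fun y hy => by
      obtain ⟨f, hf, hz⟩ := T.E_split y hy
      have hfe : (e : G) * f = f * e := (congrArg Subtype.val (Subgroup.mem_center_iff.1 he ⟨f, hf⟩)).symm
      calc (e : G) * y = (e : G) * f * (f⁻¹ * y) := by group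
        _ = f * ((e : G) * (f⁻¹ * y)) := by rw [hfe, mul_assoc]
        _ = f * ((f⁻¹ * y) * e) := by rw [T.inZ_comm (T.JN (T.EJ e.2)) hz]
        _ = y * e := by group
    rcases T.E_centre e e.2 hZ with k | k
    · exact absurd (Subtype.ext (Subtype.ext k) : (⟨e, he⟩ : ↥(Subgroup.center ↥T.E)) = 1) hne
    · exact k ▸ e.2
  -- the extraspecial part and the group of order two
  let A' : Subgroup ↥(CC p.zb) := Subgroup.zpowers ⟨p.db, B.JC B.dJ⟩
  let ε : ↥T.E →* ↥(CC p.zb) :=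
    { toFun := fun e => ⟨p.bar e (p.J_v (T.EJ e.2)), hBJ ((p.mem_img p.v_J _).2 (T.EJ e.2))⟩
      map_one' := rfl
      map_mul' := fun _ _ => rfl }
  have hεinj : Function.Injective ε := by
    refine (injective_iff_map_eq_one ε).2 fun e he => Subtype.ext ?_
    have := (p.mk_eq_one _).1 (congrArg Subtype.val he)
    refine this.resolve_right fun k => ?_
    rcases T.E_centre e e.2 (k ▸ p.v_inZ) with f | f
    · exact p.v_ne (k.symm.trans f)
    · exact p.v_z (k.symm.trans f)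
  have hA2 : Nat.card ↥A' = 2 := by
    rw [Nat.card_zpowers, ← Subgroup.orderOf_coe]
    exact orderOf_eq_prime (by rw [pow_two]; exact B.dd) B.d_ne
  have hE' : ε.range ≤ J' := by
    rintro _ ⟨e, rfl⟩; exact (p.mem_img p.v_J _).2 (T.EJ e.2)
  have hA' : A' ≤ J' := Subgroup.zpowers_le.2 B.dJ
  have hdp : IsInternalDirectProduct A' ε.range J' := by
    have hdd : (⟨p.db, B.JC B.dJ⟩ : ↥(CC p.zb)) * ⟨p.db, B.JC B.dJ⟩ = 1 := Subtype.ext B.dd
    have hmem : ∀ a ∈ A', a = 1 ∨ (a : p.X) = p.db := fun a ha =>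
      (mem_zpowers_two hdd ha).imp_right (congrArg Subtype.val)
    refine ⟨hA', hE', fun a ha b hb => Subtype.ext ?_, ?_, ?_⟩
    · rcases hmem a ha with rfl | e
      · simp
      · push_cast; rw [e]
        exact (B.dN _ (B.JN (hE' hb))).symm
    · refine (Subgroup.eq_bot_iff_forall _).2 fun a ha => ?_
      obtain ⟨ha1, e, rfl⟩ := ha
      refine (hmem _ ha1).resolve_right fun k => ?_
      have h1 : p.bar (e : G) (p.J_v (T.EJ e.2)) = p.db := k
      have hz' : T.InZ (e : G) := by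
        rcases (p.mk_eq _ _).1 h1.symm with f | f <;> rw [f]
        · exact T.inZ_of_W p.hd
        · exact T.inZ_mul (T.inZ_of_W p.hd) p.v_inZ
      rcases T.E_centre e e.2 hz' with f | f
      · exact B.d_ne (h1.symm.trans ((p.mk_eq_one _).2 (Or.inl f)))
      · exact B.dz (h1.symm.trans ((p.mk_eq _ _).2 (Or.inl f.symm)))
    · refine le_antisymm (sup_le hA' hE') fun q hq => ?_
      obtain ⟨x, hx, e, hxJ⟩ := p.exists_rep_img (S := T.J) (q := (q : p.X)) hq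
      obtain ⟨f, hf, hz₀⟩ := T.E_split x hxJ
      have hz : T.InZ (f⁻¹ * x) := hz₀
      have hfJ := T.EJ hf
      have hz' : (⟨p.zb, B.JC B.zJ⟩ : ↥(CC p.zb)) ∈ ε.range := ⟨⟨T.z, hzE⟩, rfl⟩
      have hq' : q = ε ⟨f, hf⟩ * ⟨p.bar (f⁻¹ * x) (p.J_v (T.inZ_mem hz)),
          hBJ ((p.mem_img p.v_J _).2 (T.inZ_mem hz))⟩ := by
        refine Subtype.ext ?_
        rw [e]
        show p.bar x hx = p.bar f _ * p.bar (f⁻¹ * x) _
        rw [p.mk_mul, p.mk_eq]
        left; group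
      rw [hq']
      refine mul_mem (Subgroup.mem_sup_right ⟨_, rfl⟩) ?_
      rcases p.mk_cen (p.J_v (T.inZ_mem hz)) hz with k | k | k | k
      · convert one_mem (A' ⊔ ε.range) using 1
        exact Subtype.ext k
      · convert (Subgroup.mem_sup_right hz' : (⟨p.zb, B.JC B.zJ⟩ : ↥(CC p.zb)) ∈ A' ⊔ ε.range) using 1
        exact Subtype.ext k
      · convert (Subgroup.mem_sup_left (Subgroup.mem_zpowers _) :
          (⟨p.db, B.JC B.dJ⟩ : ↥(CC p.zb)) ∈ A' ⊔ ε.range) using 1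
        exact Subtype.ext k
      · convert (mul_mem (Subgroup.mem_sup_left (Subgroup.mem_zpowers _)) (Subgroup.mem_sup_right hz') :
          (⟨p.db, B.JC B.dJ⟩ * ⟨p.zb, B.JC B.zJ⟩ : ↥(CC p.zb)) ∈ A' ⊔ ε.range) using 1
        exact Subtype.ext k
  have hext : IsExtraspecial 2 ↥ε.range :=
    Grp.ExtraCentSimple.isExtraspecial_equiv (MonoidHom.ofInjective hεinj) T.E_extra
  have hcardE : Nat.card ↥ε.range = 2 ^ 9 := by
    rw [← Nat.card_congr (MonoidHom.ofInjective hεinj).toEquiv, T.card_E]; norm_num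
  let zc : ↥(CC p.zb) := ⟨p.zb, B.JC B.zJ⟩
  have hder : ⁅J', J'⁆ = Subgroup.zpowers zc := by
    refine le_antisymm (Subgroup.commutator_le.2 fun a ha b hb => ?_) (Subgroup.zpowers_le.2 ?_)
    · rcases B.comm (a : p.X) ha (b : p.X) hb with e | e
      · rw [commutatorElement_eq_one_iff_mul_comm.2 (Subtype.ext e)]; exact one_mem _
      · have : ⁅a, b⁆ = zc := Subtype.ext (by
          rw [commutatorElement_def]; push_cast
          rw [e, show (b : p.X) * a * B.z * (a : p.X)⁻¹ * (b : p.X)⁻¹ =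
            (b : p.X) * a * (B.z * ((b : p.X) * a)⁻¹) by group,
            ← B.comm_z (inv_mem (mul_mem b.2 a.2)), mul_inv_cancel_left]
          rfl)
        rw [this]; exact Subgroup.mem_zpowers _
    · obtain ⟨n, hn, hb⟩ := (p.chart C).nondeg (a := 1) (by norm_num) one_ne_zero
      obtain ⟨a, ha, ea⟩ := (p.chart C).surj 1 (by norm_num)
      obtain ⟨b, hb', eb⟩ := (p.chart C).surj n hn
      rw [← ea, ← eb] at hb
      have hne := ((p.chart C).bq_iff ha hb').1 hb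
      have hk := Subgroup.commutator_mem_commutator (G := ↥(CC p.zb)) (g₁ := ⟨a, B.JC ha⟩) (g₂ := ⟨b, B.JC hb'⟩)
        (H₁ := J') (H₂ := J') ha hb'
      have e := (B.comm _ ha _ hb').resolve_left hne
      have : ⁅(⟨a, B.JC ha⟩ : ↥(CC p.zb)), ⟨b, B.JC hb'⟩⁆ = zc := Subtype.ext (by
        rw [commutatorElement_def]; push_cast
        rw [e, show b * a * B.z * a⁻¹ * b⁻¹ = b * a * (B.z * (b * a)⁻¹) by group,
          ← B.zJ_comm (inv_mem (mul_mem hb' ha)), mul_inv_cancel_left]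
        rfl)
      rwa [this] at hk
  have hcen : Subgroup.centralizer (J' : Set ↥(CC p.zb)) ≤ J' := fun x hx =>
    B.inV_mem (B.inV_of_cen x.2 fun y hy =>
      (congrArg Subtype.val (Subgroup.mem_centralizer_iff.1 hx ⟨y, B.JC hy⟩ hy)).symm)
  -- the quotient
  have hrep : ∀ q : ↥(CC p.zb), p.rep q.1 ∈ CC T.z := fun q =>
    (p.mem_CC_zb C (p.rep_mem _)).1 (by rw [p.bar_rep]; exact q.2)
  let ψ : ↥(CC p.zb) →* MulAut (PSp 2 F) := MonoidHom.mk' (fun q => Q.φ ⟨p.rep q.1, hrep q⟩) fun a b => by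
    rw [← map_mul, ← inv_mul_eq_one, ← map_inv, ← map_mul, Q.ker]
    left
    push_cast
    have e : p.bar (p.rep ((a : p.X) * b)) (p.rep_mem _) =
        p.bar _ (mul_mem (p.rep_mem (a : p.X)) (p.rep_mem (b : p.X))) := by
      rw [← p.mk_mul (p.rep_mem (a : p.X)) (p.rep_mem (b : p.X)), p.bar_rep, p.bar_rep, p.bar_rep]
    rcases (p.mk_eq _ _).1 e with f | f <;> rw [f]
    · simp
    · simp [p.v_J]
  have hψker : ψ.ker = J' := by
    ext q
    show Q.φ _ = 1 ↔ _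
    rw [Q.ker, Subgroup.mem_subgroupOf]
    conv_rhs => rw [← p.bar_rep q.1, p.mem_img p.v_J]
    refine ⟨fun h => ?_, Or.inl⟩
    have e := p.fix_w (hrep q) (p.rep_mem _)
    have key : ∀ k ∈ CC T.z, p.rep q.1 * k ∈ T.J → k * p.w * k⁻¹ = p.w := fun k hk hj => by
      have h1 := mul_inv_eq_iff_eq_mul.2 (T.N_comm (T.JN hj) p.hw)
      have hkW := T.W_norm k hk _ p.hw
      calc k * p.w * k⁻¹ = (p.rep q.1)⁻¹ * (p.rep q.1 * k * p.w * (p.rep q.1 * k)⁻¹) * p.rep q.1 := by group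
        _ = (p.rep q.1)⁻¹ * (p.w * p.rep q.1) := by rw [h1, mul_assoc]
        _ = p.w := by rw [← e, inv_mul_cancel_left]
    rcases h with h | h | h
    · exact h
    · exact absurd (key _ T.cH h) (T.c_moves p.hw p.w1).1
    · exact absurd (key _ (mul_mem T.cH T.cH) h) (T.c_moves p.hw p.w1).2.1
  have hψsurj : Function.Surjective ψ := by
    intro a
    obtain ⟨h, rfl⟩ := Q.surj a
    have hadj : ∃ x, ∃ hx : x ∈ CC T.z, x * p.w = p.w * x ∧ Q.φ ⟨x, hx⟩ = Q.φ h := by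
      have hw' : (h : G)⁻¹ * p.w * h ∈ T.W := by simpa using T.W_norm _ (inv_mem h.2) _ p.hw
      have e0 : p.w = (h : G) * ((h : G)⁻¹ * p.w * h) * (h : G)⁻¹ := by group
      have hc1 : Q.φ ⟨T.c, T.cH⟩ = 1 := (Q.ker _).2 (Or.inr (Or.inr (by
        rw [← mul_assoc, T.c_three]; exact one_mem _)))
      rcases T.W_cases p.hw p.w1 hw' with f | f | f | f <;> rw [f] at e0
      · exact absurd (e0.trans (by group)) p.w1
      · exact ⟨h, h.2, mul_inv_eq_iff_eq_mul.1 e0.symm, rfl⟩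
      · refine ⟨_, mul_mem h.2 T.cH, mul_inv_eq_iff_eq_mul.1 ?_, ?_⟩
        · conv_rhs => rw [e0]
          group
        · rw [show (⟨(h : G) * T.c, mul_mem h.2 T.cH⟩ : ↥(CC T.z)) = h * ⟨T.c, T.cH⟩ from rfl, map_mul, hc1, mul_one]
      · refine ⟨_, mul_mem h.2 (mul_mem T.cH T.cH), mul_inv_eq_iff_eq_mul.1 ?_, ?_⟩
        · conv_rhs => rw [e0]
          group
        · rw [show (⟨(h : G) * (T.c * T.c), mul_mem h.2 (mul_mem T.cH T.cH)⟩ : ↥(CC T.z)) =
            h * (⟨T.c, T.cH⟩ * ⟨T.c, T.cH⟩) from rfl, map_mul, map_mul, hc1, mul_one, mul_one]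
    obtain ⟨x, hxH, hxw, hxφ⟩ := hadj
    have hxv : x ∈ CC p.v := Subgroup.mem_centralizer_singleton_iff.2 ((p.comm_iff hxH).2 hxw)
    refine ⟨⟨p.bar x hxv, (p.mem_CC_zb C hxv).2 hxH⟩, ?_⟩
    show Q.φ _ = _
    rw [← hxφ, ← inv_mul_eq_one, ← map_inv, ← map_mul, Q.ker]
    left
    rcases p.rep_bar hxv with f | f <;> push_cast <;> rw [f]
    · simp
    · rw [mul_inv_rev, p.v_inv, mul_assoc, inv_mul_cancel, mul_one]; exact p.v_J
  have hz2 : orderOf p.zb = 2 := orderOf_eq_prime (by rw [pow_two]; exact B.zz) B.z_ne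
  haveI : (pCore 2 ↥(CC p.zb)).Normal := Grp.pCore_isNormal
  let e₁ : (↥(CC p.zb) ⧸ pCore 2 ↥(CC p.zb)) ≃* MulAut (PSp 2 F) :=
    (QuotientGroup.quotientMulEquivOfEq (hcore.trans hψker.symm)).trans
      (QuotientGroup.quotientKerEquivOfSurjective ψ hψsurj)
  rcases hR p.X p.zb hz2 A' ε.range (by rw [hcore]; exact hdp) hA2 hext hcardE zc rfl (by rw [hcore]; exact hder)
    (by rw [hcore]; exact hcen) e₁ with h | ⟨z₁, ho, hne, ⟨h₁, hJ, hc⟩, hn, G₀, hz₁, hidx, hn', ⟨f⟩⟩ | h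
  · exact Or.inl h
  · refine Or.inr (Or.inl ⟨z₁, ?_, ?_, fun x => ?_, G₀, hidx, hz₁,
      f.toMonoidHom.comp (QuotientGroup.mk' _), f.surjective.comp (QuotientGroup.mk'_surjective _), fun x => ?_⟩)
    · rw [hcore] at hJ hc
      have hV : B.InV z₁ := B.inV_of_cen (B.JC hJ) fun y hy =>
        (congrArg Subtype.val (hc ⟨y, B.JC hy⟩ hy)).symm
      rcases hV with k | k | k | k
      · rw [k, orderOf_one] at ho; norm_num at ho
      · exact absurd (k ▸ Subgroup.mem_zpowers B.z) hne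
      · exact Or.inl k
      · exact Or.inr k
    · rw [← pow_two, ← ho, pow_orderOf_eq_one]
    · have hm := hn.conj_mem z₁ (Subgroup.mem_zpowers z₁) x
      have hzz : z₁ * z₁ = 1 := by rw [← pow_two, ← ho, pow_orderOf_eq_one]
      rcases mem_zpowers_two hzz hm with e | e
      · rw [conj_eq_one_iff.1 e, orderOf_one] at ho
        norm_num at ho
      · exact mul_inv_eq_iff_eq_mul.1 e
    · show f (QuotientGroup.mk x) = 1 ↔ _
      rw [map_eq_one_iff _ f.injective, QuotientGroup.eq_one_iff, Subgroup.mem_subgroupOf]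
      refine ⟨fun h => mem_zpowers_two (by rw [← pow_two, ← ho, pow_orderOf_eq_one]) h, ?_⟩
      rintro (e | e) <;> rw [e]
      exacts [one_mem _, Subgroup.mem_zpowers _]
  · exact Or.inr (Or.inr h)

end Pt

end Cfsg.Agent.Fus.Fi23Two
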